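import Groth.Agent.H4.LineLift
import Groth.Agent.S2345
import Groth.Agent.S2500
import Groth.Agent.Lib.JacCrit.OverField
import Groth.Agent.Lib.GrpSch.SmoothReduced
import Groth.Agent.Lib.SchTopo.Basic
import Mathlib.AlgebraicGeometry.AlgClosed.Basic

/-!
# Smooth complete curves through prescribed points
-/

set_option autoImplicit false
set_option linter.style.haveILetI false
universe u

open CategoryTheory CategoryTheory.Limits AlgebraicGeometry TopologicalSpace MvPolynomial
open Groth.Agent.Lib.Normalization

attribute [local instance] Curv2.stalkAlgebra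

namespace Groth.Agent.H4.CurveThrough

theorem isAlgebraic_of_fraction {E L D : Type u} [Field E] [Field L] [Algebra E L] [CommRing D]
    [IsDomain D] [Algebra D L] [IsFractionRing D L] (h : ∀ d : D, IsIntegral E (algebraMap D L d)) :
    Algebra.IsAlgebraic E L := by
  refine ⟨fun x => ?_⟩
  obtain ⟨a, b, -, rfl⟩ := IsFractionRing.div_surjective (A := D) x
  rw [div_eq_mul_inv]
  exact ((h a).mul ((h b).inv)).isAlgebraic

theorem smooth_of_regular_closed {X : Scheme.{u}} {k : Type u} [Field k] [PerfectField k]
    (f : X ⟶ Spec (CommRingCat.of k)) [LocallyOfFiniteType f]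
    (h : ∀ x : X, IsClosed ({x} : Set X) → IsRegularLocalRing (X.presheaf.stalk x)) : Smooth f := by
  haveI : LocallyOfFinitePresentation f :=
    Groth.Agent.Lib.JacCrit.OverField.locallyOfFinitePresentation f
  haveI : JacobsonSpace ↥X := LocallyOfFiniteType.jacobsonSpace f
  rw [← Scheme.Hom.smoothLocus_eq_top_iff]
  refine top_le_iff.mp fun x _ => ?_
  by_contra hx
  obtain ⟨y, hy, hyc⟩ := nonempty_inter_closedPoints
    (Z := ((f.smoothLocus : Set X))ᶜ) ⟨x, hx⟩ f.smoothLocus.2.isClosed_compl.isLocallyClosed
  exact hy (Groth.Agent.Lib.JacCrit.OverField.mem_smoothLocus_of_isRegular f y (h y hyc))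

theorem isRegularLocalRing_of_normal_dimOne (R : Type u) [CommRing R] [IsDomain R] [IsLocalRing R]
    [IsNoetherianRing R] [IsIntegrallyClosed R] (h : ringKrullDim R = 1) : IsRegularLocalRing R := by
  have hnf : ¬ IsField R := fun hf => by
    letI := hf.toField
    rw [ringKrullDim_eq_zero_of_field R] at h
    exact zero_ne_one h
  haveI : Ring.KrullDimLE 1 R := Ring.krullDimLE_iff.mpr (le_of_eq h)
  haveI : Ring.DimensionLEOne R :=
    ⟨fun hp hP => Ring.krullDimLE_one_iff_of_noZeroDivisors.1 ‹_› _ hp hP⟩
  haveI : IsDedekindDomain R := {}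
  haveI : IsDiscreteValuationRing R :=
    ((IsDiscreteValuationRing.TFAE R hnf).out 2 0 (rfl) (rfl)).mp inferInstance
  infer_instance

set_option maxHeartbeats 1600000 in
/-- A smooth complete curve mapping onto a prescribed point and out of a given closed subset. -/
theorem exists_curve (k : Type u) [Field k] [IsAlgClosed k] (R : Type u) [CommRing R] [IsDomain R]
    [Algebra k R] [Algebra.FiniteType k R] (m₀ : Ideal R) [m₀.IsMaximal] (J : Ideal R) (hJ : J ≠ ⊥)
    (hJm : J ≤ m₀) :
    ∃ (C : Over (Spec (CommRingCat.of k))) (U : C.left.Opens)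
      (v : (U : Scheme.{u}) ⟶ Spec (CommRingCat.of R)) (c₀ c₁ : (U : Scheme.{u})),
      Smooth C.hom ∧ IsProper C.hom ∧ GeometricallyIntegral C.hom ∧
      v ≫ Spec.map (CommRingCat.ofHom (algebraMap k R)) = U.ι ≫ C.hom ∧
      IsClosed ({c₀.1} : Set C.left) ∧ IsClosed ({c₁.1} : Set C.left) ∧
      (v c₀).asIdeal = m₀ ∧ ¬ J ≤ (v c₁).asIdeal := by
  classical
  obtain ⟨P₀, τ, m₁, hP, hPm₀, hτ, hτi, hm₁, hPm₁, hJm₁⟩ :=
    LineLift.exists_curve_quotient k R m₀ J hJ hJm
  haveI := hP
  haveI := hm₁
  let D := R ⧸ P₀
  let L := FractionRing D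
  let P := CohB1.ProjSpace 1 k
  letI : P.Over (Spec (CommRingCat.of k)) := ⟨CohB1.ProjSpace.toSpec 1 k⟩
  haveI : IsIntegral P := inferInstance
  haveI : IsProper (P ↘ Spec (CommRingCat.of k)) :=
    Groth.Agent.Lib.ProjSpace.Basic.isProper_toSpec 1 k
  let a : MvPolynomial (Fin 1) k →+* L := (algebraMap D L).comp τ.toRingHom
  have ha : Function.Injective a := (IsFractionRing.injective D L).comp hτ
  let c := Groth.Agent.Lib.ProjSpace.Basic.chartι k (0 : Fin (1 + 1))
  let g : Spec (CommRingCat.of L) ⟶ P := Spec.map (CommRingCat.ofHom a) ≫ c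
  have hgk : g ≫ P ↘ Spec (CommRingCat.of k) = Spec.map (CommRingCat.ofHom (algebraMap k L)) := by
    show (Spec.map (CommRingCat.ofHom a) ≫ c) ≫ CohB1.ProjSpace.toSpec 1 k = _
    rw [Category.assoc, Groth.Agent.Lib.ProjSpace.Basic.chartι_toSpec, ← Spec.map_comp,
      ← CommRingCat.ofHom_comp]
    congr 2
    refine RingHom.ext fun r => ?_
    show algebraMap D L (τ (MvPolynomial.C r)) = _
    rw [← MvPolynomial.algebraMap_eq, AlgHom.commutes, ← IsScalarTower.algebraMap_apply]
  have hη : g (IsLocalRing.closedPoint L) = genericPoint P := by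
    have h0 : Spec.map (CommRingCat.ofHom a) (IsLocalRing.closedPoint L) =
        genericPoint (Spec (CommRingCat.of (MvPolynomial (Fin 1) k))) :=
      (S2345.genericPoint_eq_of_isIntegral_spec a ha).trans rfl
    show c (Spec.map (CommRingCat.ofHom a) (IsLocalRing.closedPoint L)) = _
    rw [h0]
    exact genericPoint_eq_of_isOpenImmersion c
  let φ : P.functionField →+* L := S2345.closedTo g (genericPoint P) hη
  have hg := S2345.specMap_closedTo g (genericPoint P) hη
  haveI : QuasiCompact g := inferInstance
  haveI : QuasiSeparated g := inferInstance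
  have hφk : ∀ r : k, φ (algebraMap k (P.presheaf.stalk (genericPoint P)) r) = algebraMap k L r :=
    S2345.closedTo_stalkMap g hgk _ hη
  have hφ : φ.Finite := by
    letI : Algebra k P.functionField := Curv2.stalkAlgebra k P (genericPoint P)
    let φ' : P.functionField →ₐ[k] L := { toRingHom := φ, commutes' := hφk }
    let E := φ'.fieldRange
    have haE : ∀ y, a y ∈ E := fun y => by
      obtain ⟨σ, hσ⟩ := S2345.exists_germ_eq_of_chart c g a rfl hη y
      exact ⟨σ, hσ⟩
    let aE : MvPolynomial (Fin 1) k →+* E := a.codRestrict E haE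
    haveI : Algebra.IsAlgebraic E L := by
      refine isAlgebraic_of_fraction (D := D) fun d => ?_
      obtain ⟨p, hpm, hp⟩ := hτi d
      refine ⟨p.map aE, hpm.map aE, ?_⟩
      rw [Polynomial.eval₂_map, show (algebraMap E L).comp aE = a from rfl,
        ← Polynomial.hom_eval₂, hp, map_zero]
    haveI : Algebra.EssFiniteType D L := .of_isLocalization L (nonZeroDivisors D)
    haveI : Algebra.EssFiniteType k L := .comp k D L
    haveI : Algebra.EssFiniteType E L := Algebra.EssFiniteType.of_comp k E L
    have hEfin : (algebraMap E L).Finite :=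
      RingHom.finite_algebraMap.2 Algebra.finite_of_essFiniteType_of_isAlgebraic
    have : φ = (algebraMap E L).comp φ'.rangeRestrict.toRingHom := rfl
    rw [this]
    exact hEfin.comp (RingHom.Finite.of_surjective _ φ'.rangeRestrict_surjective)
  haveI := InFieldVariety.isFinite_of_locallyOfFiniteType k P L φ hφ g hg
  haveI hint : IsIntegral g.normalization := InField.isIntegral_normalization g
  let C : Over (Spec (CommRingCat.of k)) :=
    Over.mk (g.fromNormalization ≫ P ↘ Spec (CommRingCat.of k))
  haveI : IsProper C.hom := inferInstanceAs (IsProper (g.fromNormalization ≫ P ↘ Spec (CommRingCat.of k)))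
  haveI : IsLocallyNoetherian g.normalization :=
    LocallyOfFiniteType.isLocallyNoetherian C.hom
  haveI : Smooth C.hom := by
    refine smooth_of_regular_closed C.hom fun x hx => ?_
    haveI : IsDomain (C.left.presheaf.stalk x) := (InField.isNormalScheme φ g hg x).1
    haveI : IsIntegrallyClosed (C.left.presheaf.stalk x) := (InField.isNormalScheme φ g hg x).2
    haveI : IsLocallyNoetherian C.left := LocallyOfFiniteType.isLocallyNoetherian C.hom
    refine isRegularLocalRing_of_normal_dimOne _
      (InField.ringKrullDim_stalk_eq_one φ g hg x (S2345.ringKrullDim_stalk_projLine k _ ?_))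
    simpa using g.fromNormalization.isClosedMap _ hx
  haveI : GeometricallyIntegral C.hom := by
    haveI : IrreducibleSpace ↥C.left := inferInstanceAs (IrreducibleSpace ↥g.normalization)
    haveI := S2500.result C.hom
    haveI := Lib.GrpSch.geometricallyReduced_of_smooth_field C.hom
    exact GeometricallyIntegral.of_geometricallyReduced_of_geometricallyIrreducible (f := C.hom)
  -- the affine chart
  let g' := pullback.snd g c
  let q : Spec (CommRingCat.of D) ⟶ Spec (CommRingCat.of (MvPolynomial (Fin 1) k)) :=
    Spec.map (CommRingCat.ofHom τ.toRingHom)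
  haveI : IsIntegralHom q := by
    simp only [q]
    rw [IsIntegralHom.SpecMap_iff]
    exact hτi
  let sL : Spec (CommRingCat.of L) ⟶ Spec (CommRingCat.of D) :=
    Spec.map (CommRingCat.ofHom (algebraMap D L))
  let f₁ := pullback.fst g c ≫ sL
  have hf₁ : g' = f₁ ≫ q := by
    rw [← cancel_mono c]
    have : sL ≫ q ≫ c = g := by
      simp only [sL, q, g, a]
      rw [← Category.assoc, ← Spec.map_comp]
      rfl
    simp only [f₁, g', Category.assoc, this, pullback.condition]
  let d := g'.normalizationDesc f₁ q hf₁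
  haveI : Surjective d := by
    haveI : IsDominant f₁ := by
      haveI : Surjective (pullback.fst g c) := ⟨fun z => by
        obtain ⟨p, hp, -⟩ := Scheme.Pullback.exists_preimage_pullback (f := g) (g := c) z
          (Spec.map (CommRingCat.ofHom a) z) rfl
        exact ⟨p, hp⟩⟩
      haveI : IsDominant sL := by
        rw [isDominant_iff, denseRange_iff_closure_range]
        exact ((PrimeSpectrum.denseRange_comap_iff_ker_le_nilRadical _).mpr
          (le_of_eq_of_le ((RingHom.injective_iff_ker_eq_bot _).mp (IsFractionRing.injective D L))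
            bot_le)).closure_range
      simp only [f₁]
      infer_instance
    haveI : IsDominant d := by
      haveI : IsDominant (g'.toNormalization ≫ d) := by
        rw [Scheme.Hom.toNormalization_normalizationDesc]; infer_instance
      exact IsDominant.of_comp g'.toNormalization d
    exact surjective_of_isDominant_of_isClosed_range d d.isClosedMap.isClosed_range
  let ψ : g'.normalization ⟶ pullback g.fromNormalization c := g.normalizationPullback c
  haveI : IsIso ψ := inferInstanceAs (IsIso (g.normalizationPullback c))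
  let j : pullback g.fromNormalization c ⟶ C.left := pullback.fst g.fromNormalization c
  haveI : IsOpenImmersion j := inferInstanceAs (IsOpenImmersion (pullback.fst g.fromNormalization c))
  let U : C.left.Opens := j.opensRange
  let sD : Spec (CommRingCat.of D) ⟶ Spec (CommRingCat.of R) :=
    Spec.map (CommRingCat.ofHom (Ideal.Quotient.mk P₀))
  let v : (U : Scheme.{u}) ⟶ Spec (CommRingCat.of R) := j.isoOpensRange.inv ≫ inv ψ ≫ d ≫ sD
  have hv : v ≫ Spec.map (CommRingCat.ofHom (algebraMap k R)) = U.ι ≫ C.hom := by
    have h1 : sD ≫ Spec.map (CommRingCat.ofHom (algebraMap k R)) =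
        q ≫ c ≫ P ↘ Spec (CommRingCat.of k) := by
      show _ = q ≫ c ≫ CohB1.ProjSpace.toSpec 1 k
      rw [Groth.Agent.Lib.ProjSpace.Basic.chartι_toSpec]
      simp only [sD, q]
      rw [← Spec.map_comp, ← Spec.map_comp]
      congr 1
      apply CommRingCat.hom_ext
      refine RingHom.ext fun r => ?_
      exact ((τ.commutes r).trans rfl).symm
    simp only [v, Category.assoc, h1]
    rw [show d ≫ q ≫ c ≫ P ↘ Spec (CommRingCat.of k) = ψ ≫ pullback.snd g.fromNormalization c ≫ c ≫
        P ↘ Spec (CommRingCat.of k) by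
      simp only [d, ψ, g']
      rw [Scheme.Hom.normalizationDesc_comp_assoc, Scheme.Hom.normalizationPullback_snd_assoc],
      IsIso.inv_hom_id_assoc, ← pullback.condition_assoc,
      ← Scheme.Hom.isoOpensRange_inv_comp j]
    simp only [Category.assoc]
    rfl
  haveI : JacobsonSpace ↥C.left := LocallyOfFiniteType.jacobsonSpace C.hom
  have hpt : ∀ m : Ideal R, m.IsMaximal → P₀ ≤ m →
      ∃ z : (U : Scheme.{u}), IsClosed ({z.1} : Set C.left) ∧ (v z).asIdeal = m := by
    intro m hm hPm
    haveI := hm
    haveI : (m.map (Ideal.Quotient.mk P₀)).IsMaximal :=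
      Ideal.IsMaximal.map_of_surjective_of_ker_le Ideal.Quotient.mk_surjective (by rwa [Ideal.mk_ker])
    let pm : PrimeSpectrum D := ⟨m.map (Ideal.Quotient.mk P₀), inferInstance⟩
    have hpm : IsClosed ({pm} : Set (Spec (CommRingCat.of D))) :=
      (PrimeSpectrum.isClosed_singleton_iff_isMaximal _).mpr ‹_›
    obtain ⟨n, hn⟩ := Surjective.surj (f := d) pm
    have hnc : IsClosed ({n} : Set g'.normalization) := by
      refine closure_eq_iff_isClosed.mp (Set.Subset.antisymm (fun y hy => ?_) subset_closure)
      have hny : n ⤳ y := specializes_iff_mem_closure.mpr hy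
      have : d y = pm := by
        have h2 := (hny.map d.continuous).mem_closed hpm (by rw [hn]; rfl)
        exact h2
      exact (Groth.Agent.Lib.SchTopo.Basic.isIntegralHom_eq_of_specializes d hny (by rw [hn, this])).symm
    let z : (U : Scheme.{u}) := j.isoOpensRange.hom (ψ n)
    have hz1 : IsClosed ({z} : Set (U : Scheme.{u})) := by
      have := (Scheme.homeoOfIso (asIso ψ ≪≫ j.isoOpensRange)).isClosedMap _ hnc
      rw [Set.image_singleton] at this
      exact this
    refine ⟨z, ?_, ?_⟩
    · apply isClosed_singleton_of_isLocallyClosed_singleton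
      have := hz1.isLocallyClosed.image U.ι.isEmbedding.isInducing
        (U.ι.isOpenEmbedding.isOpen_range.isLocallyClosed)
      rwa [Set.image_singleton] at this
    · have : v z = sD pm := by
        change (j.isoOpensRange.hom ≫ j.isoOpensRange.inv ≫ inv ψ ≫ d ≫ sD) (ψ n) = _
        rw [Iso.hom_inv_id_assoc, ← Scheme.Hom.comp_apply, IsIso.hom_inv_id_assoc,
          Scheme.Hom.comp_apply, hn]
      rw [this]
      change (m.map (Ideal.Quotient.mk P₀)).comap (Ideal.Quotient.mk P₀) = m
      rw [Ideal.comap_map_of_surjective _ Ideal.Quotient.mk_surjective, ← RingHom.ker_eq_comap_bot,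
        Ideal.mk_ker]
      exact sup_eq_left.mpr hPm
  obtain ⟨z₀, hz₀, hz₀m⟩ := hpt m₀ inferInstance hPm₀
  obtain ⟨z₁, hz₁, hz₁m⟩ := hpt m₁ inferInstance hPm₁
  exact ⟨C, U, v, z₀, z₁, inferInstance, inferInstance, inferInstance, hv, hz₀, hz₁, hz₀m,
    hz₁m ▸ hJm₁⟩

end Groth.Agent.H4.CurveThrough
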