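import Groth.Agent.H4.Indet

/-!
# Rational maps from smooth varieties to proper group schemes are defined everywhere
-/

set_option autoImplicit false
universe u

open CategoryTheory CategoryTheory.Limits AlgebraicGeometry TopologicalSpace MonoidalCategory
  CartesianMonoidalCategory MonObj
open Groth.Agent.H26.SectionExtend

namespace Groth.Agent.H4.WeilExt

variable {K : Type u} [Field K]

/-- A rational map from a smooth variety to a proper group scheme extends to the whole variety. -/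
theorem exists_extension {X A : Over (Spec (CommRingCat.of K))}
    [Smooth X.hom] [IsSeparated X.hom] [QuasiCompact X.hom] [GeometricallyIntegral X.hom]
    [GrpObj A] [IsProper A.hom]
    (U : X.left.Opens) (hU : (U : Set X.left).Nonempty)
    (f : (U : Scheme.{u}) ⟶ A.left) (hf : f ≫ A.hom = U.ι ≫ X.hom) :
    ∃ g : X.left ⟶ A.left, g ≫ A.hom = X.hom ∧ U.ι ≫ g = f := by
  haveI : IsLocallyNoetherian X.left := LocallyOfFiniteType.isLocallyNoetherian X.hom
  haveI : IsIntegral X.left := GeometricallyIntegral.isIntegral_of_subsingleton X.hom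
  haveI : IsLocallyNoetherian (Spec (CommRingCat.of K)) := inferInstance
  have hreg : ∀ y : X.left, ringKrullDim (X.left.presheaf.stalk y) ≤ 1 →
      IsRegularLocalRing (X.left.presheaf.stalk y) := fun y _ =>
    Groth.Agent.Lib.Cyc.SmoothReg.isRegularLocalRing_stalk X.hom y
  obtain ⟨u₀, hu₀⟩ := hU
  have hd : Dense (U : Set X.left) := U.2.dense ⟨u₀, hu₀⟩
  let s : (U : Scheme.{u}) ⟶ pullback A.hom X.hom := pullback.lift f U.ι hf
  obtain ⟨U₁, hle, s', hs', hext, hU₁⟩ := Groth.Agent.H4.RatExt.exists_ext hreg (pullback.snd A.hom X.hom)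
    (pullback.snd A.hom X.hom).isClosedMap U hd s (pullback.lift_snd _ _ _)
  let f₁ : (U₁ : Scheme.{u}) ⟶ A.left := s' ≫ pullback.fst A.hom X.hom
  have hf₁ : f₁ ≫ A.hom = U₁.ι ≫ X.hom := by
    simp only [f₁, Category.assoc]
    rw [pullback.condition, reassoc_of% hs']
  have hf₁' : X.left.homOfLE hle ≫ f₁ = f := by
    simp only [f₁]
    rw [← Category.assoc, hext, pullback.lift_fst]
  have hall : ∀ x : X.left, ∃ (V : X.left.Opens) (g : (V : Scheme.{u}) ⟶ A.left), x ∈ V ∧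
      g ≫ A.hom = V.ι ≫ X.hom ∧
      X.left.homOfLE (inf_le_right : U₁ ⊓ V ≤ V) ≫ g =
        X.left.homOfLE (inf_le_left : U₁ ⊓ V ≤ U₁) ≫ f₁ := by
    intro x
    by_contra hc
    push Not at hc
    obtain ⟨y, -, hy1, hy⟩ := Groth.Agent.H4.Indet.exists_codimOne U₁ ⟨u₀, hle hu₀⟩ f₁ hf₁ x
      (fun V g hxV hg => hc V g hxV hg)
    exact hy U₁ f₁ (hU₁ y hy1.le) hf₁ rfl
  choose V g hxV hgw hgs using hall
  obtain ⟨G, hG⟩ := exists_glue V g fun i j => by
    have hne : genericPoint X.left ∈ V i ⊓ V j := ⟨Indet.gp_mem (hxV i), Indet.gp_mem (hxV j)⟩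
    refine Indet.eq_of_generic A.hom hne (by simp only [Category.assoc, hgw, Scheme.homOfLE_ι_assoc]) ?_
    have h1 : genericPoint X.left ∈ U₁ := Indet.gp_mem (hle hu₀)
    have key : ∀ i, (V i).fromSpecStalkOfMem _ (Indet.gp_mem (hxV i)) ≫ g i =
        U₁.fromSpecStalkOfMem (genericPoint X.left) h1 ≫ f₁ := by
      intro i
      have h2 : genericPoint X.left ∈ U₁ ⊓ V i := ⟨h1, Indet.gp_mem (hxV i)⟩
      have h3 := congrArg ((U₁ ⊓ V i).fromSpecStalkOfMem _ h2 ≫ ·) (hgs i)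
      simpa only [← Category.assoc, Indet.fromSpecStalkOfMem_homOfLE] using h3
    rw [← Category.assoc, Indet.fromSpecStalkOfMem_homOfLE, ← Category.assoc,
      Indet.fromSpecStalkOfMem_homOfLE, key i, key j]
  have htop : (⨆ x, V x) = ⊤ := top_le_iff.mp fun x _ => Opens.mem_iSup.mpr ⟨x, hxV x⟩
  let G' : X.left ⟶ A.left := X.left.topIso.inv ≫ (X.left.isoOfEq htop).inv ≫ G
  have hG' : ∀ i, (V i).ι ≫ G' = g i := fun i => by
    have h2 : (V i).ι ≫ X.left.topIso.inv ≫ (X.left.isoOfEq htop).inv = X.left.homOfLE (le_iSup V i) := by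
      rw [← cancel_mono (⨆ x, V x : X.left.Opens).ι]
      simp
    simp only [G']
    rw [reassoc_of% h2, hG i]
  have hw : G' ≫ A.hom = X.hom :=
    Scheme.Cover.hom_ext (X.left.openCoverOfIsOpenCover V (by exact htop)) _ _ fun (i : X.left) => by
      change (V i).ι ≫ _ = (V i).ι ≫ _
      rw [reassoc_of% (hG' i), hgw i]
  refine ⟨G', hw, ?_⟩
  have h1 : U₁.ι ≫ G' = f₁ := by
    refine Indet.eq_of_generic A.hom (Indet.gp_mem (hle hu₀)) (by rw [hf₁, Category.assoc, hw]) ?_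
    have h1 : genericPoint X.left ∈ U₁ ⊓ V u₀ := ⟨Indet.gp_mem (hle hu₀), Indet.gp_mem (hxV u₀)⟩
    rw [← Indet.fromSpecStalkOfMem_homOfLE (inf_le_left : U₁ ⊓ V u₀ ≤ U₁) h1, Category.assoc,
      Category.assoc, ← hgs u₀, ← hG' u₀, Scheme.homOfLE_ι_assoc, Scheme.homOfLE_ι_assoc]
  rw [← hf₁', ← h1, Scheme.homOfLE_ι_assoc]

end Groth.Agent.H4.WeilExt
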