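import Groth.Agent.H4.CurveThrough
import Groth.Agent.H4.WeilExt
import Groth.Agent.H3.Rigidity
import Groth.Agent.Lib.GrpSch.BaseChange

/-!
# Maps from a product of smooth varieties to an abelian variety trivial on the axes are trivial
-/

set_option autoImplicit false
set_option linter.style.haveILetI false
universe u

open CategoryTheory CategoryTheory.Limits AlgebraicGeometry TopologicalSpace MonoidalCategory
  CartesianMonoidalCategory MonObj
open Groth.Agent.H26.SectionExtend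

namespace Groth.Agent.H4.AxesConst

variable {k : Type u} [Field k]

/-- the image of the point of `Spec k` -/
noncomputable abbrev pt {X : Over (Spec (CommRingCat.of k))}
    (x : 𝟙_ (Over (Spec (CommRingCat.of k))) ⟶ X) : X.left := x.left (IsLocalRing.closedPoint k)

lemma isClosed_pt {X : Over (Spec (CommRingCat.of k))} [IsSeparated X.hom]
    (x : 𝟙_ (Over (Spec (CommRingCat.of k))) ⟶ X) : IsClosed ({pt x} : Set X.left) := by
  have h : x.left ≫ X.hom = 𝟙 _ := Over.w x
  haveI : Subsingleton (𝟙_ (Over (Spec (CommRingCat.of k)))).left :=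
    inferInstanceAs (Subsingleton (PrimeSpectrum k))
  haveI := isClosedImmersion_of_comp_eq_id _ _ h
  have e : Set.range x.left = {pt x} := by
    refine Set.Subset.antisymm ?_ (Set.singleton_subset_iff.mpr ⟨_, rfl⟩)
    rintro _ ⟨z, rfl⟩
    exact congrArg x.left (Subsingleton.elim (α := PrimeSpectrum k) _ _)
  exact e ▸ x.left.isClosedEmbedding.isClosed_range

lemma geometricallyIntegral_tensor [IsAlgClosed k] (V C : Over (Spec (CommRingCat.of k)))
    [Smooth V.hom] [GeometricallyIntegral V.hom] [Smooth C.hom] [GeometricallyIntegral C.hom] :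
    IsIntegral (V ⊗ C).left ∧ GeometricallyIntegral (V ⊗ C).hom := by
  haveI : IsLocallyNoetherian V.left := LocallyOfFiniteType.isLocallyNoetherian V.hom
  haveI : IsIntegral V.left := GeometricallyIntegral.isIntegral_of_subsingleton V.hom
  haveI : UniversallyOpen C.hom := UniversallyOpen.of_flat C.hom
  haveI hi : IsIntegral (V ⊗ C).left := inferInstanceAs (IsIntegral (pullback V.hom C.hom))
  haveI : Smooth (V ⊗ C).hom := by
    rw [Over.tensorObj_hom]
    infer_instance
  haveI := S2500.result (V ⊗ C).hom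
  haveI := Lib.GrpSch.geometricallyReduced_of_smooth_field (V ⊗ C).hom
  exact ⟨hi, GeometricallyIntegral.of_geometricallyReduced_of_geometricallyIrreducible (f := (V ⊗ C).hom)⟩

lemma lift_apply_snd {V W : Over (Spec (CommRingCat.of k))} (a : 𝟙_ _ ⟶ V) (b : 𝟙_ _ ⟶ W) :
    (snd V W).left (pt (lift a b)) = pt b := by
  change (lift a b ≫ snd V W).left _ = _
  rw [lift_snd]

/-- over an algebraically closed field a map which is constant on one fibre and on a horizontal
axis is constant on the fibres through the points of a smooth complete curve -/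
lemma const_along_curve [IsAlgClosed k] (V W A C : Over (Spec (CommRingCat.of k)))
    [Smooth V.hom] [IsSeparated V.hom] [QuasiCompact V.hom] [GeometricallyIntegral V.hom]
    [GrpObj A] [IsProper A.hom]
    [Smooth C.hom] [IsProper C.hom] [GeometricallyIntegral C.hom]
    (v₀ : 𝟙_ _ ⟶ V) (w₀ : 𝟙_ _ ⟶ W) (u₀ : 𝟙_ _ ⟶ A) (φ : V ⊗ W ⟶ A)
    (h1 : lift (𝟙 V) (toUnit V ≫ w₀) ≫ φ = toUnit V ≫ u₀)
    (h2 : lift (toUnit W ≫ v₀) (𝟙 W) ≫ φ = toUnit W ≫ u₀)
    (U : C.left.Opens) (ι' : Indet.sub U ⟶ W) (d₀ d₁ : 𝟙_ _ ⟶ Indet.sub U) (hd₀ : d₀ ≫ ι' = w₀)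
    (v : 𝟙_ _ ⟶ V) : lift v (d₁ ≫ ι') ≫ φ = u₀ := by
  let jU : Indet.sub U ⟶ C := Over.homMk U.ι rfl
  obtain ⟨hint, hgi⟩ := geometricallyIntegral_tensor V C
  haveI := hgi
  haveI : Smooth (V ⊗ C).hom := by rw [Over.tensorObj_hom]; infer_instance
  haveI : IsSeparated (V ⊗ C).hom := by rw [Over.tensorObj_hom]; infer_instance
  haveI : QuasiCompact (V ⊗ C).hom := by rw [Over.tensorObj_hom]; infer_instance
  haveI : IsSeparated C.hom := inferInstance
  haveI : IsIntegral C.left := by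
    haveI : IsLocallyNoetherian C.left := LocallyOfFiniteType.isLocallyNoetherian C.hom
    exact GeometricallyIntegral.isIntegral_of_subsingleton C.hom
  haveI : IsIntegral V.left := by
    haveI : IsLocallyNoetherian V.left := LocallyOfFiniteType.isLocallyNoetherian V.hom
    exact GeometricallyIntegral.isIntegral_of_subsingleton V.hom
  haveI : IsOpenImmersion (V ◁ jU).left := by
    rw [Over.whiskerLeft_left]
    haveI : IsOpenImmersion jU.left := inferInstanceAs (IsOpenImmersion U.ι)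
    infer_instance
  let F₀ : V ⊗ Indet.sub U ⟶ A := (V ◁ ι') ≫ φ
  let O := (V ◁ jU).left.opensRange
  let f : (O : Scheme.{u}) ⟶ A.left := (V ◁ jU).left.isoOpensRange.inv ≫ F₀.left
  have hne : (O : Set (V ⊗ C).left).Nonempty :=
    ⟨(V ◁ jU).left (pt (lift v₀ d₀)), ⟨_, rfl⟩⟩
  have hf : f ≫ A.hom = O.ι ≫ (V ⊗ C).hom := by
    simp only [f, Category.assoc, Over.w F₀]
    rw [Iso.inv_comp_eq, ← Category.assoc, Scheme.Hom.isoOpensRange_hom_ι]
    exact (Over.w (V ◁ jU)).symm
  obtain ⟨G₀, hG₀, hG₀f⟩ := WeilExt.exists_extension (X := V ⊗ C) (A := A) O hne f hf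
  let Ψ : V ⊗ C ⟶ A := Over.homMk G₀ hG₀
  have hΨ : (V ◁ jU) ≫ Ψ = F₀ := by
    apply Over.OverMorphism.ext
    change (V ◁ jU).left ≫ G₀ = _
    rw [← Scheme.Hom.isoOpensRange_hom_ι (V ◁ jU).left, Category.assoc, hG₀f]
    simp only [f, Iso.hom_inv_id_assoc]
  -- on the fibre over `c₀`
  let c₀ : 𝟙_ _ ⟶ C := d₀ ≫ jU
  have e1 : lift (𝟙 V) (toUnit V ≫ c₀) ≫ Ψ = toUnit V ≫ u₀ := by
    have : lift (𝟙 V) (toUnit V ≫ c₀) = lift (𝟙 V) (toUnit V ≫ d₀) ≫ (V ◁ jU) := by
      rw [lift_whiskerLeft, Category.assoc]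
    rw [this, Category.assoc, hΨ, ← h1, ← Category.assoc, lift_whiskerLeft, Category.assoc, hd₀]
  -- on the horizontal axis
  have e2 : lift (toUnit C ≫ v₀) (𝟙 C) ≫ Ψ = toUnit C ≫ u₀ := by
    have h3 : jU ≫ lift (toUnit C ≫ v₀) (𝟙 C) ≫ Ψ = jU ≫ toUnit C ≫ u₀ := by
      have : jU ≫ lift (toUnit C ≫ v₀) (𝟙 C) = lift (toUnit _ ≫ v₀) (𝟙 _) ≫ (V ◁ jU) := by
        rw [lift_whiskerLeft, comp_lift, comp_toUnit_assoc, Category.comp_id, Category.id_comp]
      rw [reassoc_of% this, hΨ, comp_toUnit_assoc]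
      simp only [F₀]
      rw [← Category.assoc, lift_whiskerLeft, Category.id_comp]
      have : lift (toUnit (Indet.sub U) ≫ v₀) ι' = ι' ≫ lift (toUnit W ≫ v₀) (𝟙 W) := by
        rw [comp_lift, comp_toUnit_assoc, Category.comp_id]
      rw [this, Category.assoc, h2, comp_toUnit_assoc]
    apply Over.OverMorphism.ext
    haveI : IsDominant jU.left := by
      change IsDominant U.ι
      exact Opens.isDominant_ι (U.2.dense ⟨_, (pt d₀).2⟩)
    refine ext_of_isDominant_of_isSeparated A.hom ?_ jU.left congr(($h3).left)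
    rw [Over.w, Over.w]
  -- rigidity
  have key : (β_ C V).hom ≫ Ψ = toUnit (C ⊗ V) ≫ u₀ := by
    haveI : LocallyOfFiniteType V.hom := inferInstance
    refine H3.Rigidity.rigidity C V A _ c₀ v₀ u₀ ?_ ?_
    · rw [← Category.assoc, lift_braiding_hom, e2]
    · rw [← Category.assoc, lift_braiding_hom, e1]
  have key' : Ψ = toUnit (V ⊗ C) ≫ u₀ := by
    rw [← cancel_epi (β_ C V).hom, key, comp_toUnit_assoc]
  have : lift v (d₁ ≫ ι') ≫ φ = lift v d₁ ≫ (V ◁ jU) ≫ Ψ := by
    rw [hΨ]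
    simp only [F₀]
    rw [← Category.assoc (lift v d₁), lift_whiskerLeft]
  rw [this, key', ← Category.assoc, ← Category.assoc, toUnit_unique (_ ≫ toUnit _) (𝟙 _)]
  exact Category.id_comp u₀

/-- A map from a product of smooth varieties to a proper group scheme which is constant on both
axes is constant: algebraically closed ground field. -/
theorem eq_const_of_axes_algClosed [IsAlgClosed k] (V W A : Over (Spec (CommRingCat.of k)))
    [Smooth V.hom] [IsSeparated V.hom] [QuasiCompact V.hom] [GeometricallyIntegral V.hom]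
    [Smooth W.hom] [IsSeparated W.hom] [QuasiCompact W.hom] [GeometricallyIntegral W.hom]
    [GrpObj A] [IsProper A.hom]
    (v₀ : 𝟙_ _ ⟶ V) (w₀ : 𝟙_ _ ⟶ W) (u₀ : 𝟙_ _ ⟶ A) (φ : V ⊗ W ⟶ A)
    (h1 : lift (𝟙 V) (toUnit V ≫ w₀) ≫ φ = toUnit V ≫ u₀)
    (h2 : lift (toUnit W ≫ v₀) (𝟙 W) ≫ φ = toUnit W ≫ u₀) :
    φ = toUnit (V ⊗ W) ≫ u₀ := by
  classical
  obtain ⟨hint, hgi⟩ := geometricallyIntegral_tensor V W
  haveI := hint
  haveI : IsLocallyNoetherian W.left := LocallyOfFiniteType.isLocallyNoetherian W.hom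
  haveI : IsIntegral W.left := GeometricallyIntegral.isIntegral_of_subsingleton W.hom
  haveI : Smooth (V ⊗ W).hom := by rw [Over.tensorObj_hom]; infer_instance
  haveI : JacobsonSpace ↥(V ⊗ W).left := LocallyOfFiniteType.jacobsonSpace (V ⊗ W).hom
  haveI : JacobsonSpace ↥W.left := LocallyOfFiniteType.jacobsonSpace W.hom
  haveI : LocallyOfFiniteType A.hom := inferInstance
  have hu₀c : IsClosed ({pt u₀} : Set A.left) := isClosed_pt u₀
  let Cl : Set (V ⊗ W).left := φ.left ⁻¹' {pt u₀}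
  have hCl : IsClosed Cl := hu₀c.preimage φ.left.continuous
  let sn : (V ⊗ W).left ⟶ W.left := (snd V W).left
  haveI : Smooth sn := inferInstanceAs (Smooth (pullback.snd V.hom W.hom))
  -- the set of good points of `W`
  let T : Set W.left := {w | ∀ z, sn z = w → z ∈ Cl}
  suffices hT : Dense T by
    have hall : Cl = Set.univ := by
      refine Set.eq_univ_of_univ_subset ?_
      rw [← (hT.preimage sn.isOpenMap).closure_eq]
      exact closure_minimal (fun z hz => hz _ rfl) hCl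
    apply Over.OverMorphism.ext
    haveI : LocallyOfFiniteType (φ.left ≫ A.hom) := by rw [Over.w φ]; infer_instance
    refine ext_of_apply_eq A.hom Set.univ isOpen_univ.isLocallyClosed dense_univ (fun x _ _ => ?_)
      (by rw [Over.w, Over.w])
    have hx : x ∈ Cl := hall ▸ Set.mem_univ x
    rw [Set.mem_preimage, Set.mem_singleton_iff] at hx
    rw [hx, Over.comp_left, Scheme.Hom.comp_apply]
    exact congrArg u₀.left (Subsingleton.elim (α := PrimeSpectrum k) _ _)
  -- closed points are good as soon as all their rational fibre points are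
  have hgood : ∀ w : 𝟙_ _ ⟶ W, (∀ v, lift v w ≫ φ = u₀) → pt w ∈ T := by
    intro w hw z hz
    have hwc : IsClosed ({pt w} : Set W.left) := isClosed_pt w
    have hF : IsClosed (sn ⁻¹' {pt w}) := hwc.preimage sn.continuous
    by_contra hzC
    obtain ⟨y, ⟨hy1, hy2⟩, hyc⟩ := nonempty_inter_closedPoints
      (Z := sn ⁻¹' {pt w} ∩ Clᶜ) ⟨z, hz, hzC⟩
      (hF.isLocallyClosed.inter hCl.isOpen_compl.isLocallyClosed)
    let P : 𝟙_ _ ⟶ V ⊗ W := Over.homMk (pointOfClosedPoint (V ⊗ W).hom y hyc)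
      (pointOfClosedPoint_comp _ _ _)
    have hP : pt P = y := pointOfClosedPoint_apply _ _ _ _
    have hPw : P ≫ snd V W = w := by
      apply Over.OverMorphism.ext
      refine ext_of_apply_closedPoint_eq W.hom (Over.w (P ≫ snd V W)) (Over.w w) ?_
      change sn (pt P) = pt w
      rw [hP]
      exact hy1
    have hPφ : P ≫ φ = u₀ := by
      have : P = lift (P ≫ fst V W) w := by rw [← hPw, ← comp_lift, lift_fst_snd, Category.comp_id]
      rw [this, hw]
    apply hy2
    change φ.left y = pt u₀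
    rw [← hP]
    exact congr(($hPφ).left (IsLocalRing.closedPoint k))
  have hw₀T : pt w₀ ∈ T := hgood w₀ fun v => by
    have : lift v w₀ = v ≫ lift (𝟙 V) (toUnit V ≫ w₀) := by
      rw [comp_lift, Category.comp_id, comp_toUnit_assoc, toUnit_unit, Category.id_comp]
    rw [this, Category.assoc, h1, comp_toUnit_assoc, toUnit_unit, Category.id_comp]
  by_contra hT
  -- an affine neighbourhood of `w₀` not contained in the closure of `T`
  obtain ⟨_, ⟨(W₀ : W.left.Opens), hW₀, rfl⟩, hw₀W, -⟩ := W.left.isBasis_affineOpens.exists_subset_of_mem_open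
    (Set.mem_univ (pt w₀)) isOpen_univ
  haveI : Nonempty (W₀ : Scheme.{u}) := ⟨⟨pt w₀, hw₀W⟩⟩
  haveI : IsIntegral (W₀ : Scheme.{u}) := isIntegral_of_isOpenImmersion W₀.ι
  let R := Γ(W.left, W₀)
  haveI : IsDomain R := IsIntegral.component_integral (X := W.left) W₀
  let e := hW₀.fromSpec
  let ρ : CommRingCat.of k ⟶ R := Spec.preimage (e ≫ W.hom)
  have hρ : Spec.map ρ = e ≫ W.hom := Spec.map_preimage _
  letI : Algebra k R := ρ.hom.toAlgebra
  haveI : IsOpenImmersion e := hW₀.isOpenImmersion_fromSpec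
  haveI : Algebra.FiniteType k R := by
    have h : LocallyOfFiniteType (Spec.map (CommRingCat.ofHom (algebraMap k R))) := by
      change LocallyOfFiniteType (Spec.map ρ)
      rw [hρ]; infer_instance
    exact RingHom.finiteType_algebraMap.1 ((HasRingHomProperty.Spec_iff (P := @LocallyOfFiniteType)).1 h)
  obtain ⟨p₀, hp₀⟩ : pt w₀ ∈ Set.range e := by rw [hW₀.range_fromSpec]; exact hw₀W
  have hw₀c : IsClosed ({pt w₀} : Set W.left) := isClosed_pt w₀
  haveI : p₀.asIdeal.IsMaximal := by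
    rw [← PrimeSpectrum.isClosed_singleton_iff_isMaximal]
    have := hw₀c.preimage e.continuous
    have e2 : e ⁻¹' {pt w₀} = {p₀} := Set.ext fun z => by
      rw [Set.mem_preimage, Set.mem_singleton_iff, Set.mem_singleton_iff, ← hp₀]
      exact ⟨fun h => e.isOpenEmbedding.injective h, fun h => h ▸ rfl⟩
    rw [e2] at this
    exact this
  let J := PrimeSpectrum.vanishingIdeal (closure (e ⁻¹' T))
  have hJz : PrimeSpectrum.zeroLocus (J : Set R) = closure (e ⁻¹' T) :=
    (PrimeSpectrum.zeroLocus_vanishingIdeal_eq_closure _).trans closure_closure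
  have hJ : J ≠ ⊥ := by
    intro hJ
    apply hT
    have h1 : closure (e ⁻¹' T) = Set.univ := by
      rw [← hJz, hJ]; exact PrimeSpectrum.zeroLocus_bot
    intro w
    have h2 : Set.range e ⊆ closure T := by
      rintro _ ⟨z, rfl⟩
      have : z ∈ closure (e ⁻¹' T) := h1 ▸ Set.mem_univ z
      exact closure_mono (Set.image_preimage_subset e T) (image_closure_subset_closure_image e.continuous ⟨z, this, rfl⟩)
    have h3 : Dense (Set.range e) := e.isOpenEmbedding.isOpen_range.dense ⟨_, p₀, rfl⟩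
    exact closure_minimal h2 isClosed_closure (h3 w)
  have hJm : J ≤ p₀.asIdeal := by
    have : p₀ ∈ PrimeSpectrum.zeroLocus (J : Set R) := by
      rw [hJz]; exact subset_closure (show e p₀ ∈ T by rw [hp₀]; exact hw₀T)
    exact this
  obtain ⟨C, U, v, c₀, c₁, hsm, hpr, hgiC, hvw, hc₀, hc₁, hvc₀, hvc₁⟩ :=
    CurveThrough.exists_curve k R p₀.asIdeal J hJ hJm
  haveI := hsm
  haveI := hpr
  haveI := hgiC
  let ι' : Indet.sub U ⟶ W := Over.homMk (v ≫ e) (by
    change (v ≫ e) ≫ W.hom = U.ι ≫ C.hom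
    rw [Category.assoc, ← hρ, ← hvw]
    rfl)
  have hsec : ∀ c : (U : Scheme.{u}), IsClosed ({c.1} : Set C.left) →
      ∃ d : 𝟙_ _ ⟶ Indet.sub U, pt d = c := by
    intro c hc
    haveI : LocallyOfFiniteType (Indet.sub U).hom := inferInstanceAs (LocallyOfFiniteType (U.ι ≫ C.hom))
    have hc' : IsClosed ({c} : Set (U : Scheme.{u})) := by
      convert hc.preimage U.ι.continuous using 1
      ext z
      exact ⟨fun h => congrArg Subtype.val h, fun h => Subtype.ext h⟩
    exact ⟨Over.homMk (pointOfClosedPoint (Indet.sub U).hom c hc') (pointOfClosedPoint_comp _ _ _),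
      pointOfClosedPoint_apply _ _ _ _⟩
  obtain ⟨d₀, hd₀⟩ := hsec c₀ hc₀
  obtain ⟨d₁, hd₁⟩ := hsec c₁ hc₁
  have hd₀w : d₀ ≫ ι' = w₀ := by
    apply Over.OverMorphism.ext
    refine ext_of_apply_closedPoint_eq W.hom (Over.w (d₀ ≫ ι')) (Over.w w₀) ?_
    change e (v (pt d₀)) = pt w₀
    rw [hd₀, ← hp₀]
    exact congrArg e (PrimeSpectrum.ext hvc₀)
  have hgood₁ := hgood (d₁ ≫ ι') (const_along_curve V W A C v₀ w₀ u₀ φ h1 h2 U ι' d₀ d₁ hd₀w)
  apply hvc₁
  have : v c₁ ∈ PrimeSpectrum.zeroLocus (J : Set R) := by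
    rw [hJz]
    refine subset_closure ?_
    change e (v c₁) ∈ T
    rw [← hd₁]
    exact hgood₁
  exact this

end Groth.Agent.H4.AxesConst

namespace Groth.Agent.H4.AxesConst

variable {k : Type u} [Field k]

/-- A map from a product of smooth varieties to a proper group scheme which is constant on both
axes is constant. -/
theorem eq_const_of_axes (V W A : Over (Spec (CommRingCat.of k)))
    [Smooth V.hom] [IsSeparated V.hom] [QuasiCompact V.hom] [GeometricallyIntegral V.hom]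
    [Smooth W.hom] [IsSeparated W.hom] [QuasiCompact W.hom] [GeometricallyIntegral W.hom]
    [GrpObj A] [IsProper A.hom]
    (v₀ : 𝟙_ _ ⟶ V) (w₀ : 𝟙_ _ ⟶ W) (u₀ : 𝟙_ _ ⟶ A) (φ : V ⊗ W ⟶ A)
    (h1 : lift (𝟙 V) (toUnit V ≫ w₀) ≫ φ = toUnit V ≫ u₀)
    (h2 : lift (toUnit W ≫ v₀) (𝟙 W) ≫ φ = toUnit W ≫ u₀) :
    φ = toUnit (V ⊗ W) ≫ u₀ := by
  let b := Lib.GrpSch.extBase k (AlgebraicClosure k)
  let F := Over.pullback b
  haveI : Smooth (F.obj V).hom := Lib.GrpSch.bc_hom_of b V ‹_›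
  haveI : IsSeparated (F.obj V).hom := Lib.GrpSch.bc_hom_of b V ‹_›
  haveI : QuasiCompact (F.obj V).hom := Lib.GrpSch.bc_hom_of b V ‹_›
  haveI : GeometricallyIntegral (F.obj V).hom := Lib.GrpSch.bc_hom_of b V ‹_›
  haveI : Smooth (F.obj W).hom := Lib.GrpSch.bc_hom_of b W ‹_›
  haveI : IsSeparated (F.obj W).hom := Lib.GrpSch.bc_hom_of b W ‹_›
  haveI : QuasiCompact (F.obj W).hom := Lib.GrpSch.bc_hom_of b W ‹_›
  haveI : GeometricallyIntegral (F.obj W).hom := Lib.GrpSch.bc_hom_of b W ‹_›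
  haveI : IsProper (F.obj A).hom := Lib.GrpSch.bc_hom_of b A ‹_›
  letI : GrpObj (F.obj A) := Functor.grpObjObj
  have key := eq_const_of_axes_algClosed (F.obj V) (F.obj W) (F.obj A)
    (Functor.LaxMonoidal.ε F ≫ F.map v₀) (Functor.LaxMonoidal.ε F ≫ F.map w₀) (Functor.LaxMonoidal.ε F ≫ F.map u₀) (Functor.LaxMonoidal.μ F V W ≫ F.map φ) ?_ ?_
  · apply Over.OverMorphism.ext
    haveI : Flat (Lib.GrpSch.bcProj b (V ⊗ W)) := (Lib.GrpSch.bcProj_surjective_flat_qc k (AlgebraicClosure k) (V ⊗ W)).1.2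
    haveI : Surjective (Lib.GrpSch.bcProj b (V ⊗ W)) := (Lib.GrpSch.bcProj_surjective_flat_qc k (AlgebraicClosure k) (V ⊗ W)).1.1
    haveI : QuasiCompact (Lib.GrpSch.bcProj b (V ⊗ W)) := (Lib.GrpSch.bcProj_surjective_flat_qc k (AlgebraicClosure k) (V ⊗ W)).2
    haveI := Flat.epi_of_flat_of_surjective (Lib.GrpSch.bcProj b (V ⊗ W))
    rw [← cancel_epi (Lib.GrpSch.bcProj b (V ⊗ W))]
    have hmap : F.map φ = F.map (toUnit (V ⊗ W) ≫ u₀) := by
      rw [← cancel_epi (Functor.LaxMonoidal.μ F V W), key, F.map_comp, ← Functor.Monoidal.toUnit_ε]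
      simp only [Category.assoc]
      rw [← Category.assoc (Functor.LaxMonoidal.μ F V W) (toUnit _)]
      congr 1
      exact toUnit_unique _ _
    rw [← Lib.GrpSch.bc_map_proj b φ, ← Lib.GrpSch.bc_map_proj b (toUnit (V ⊗ W) ≫ u₀), hmap]
  · rw [← F.map_id, Functor.Monoidal.toUnit_ε_assoc, ← F.map_comp, ← Category.assoc,
      Functor.Monoidal.lift_μ, ← F.map_comp, h1, F.map_comp, Functor.Monoidal.toUnit_ε_assoc]
  · rw [← F.map_id, Functor.Monoidal.toUnit_ε_assoc, ← F.map_comp, ← Category.assoc,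
      Functor.Monoidal.lift_μ, ← F.map_comp, h2, F.map_comp, Functor.Monoidal.toUnit_ε_assoc]

end Groth.Agent.H4.AxesConst
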