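import Groth.Agent.S0348
import Groth.Agent.Lib.GrpSch.BaseChange
import Groth.Agent.Lib.GrpSch.SmoothReduced
import Mathlib.AlgebraicGeometry.Geometrically.Integral
import Mathlib.AlgebraicGeometry.Geometrically.Connected

/-! A smooth geometrically connected group scheme over a field is geometrically integral. -/

set_option autoImplicit false

universe u

open CategoryTheory Limits MonoidalCategory CartesianMonoidalCategory MonObj AlgebraicGeometry

namespace Groth.Agent.H4.GeomInt

theorem geometricallyIntegral {k : Type u} [Field k] (G : Over (Spec (CommRingCat.of k))) [GrpObj G]
    [Smooth G.hom] [GeometricallyConnected G.hom] : GeometricallyIntegral G.hom := by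
  haveI : GeometricallyReduced G.hom := Lib.GrpSch.geometricallyReduced_of_smooth_field G.hom
  haveI : GeometricallyIrreducible G.hom := by
    refine ⟨fun K _ y P p q h => ?_⟩
    haveI : ConnectedSpace (pullback G.hom y : Scheme.{u}) :=
      pullback_of_geometrically GeometricallyConnected.geometrically_connectedSpace K y
    let G' := (Over.pullback y).obj G
    haveI : ConnectedSpace G'.left := ‹_›
    letI : GrpObj G' := Functor.grpObjObj (F := Over.pullback y)
    haveI : IrreducibleSpace G'.left := S0348.result K G'
    exact (Scheme.homeoOfIso h.isoPullback.symm).irreducibleSpace_iff.1 ‹_›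
  exact GeometricallyIntegral.of_geometricallyReduced_of_geometricallyIrreducible (f := G.hom)

end Groth.Agent.H4.GeomInt
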