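import Groth.Agent.S2266
import Groth.Agent.H75.RedKer
import Groth.Agent.H4.GeomInt
import Groth.Agent.H4.AxesConst
import Groth.Agent.H63.GrpSmooth
import Groth.Agent.Lib.GrpSch.ConnFibre
import Groth.Agent.Lib.GrpSch.Basic
import Mathlib.AlgebraicGeometry.Geometrically.Reduced

/-! Images of proper, geometrically reduced, connected groups under homomorphisms. -/

set_option autoImplicit false

set_option linter.style.haveILetI false

universe u

open CategoryTheory Limits MonoidalCategory CartesianMonoidalCategory MonObj AlgebraicGeometry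

namespace Groth.Agent.H4.HomImage

variable {k : Type u} [Field k]

local notation "S" => Spec (CommRingCat.of k)

theorem exists_factor {S₀ : Scheme.{u}} {T M G : Over S₀} [IsReduced T.left] (i : M ⟶ G)
    [IsClosedImmersion i.left] (g : T ⟶ G) (h : Set.range g.left ⊆ Set.range i.left) :
    ∃ g' : T ⟶ M, g' ≫ i = g := by
  obtain ⟨g', hg'⟩ := Groth.Agent.H75.RedKer.exists_lift g.left i.left h
  exact ⟨Over.homMk g' (by rw [← Over.w i, reassoc_of% hg', Over.w g]), Over.OverMorphism.ext hg'⟩

/-- The group structure on a monomorphism stable under the group operations. -/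
theorem exists_grpObj {C : Type*} [Category C] [CartesianMonoidalCategory C] {M G : C}
    [GrpObj G] (i : M ⟶ G) [Mono i] (hone : ∃ e : 𝟙_ C ⟶ M, e ≫ i = η[G])
    (hmul : ∃ m : M ⊗ M ⟶ M, m ≫ i = (fst M M ≫ i) * (snd M M ≫ i))
    (hinv : ∃ n : M ⟶ M, n ≫ i = i⁻¹) : ∃ _ : GrpObj M, IsMonHom i := by
  obtain ⟨e, he⟩ := hone
  obtain ⟨m, hm⟩ := hmul
  obtain ⟨n, hn⟩ := hinv
  have key : ∀ {X : C} (f g : X ⟶ M), (lift f g ≫ m) ≫ i = (f ≫ i) * (g ≫ i) := fun f g => by
    rw [Category.assoc, hm, MonObj.comp_mul, ← Category.assoc, ← Category.assoc, lift_fst, lift_snd]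
  have k1 : ∀ {X : C}, (toUnit X ≫ e) ≫ i = 1 := fun {X} => by
    rw [Category.assoc, he]; rfl
  letI : GrpObj M :=
    { one := e
      mul := m
      one_mul := by
        rw [← cancel_mono i]
        simp only [Category.assoc, hm, MonObj.comp_mul, whiskerRight_fst_assoc,
          whiskerRight_snd_assoc]
        rw [he, toUnit_unique (fst (𝟙_ C) M) (toUnit _), ← Hom.one_def, _root_.one_mul]
        simp [leftUnitor_hom]
      mul_one := by
        rw [← cancel_mono i]
        simp only [Category.assoc, hm, MonObj.comp_mul, whiskerLeft_fst_assoc,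
          whiskerLeft_snd_assoc]
        rw [he, toUnit_unique (snd M (𝟙_ C)) (toUnit _), ← Hom.one_def, _root_.mul_one]
        simp [rightUnitor_hom]
      mul_assoc := by
        rw [← cancel_mono i]
        simp only [Category.assoc, hm, MonObj.comp_mul, whiskerRight_fst_assoc,
          whiskerRight_snd_assoc, whiskerLeft_fst_assoc, whiskerLeft_snd_assoc,
          associator_hom_fst_assoc, associator_hom_snd_fst_assoc, associator_hom_snd_snd_assoc,
          _root_.mul_assoc]
      inv := n
      left_inv := by
        rw [← cancel_mono i, key, hn, Category.id_comp, inv_mul_cancel, k1]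
      right_inv := by
        rw [← cancel_mono i, key, hn, Category.id_comp, mul_inv_cancel, k1] }
  refine ⟨this, ⟨?_, ?_⟩⟩
  · exact he
  · show m ≫ i = (i ⊗ₘ i) ≫ μ[G]
    rw [hm, Hom.mul_def]
    congr 1
    ext <;> simp

theorem smooth_of_geometricallyReduced (G : Over S) [GrpObj G] [LocallyOfFiniteType G.hom]
    [GeometricallyReduced G.hom] : Smooth G.hom := by
  let b : Spec (CommRingCat.of (AlgebraicClosure k)) ⟶ S :=
    Spec.map (CommRingCat.ofHom (algebraMap k (AlgebraicClosure k)))
  haveI : IsReduced (pullback G.hom b) :=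
    GeometricallyReduced.geometrically_isReduced _ _ _ (.of_hasPullback _ _)
  haveI : Surjective b := ⟨fun _ => ⟨IsLocalRing.closedPoint (AlgebraicClosure k),
    Subsingleton.elim (α := PrimeSpectrum k) _ _⟩⟩
  obtain ⟨z, -⟩ := (pullback.fst G.hom b).surjective
    (η[G].left (IsLocalRing.closedPoint k))
  exact Groth.Agent.H63.GrpSmooth.smooth_of_isReduced_stalk G b z inferInstance

theorem geometricallyIntegral_of_connected (G : Over S) [GrpObj G] [LocallyOfFiniteType G.hom]
    [GeometricallyReduced G.hom] [ConnectedSpace G.left] : GeometricallyIntegral G.hom := by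
  haveI := smooth_of_geometricallyReduced G
  haveI : GeometricallyConnected G.hom := by
    exact Lib.GrpSch.geometricallyConnected_of_rationalPoint G.hom η[G].left (Over.w η[G])
  exact GeomInt.geometricallyIntegral G

/-- The scheme-theoretic image of a proper geometrically reduced connected group is an abelian
subscheme. -/
theorem exists_image (G A : Over S) [GrpObj G] [LocallyOfFiniteType G.hom] [GrpObj A]
    [IsProper A.hom] [GeometricallyReduced A.hom] [ConnectedSpace A.left] (φ : A ⟶ G)
    [IsMonHom φ] :
    ∃ (M : Over S) (_ : GrpObj M) (i : M ⟶ G), IsMonHom i ∧ IsClosedImmersion i.left ∧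
      IsProper M.hom ∧ GeometricallyIntegral M.hom ∧ Set.range i.left = Set.range φ.left := by
  haveI : IsSeparated G.hom := Lib.GrpSch.isSeparated_of_field G
  haveI : IsProper φ.left := by
    haveI : IsProper (φ.left ≫ G.hom) := by rw [Over.w φ]; infer_instance
    exact IsProper.of_comp φ.left G.hom
  haveI hA := geometricallyIntegral_of_connected A
  haveI : IsIntegral A.left := GeometricallyIntegral.isIntegral_of_subsingleton A.hom
  let Z : Over S := Over.mk (φ.left.imageι ≫ G.hom)
  let i : Z ⟶ G := Over.homMk φ.left.imageι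
  let π : A ⟶ Z := Over.homMk φ.left.toImage (by
    show φ.left.toImage ≫ φ.left.imageι ≫ G.hom = _
    rw [Scheme.Hom.toImage_imageι_assoc, Over.w φ])
  haveI : IsClosedImmersion i.left := inferInstanceAs (IsClosedImmersion φ.left.imageι)
  have hπi : π ≫ i = φ := Over.OverMorphism.ext φ.left.toImage_imageι
  haveI : IsProper (π.left ≫ i.left) := by rw [← Over.comp_left, hπi]; infer_instance
  haveI : IsProper π.left := IsProper.of_comp π.left i.left
  haveI : IsDominant π.left := inferInstanceAs (IsDominant φ.left.toImage)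
  haveI hπs : Surjective π.left := ⟨fun z => by
    have h := π.left.denseRange.closure_eq
    rw [π.left.isClosedMap.isClosed_range.closure_eq] at h
    exact h.ge (Set.mem_univ z)⟩
  haveI hZr : IsReduced Z.left := (Groth.Agent.S2266.result φ.left).1
  haveI : IsSchemeTheoreticallyDominant π.left := .of_isDominant π.left
  haveI hZp : IsProper Z.hom :=
    { toIsSeparated := inferInstanceAs (IsSeparated (φ.left.imageι ≫ G.hom))
      toUniversallyClosed := by
        haveI : UniversallyClosed (π.left ≫ Z.hom) := by rw [Over.w π]; infer_instance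
        exact UniversallyClosed.of_comp_surjective π.left Z.hom
      toLocallyOfFiniteType := inferInstanceAs (LocallyOfFiniteType (φ.left.imageι ≫ G.hom)) }
  haveI hZg : GeometricallyReduced Z.hom := by
    refine ⟨fun K _ y P p q h => ?_⟩
    haveI : IsReduced (pullback A.hom y) :=
      GeometricallyReduced.geometrically_isReduced _ _ _ (.of_hasPullback _ _)
    let t : pullback A.hom y ⟶ P := h.lift (pullback.fst A.hom y ≫ π.left) (pullback.snd A.hom y)
      (by rw [Category.assoc, Over.w π, pullback.condition])
    have hsq : IsPullback (pullback.fst A.hom y) t π.left p := by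
      refine IsPullback.of_bot ?_ (h.lift_fst _ _ _).symm h
      rw [h.lift_snd, Over.w π]
      exact IsPullback.of_hasPullback A.hom y
    haveI : Flat y := inferInstance
    haveI : Flat p := MorphismProperty.of_isPullback h.flip ‹_›
    haveI : IsSchemeTheoreticallyDominant t :=
      IsSchemeTheoreticallyDominant.of_isPullback hsq
    haveI : QuasiCompact t := MorphismProperty.of_isPullback hsq inferInstance
    exact IsSchemeTheoreticallyDominant.isReduced t
  haveI : ConnectedSpace Z.left := π.left.surjective.connectedSpace π.left.continuous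
  haveI : Mono i := (Over.forget _).mono_of_mono_map (inferInstanceAs (Mono i.left))
  haveI : GeometricallyIrreducible A.hom := inferInstance
  haveI : IsLocallyNoetherian Z.left := LocallyOfFiniteType.isLocallyNoetherian Z.hom
  haveI : IsReduced (Z ⊗ Z).left := inferInstanceAs (IsReduced (pullback Z.hom Z.hom))
  have hrange : Set.range i.left = Set.range φ.left := by
    rw [← hπi, Over.comp_left, Scheme.Hom.comp_base, TopCat.coe_comp, Set.range_comp,
      π.left.surjective.range_eq, Set.image_univ]
  haveI : Surjective (π ⊗ₘ π).left := Lib.GrpSch.tensorHom_left_of π π hπs hπs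
  obtain ⟨m, hm⟩ := exists_factor i ((fst Z Z ≫ i) * (snd Z Z ≫ i)) (by
    rintro _ ⟨z, rfl⟩
    obtain ⟨w, rfl⟩ := (π ⊗ₘ π).left.surjective z
    have e : (π ⊗ₘ π) ≫ ((fst Z Z ≫ i) * (snd Z Z ≫ i)) = (fst A A * snd A A) ≫ φ := by
      rw [MonObj.comp_mul, MonObj.mul_comp, tensorHom_fst_assoc, tensorHom_snd_assoc, hπi]
    rw [← Scheme.Hom.comp_apply, ← Over.comp_left, e, Over.comp_left, Scheme.Hom.comp_apply,
      hrange]
    exact Set.mem_range_self _)
  obtain ⟨n, hn⟩ := exists_factor i (i⁻¹) (by
    rintro _ ⟨z, rfl⟩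
    obtain ⟨w, rfl⟩ := π.left.surjective z
    have e : π ≫ i⁻¹ = (𝟙 A)⁻¹ ≫ φ := by
      rw [GrpObj.comp_inv, GrpObj.inv_comp, hπi, Category.id_comp]
    rw [← Scheme.Hom.comp_apply, ← Over.comp_left, e, Over.comp_left, Scheme.Hom.comp_apply,
      hrange]
    exact Set.mem_range_self _)
  obtain ⟨gZ, hgZ⟩ := exists_grpObj i
    ⟨η[A] ≫ π, by rw [Category.assoc, hπi, IsMonHom.one_hom]⟩ ⟨m, hm⟩ ⟨n, hn⟩
  exact ⟨Z, gZ, i, hgZ, inferInstance, hZp, geometricallyIntegral_of_connected Z, hrange⟩

end Groth.Agent.H4.HomImage
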