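import Mathlib.AlgebraicGeometry.IdealSheaf.Subscheme
import Mathlib.AlgebraicGeometry.Noetherian
import Mathlib.Order.OrderIsoNat
import Mathlib.Data.DFinsupp.WellFounded
import Mathlib.Data.Finset.Lattice.Fold
import Mathlib.RingTheory.Noetherian.Basic

/-! Ascending chain condition for ideal sheaves on a Noetherian scheme. -/

set_option autoImplicit false

universe u

open CategoryTheory AlgebraicGeometry

namespace Groth.Agent.H4.IdealAcc

theorem wellFoundedGT (X : Scheme.{u}) [IsLocallyNoetherian X] [CompactSpace X] :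
    WellFoundedGT X.IdealSheafData := by
  classical
  choose U hU hxU using fun x : X => exists_isAffineOpen_mem_and_subset (X := X) (x := x) (U := ⊤) trivial
  obtain ⟨t, ht⟩ := (isCompact_univ (X := X)).elim_finite_subcover (fun x => ((U x : X.Opens) : Set X))
    (fun x => (U x).2) (fun x _ => Set.mem_iUnion.2 ⟨x, (hxU x).1⟩)
  have hcov : (⨆ x : t, (⟨U x, hU x⟩ : X.affineOpens).1) = ⊤ := by
    refine top_le_iff.1 fun x _ => ?_
    obtain ⟨y, hy, hxy⟩ := Set.mem_iUnion₂.1 (ht (Set.mem_univ x))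
    exact TopologicalSpace.Opens.mem_iSup.2 ⟨⟨y, hy⟩, hxy⟩
  let g : X.IdealSheafData → ∀ x : t, Ideal Γ(X, U x) := fun I x => I.ideal ⟨U x, hU x⟩
  have hg : StrictMono g := Monotone.strictMono_of_injective
    (fun I J h x => h ⟨U x, hU x⟩)
    (fun I J h => Scheme.IdealSheafData.ext_of_iSup_eq_top _ hcov fun x => congrFun h x)
  haveI : ∀ x : t, IsNoetherianRing Γ(X, U x) := fun x =>
    IsLocallyNoetherian.component_noetherian ⟨U x, hU x⟩
  haveI : ∀ x : t, WellFoundedGT (Ideal Γ(X, U x)) := fun x => inferInstance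
  refine ⟨(InvImage.wf (fun I => fun x => OrderDual.toDual (g I x))
    (wellFounded_lt (α := ∀ x : t, (Ideal Γ(X, U x))ᵒᵈ))).mono fun a b h => ?_⟩
  exact lt_of_le_not_ge (fun x => (hg h).le x) fun hle => (hg h).not_ge fun x => hle x

/-- A finite subfamily already generates the supremum: it bounds every member. -/
theorem exists_finset_sup {X : Scheme.{u}} [IsLocallyNoetherian X] [CompactSpace X] {ι : Type*}
    (I : ι → X.IdealSheafData) : ∃ s : Finset ι, ∀ i, I i ≤ s.sup I := by
  classical
  haveI := wellFoundedGT X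
  obtain ⟨m, ⟨s, rfl⟩, hm⟩ := (wellFounded_gt (α := X.IdealSheafData)).has_min
    (Set.range fun s : Finset ι => s.sup I) ⟨_, ∅, rfl⟩
  refine ⟨s, fun i => ?_⟩
  by_contra h
  have hlt : s.sup I < (insert i s).sup I := by
    rw [Finset.sup_insert]
    exact lt_of_le_of_ne le_sup_right fun e => h (e ▸ le_sup_left)
  exact hm _ ⟨_, rfl⟩ hlt

end Groth.Agent.H4.IdealAcc
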