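import Groth.Agent.Lib.Ideal.Prime
import Groth.Agent.Lib.Ideal.EffCartier
import Groth.Agent.Lib.Cyc.Dev.Scheme
import Mathlib.RingTheory.UniqueFactorizationDomain.Ideal

/-! Ideal sheaves with principal stalks are effective Cartier; height one ideals in factorial rings. -/

set_option autoImplicit false
set_option linter.style.haveILetI false

universe u

open CategoryTheory AlgebraicGeometry TopologicalSpace
open Groth.Agent.Lib.Ideal

namespace Groth.Agent.H4.CartierUFD

section Algebra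

variable {R : Type u} [CommRing R]

/-- `Q` is the annihilator of an element of `R / J`, and prime. -/
def AssIdeal (J Q : Ideal R) : Prop := Q.IsPrime ∧ ∃ a, ∀ r, r ∈ Q ↔ r * a ∈ J

theorem exists_assIdeal [IsNoetherianRing R] (J : Ideal R) (hJ : J ≠ ⊤) :
    ∃ Q, AssIdeal J Q := by
  obtain ⟨Q, ⟨a, ha, hQ⟩, hmax⟩ := set_has_maximal_iff_noetherian.mpr (inferInstance : IsNoetherian R R)
    {Q : Ideal R | ∃ a, a ∉ J ∧ ∀ r, r ∈ Q ↔ r * a ∈ J}
    ⟨J, 1, (Ideal.ne_top_iff_one J).mp hJ, fun r => by rw [mul_one]⟩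
  refine ⟨Q, ⟨fun h => ha (by simpa using (hQ 1).mp (h ▸ Submodule.mem_top)), fun {x y} hxy => ?_⟩, a, hQ⟩
  by_contra! h
  let Q' : Ideal R := Submodule.comap (LinearMap.mulRight R (y * a)) J
  have hQ' : ∀ r, r ∈ Q' ↔ r * (y * a) ∈ J := fun r => Iff.rfl
  refine hmax Q' ⟨y * a, fun h' => h.2 ((hQ y).mpr h'), hQ'⟩ ?_
  refine lt_of_le_of_ne (fun r hr => (hQ' r).mpr ?_) fun he => h.1 ?_
  · rw [mul_left_comm]; exact J.mul_mem_left y ((hQ r).mp hr)
  · rw [he, hQ' x, ← mul_assoc]; exact (hQ _).mp hxy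

/-- In a factorial Noetherian domain an ideal all of whose associated primes have height one is principal. -/
theorem isPrincipal_of_height_one [IsDomain R] [UniqueFactorizationMonoid R] [IsNoetherianRing R]
    (J : Ideal R) (h : ∀ Q, AssIdeal J Q → Q.height = 1) : ∃ g : R, g ≠ 0 ∧ J = Ideal.span {g} := by
  induction J using (inferInstance : WellFoundedGT (Ideal R)).wf.induction with
  | _ J ih =>
    by_cases hJ : J = ⊤
    · exact ⟨1, one_ne_zero, by rw [hJ, Ideal.span_singleton_one]⟩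
    obtain ⟨Q, hQ, a, ha⟩ := exists_assIdeal J hJ
    haveI := hQ
    have h1 := h Q ⟨hQ, a, ha⟩
    obtain ⟨π, hπQ, hπ⟩ := hQ.exists_mem_prime_of_ne_bot (R := R) (fun hb => by
      subst hb; simp at h1)
    haveI : (Ideal.span {π}).IsPrime := (Ideal.span_singleton_prime hπ.ne_zero).mpr hπ
    have hQπ : Q = Ideal.span {π} := by
      by_contra hne
      have hlt : Ideal.span {π} < Q :=
        lt_of_le_of_ne ((Ideal.span_singleton_le_iff_mem _).mpr hπQ) (Ne.symm hne)
      have h2 := Ideal.height_strict_mono_of_isPrime hlt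
      rw [h1, Order.lt_one_iff, Ideal.height_eq_zero_iff] at h2
      exact hπ.ne_zero (Ideal.span_singleton_eq_bot.mp
        (le_bot_iff.mp (h2.2 ⟨Ideal.isPrime_bot, le_rfl⟩ bot_le)))
    have haJ : a ∉ J := fun haJ => hQ.ne_top
      ((Ideal.eq_top_iff_one _).mpr ((ha 1).mpr (by rwa [one_mul])))
    have hJle : ∀ r ∈ J, π ∣ r := fun r hr =>
      Ideal.mem_span_singleton.mp (hQπ ▸ (ha r).mpr (J.mul_mem_right a hr))
    let J' : Ideal R := Submodule.comap (LinearMap.mulLeft R π) J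
    have hJ' : ∀ r, r ∈ J' ↔ π * r ∈ J := fun r => Iff.rfl
    obtain ⟨g, hg0, hg⟩ := ih J' (lt_of_le_of_ne (fun r hr => (hJ' r).mpr (J.mul_mem_left π hr))
      fun he => haJ (he ▸ (hJ' a).mpr ((ha π).mp hπQ))) fun P hP => by
        obtain ⟨hP1, b, hb⟩ := hP
        exact h P ⟨hP1, π * b, fun r => by rw [hb, hJ', mul_left_comm]⟩
    refine ⟨π * g, mul_ne_zero hπ.ne_zero hg0, le_antisymm (fun r hr => ?_) ?_⟩
    · obtain ⟨s, rfl⟩ := hJle r hr
      have hs : s ∈ J' := (hJ' s).mpr hr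
      rw [hg, Ideal.mem_span_singleton] at hs
      exact Ideal.mem_span_singleton.mpr (mul_dvd_mul_left π hs)
    · rw [Ideal.span_singleton_le_iff_mem, ← hJ', hg]
      exact Ideal.mem_span_singleton_self g

end Algebra

variable {X : Scheme.{u}}

theorem isEffCartier_of_stalks [IsLocallyNoetherian X] (I : X.IdealSheafData)
    (h : ∀ x : X, ∃ g ∈ nonZeroDivisors (X.presheaf.stalk x), Prime.stalkIdeal I x = Ideal.span {g}) :
    BlowUp.IsEffCartierIdeal I := by
  intro x
  obtain ⟨U, hU, hxU, -⟩ := exists_isAffineOpen_mem_and_subset (x := x) (U := ⊤) trivial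
  let U' : X.affineOpens := ⟨U, hU⟩
  haveI : IsNoetherianRing Γ(X, U) := IsLocallyNoetherian.component_noetherian U'
  letI alg := X.presheaf.algebra_section_stalk ⟨x, hxU⟩
  haveI := hU.isLocalization_stalk ⟨x, hxU⟩
  let p := (hU.primeIdealOf ⟨x, hxU⟩).asIdeal
  obtain ⟨g, hg, hgI⟩ := h x
  rw [Prime.stalkIdeal_eq I U' hxU] at hgI
  have hgm : g ∈ (I.ideal U').map (algebraMap Γ(X, U) (X.presheaf.stalk x)) :=
    hgI.ge (Ideal.mem_span_singleton_self g)
  obtain ⟨⟨⟨a, haI⟩, s⟩, hgs⟩ := (IsLocalization.mem_map_algebraMap_iff p.primeCompl _).mp hgm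
  have hs : IsUnit (algebraMap Γ(X, U) (X.presheaf.stalk x) s) := IsLocalization.map_units _ s
  have hspan : ∀ j ∈ I.ideal U', ∃ t : p.primeCompl, (t : Γ(X, U)) * j ∈ Ideal.span {a} := by
    intro j hj
    have hm : algebraMap Γ(X, U) (X.presheaf.stalk x) j ∈
        (Ideal.span {a}).map (algebraMap Γ(X, U) (X.presheaf.stalk x)) := by
      rw [Ideal.map_span, Set.image_singleton, ← hgs, Ideal.span_singleton_mul_right_unit hs]
      exact hgI.le (Ideal.mem_map_of_mem _ hj)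
    obtain ⟨t, ht, htj⟩ := (IsLocalization.algebraMap_mem_map_algebraMap_iff p.primeCompl _ _ _).mp hm
    exact ⟨⟨t, ht⟩, htj⟩
  have hann : ∀ c ∈ LinearMap.ker (LinearMap.mulLeft Γ(X, U) a), ∃ t : p.primeCompl,
      (t : Γ(X, U)) * c = 0 := by
    intro c hc
    refine (IsLocalization.map_eq_zero_iff p.primeCompl (X.presheaf.stalk x) c).mp ?_
    have hc' : a * c = 0 := hc
    have h0 : g * algebraMap Γ(X, U) (X.presheaf.stalk x) s *
        algebraMap Γ(X, U) (X.presheaf.stalk x) c = 0 := by rw [hgs, ← map_mul, hc', map_zero]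
    exact (mul_left_mem_nonZeroDivisors_eq_zero_iff (mul_mem hg hs.mem_nonZeroDivisors)).mp h0
  have key : ∀ (N : Ideal Γ(X, U)) (K : Ideal Γ(X, U)),
      (∀ j ∈ N, ∃ t : p.primeCompl, (t : Γ(X, U)) * j ∈ K) →
      ∃ t : p.primeCompl, ∀ j ∈ N, (t : Γ(X, U)) * j ∈ K := by
    intro N K hNK
    obtain ⟨G, hG⟩ := IsNoetherian.noetherian N
    choose f hf using fun j : G => hNK j (hG ▸ Submodule.subset_span j.2)
    refine ⟨∏ j : G, f j, fun j hj => ?_⟩
    rw [← hG] at hj
    induction hj using Submodule.span_induction with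
    | mem y hy =>
      obtain ⟨t, ht⟩ := Finset.dvd_prod_of_mem f (Finset.mem_univ (⟨y, hy⟩ : G))
      rw [ht, Submonoid.coe_mul, mul_right_comm]
      exact K.mul_mem_right _ (hf ⟨y, hy⟩)
    | zero => rw [mul_zero]; exact zero_mem _
    | add y z _ _ hy hz => rw [mul_add]; exact add_mem hy hz
    | smul r y _ hy => rw [smul_eq_mul, mul_left_comm]; exact K.mul_mem_left r hy
  obtain ⟨t₁, ht₁⟩ := key _ _ hspan
  obtain ⟨t₂, ht₂⟩ := key (LinearMap.ker (LinearMap.mulLeft Γ(X, U) a)) ⊥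
    fun c hc => (hann c hc).imp fun t ht => (Ideal.mem_bot).mpr ht
  let t : Γ(X, U) := (t₁ : Γ(X, U)) * t₂
  have htp : t ∈ p.primeCompl := (t₁ * t₂).2
  let res := X.presheaf.map (homOfLE (X.basicOpen_le t)).op
  letI := res.hom.toAlgebra
  haveI : IsLocalization.Away t Γ(X, X.basicOpen t) := hU.isLocalization_basicOpen t
  have htu : IsUnit (res.hom t) := IsLocalization.Away.algebraMap_isUnit t
  refine ⟨⟨X.basicOpen t, hU.basicOpen t⟩,
    (EffCartier.mem_basicOpen_iff_notMem_prime hU hxU t).mpr htp, res.hom a, ?_, ?_⟩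
  · refine EffCartier.mem_nonZeroDivisors_of_eq_zero fun b hb => ?_
    obtain ⟨⟨c, w⟩, hcw⟩ := IsLocalization.surj (Submonoid.powers t) b
    have h0 : res.hom (a * c) = 0 := by
      rw [map_mul]
      show res.hom a * algebraMap _ _ c = 0
      rw [← hcw, ← mul_assoc, hb, zero_mul]
    obtain ⟨⟨_, m, rfl⟩, hm⟩ := (IsLocalization.map_eq_zero_iff (Submonoid.powers t) _ _).mp h0
    have hk : t ^ m * c ∈ LinearMap.ker (LinearMap.mulLeft Γ(X, U) a) := by
      show a * (t ^ m * c) = 0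
      rw [mul_left_comm]; exact hm
    have h2 : t * (t ^ m * c) = 0 := by
      show (t₁ : Γ(X, U)) * t₂ * _ = 0
      rw [mul_assoc, Ideal.mem_bot.mp (ht₂ _ hk), mul_zero]
    have h3 : res.hom c = 0 := by
      have := congrArg res.hom h2
      rw [map_zero, map_mul res.hom t, map_mul res.hom (t ^ m), map_pow, ← mul_assoc, ← pow_succ'] at this
      exact (htu.pow (m + 1)).mul_right_eq_zero.mp this
    exact (IsLocalization.map_units _ w).mul_left_eq_zero.mp (hcw.trans h3)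
  · refine (I.map_ideal (V := U') (U := ⟨_, hU.basicOpen t⟩) (X.basicOpen_le t)).symm.trans (le_antisymm ?_ ?_)
    · refine Ideal.map_le_iff_le_comap.mpr fun j hj => ?_
      rw [Ideal.mem_comap]
      obtain ⟨c, hc⟩ := Ideal.mem_span_singleton'.mp (ht₁ j hj)
      have ht₁u : IsUnit (res.hom (t₁ : Γ(X, U))) := by
        have h12 : IsUnit (res.hom (t₁ : Γ(X, U)) * res.hom (t₂ : Γ(X, U))) := by
          rw [← map_mul]; exact htu
        exact isUnit_of_mul_isUnit_left h12
      refine (Ideal.unit_mul_mem_iff_mem _ ht₁u).mp (Ideal.mem_span_singleton'.mpr ⟨res.hom c, ?_⟩)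
      rw [← map_mul, hc, map_mul]
      rfl
    · rw [Ideal.span_singleton_le_iff_mem]
      exact Ideal.mem_map_of_mem _ haI

/-- An associated prime of the stalk of an ideal is a point of the support whose stalk modulo the ideal
has its maximal ideal annihilating a nonzero element. -/
theorem exists_point_of_assIdeal (I : X.IdealSheafData) {x : X} {Q : Ideal (X.presheaf.stalk x)}
    (hQ : AssIdeal (Prime.stalkIdeal I x) Q) :
    ∃ y : X, y ⤳ x ∧ y ∈ I.support ∧ Q.height = ringKrullDim (X.presheaf.stalk y) ∧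
      ∃ a, a ∉ Prime.stalkIdeal I y ∧
        ∀ r ∈ IsLocalRing.maximalIdeal (X.presheaf.stalk y), r * a ∈ Prime.stalkIdeal I y := by
  obtain ⟨U, hU, hxU, -⟩ := exists_isAffineOpen_mem_and_subset (x := x) (U := ⊤) trivial
  let U' : X.affineOpens := ⟨U, hU⟩
  letI algx := X.presheaf.algebra_section_stalk ⟨x, hxU⟩
  haveI := hU.isLocalization_stalk ⟨x, hxU⟩
  let p := (hU.primeIdealOf ⟨x, hxU⟩).asIdeal
  obtain ⟨hQp, a, ha⟩ := hQ
  rw [Prime.stalkIdeal_eq I U' hxU] at ha
  obtain ⟨⟨c, s⟩, hcs⟩ := IsLocalization.surj p.primeCompl a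
  let q := Q.comap (algebraMap Γ(X, U) (X.presheaf.stalk x))
  obtain ⟨y, hyU, hyq⟩ := Groth.Agent.Lib.AssPt.Basic.exists_point_of_prime hU q
  have hqp : q ≤ p := by
    intro r hr
    by_contra hrp
    exact hQp.ne_top (Ideal.eq_top_of_isUnit_mem _ hr
      (IsLocalization.map_units (M := p.primeCompl) (X.presheaf.stalk x) ⟨r, hrp⟩))
  have hca : ∀ r, r ∈ q ↔ algebraMap _ (X.presheaf.stalk x) (r * c) ∈
      (I.ideal U').map (algebraMap Γ(X, U) (X.presheaf.stalk x)) := fun r => by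
    rw [Ideal.mem_comap, ha, map_mul, ← hcs, ← mul_assoc,
      Ideal.mul_unit_mem_iff_mem _ (IsLocalization.map_units (X.presheaf.stalk x) s)]
    rfl
  have hIq : I.ideal U' ≤ q := fun r hr => (hca r).mpr
    (by rw [map_mul]; exact Ideal.mul_mem_right _ _ (Ideal.mem_map_of_mem _ hr))
  refine ⟨y, (Groth.Agent.Lib.AssPt.Basic.specializes_iff_primeIdealOf hU hxU hyU).mpr (hyq ▸ hqp),
    (Prime.mem_support_iff_le_prime I U' hyU).mpr (hyq ▸ hIq), ?_, ?_⟩
  · rw [Prime.ringKrullDim_stalk_eq_height hU hyU, hyq, IsLocalization.height_under p.primeCompl Q]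
  · letI algy := X.presheaf.algebra_section_stalk ⟨y, hyU⟩
    haveI := hU.isLocalization_stalk ⟨y, hyU⟩
    have hy' : (hU.primeIdealOf ⟨y, hyU⟩).asIdeal = q := hyq
    refine ⟨algebraMap Γ(X, U) (X.presheaf.stalk y) c, fun hc => ?_, fun r hr => ?_⟩
    · rw [Prime.stalkIdeal_eq I U' hyU] at hc
      obtain ⟨t, ht, htc⟩ := (IsLocalization.algebraMap_mem_map_algebraMap_iff
        (hU.primeIdealOf ⟨y, hyU⟩).asIdeal.primeCompl (X.presheaf.stalk y) (I.ideal U') c).mp hc
      refine (hy' ▸ ht : t ∉ q) ((hca t).mpr (Ideal.mem_map_of_mem _ htc))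
    · rw [Prime.stalkIdeal_eq I U' hyU]
      obtain ⟨⟨r', w⟩, hrw⟩ := IsLocalization.surj (hU.primeIdealOf ⟨y, hyU⟩).asIdeal.primeCompl r
      have hr' : r' ∈ q := by
        rw [← hy', ← IsLocalization.AtPrime.to_map_mem_maximal_iff (X.presheaf.stalk y)
          (hU.primeIdealOf ⟨y, hyU⟩).asIdeal r', ← hrw]
        exact Ideal.mul_mem_right _ _ hr
      obtain ⟨t, ht, htc⟩ := (IsLocalization.algebraMap_mem_map_algebraMap_iff p.primeCompl
        (X.presheaf.stalk x) (I.ideal U') _).mp ((hca r').mp hr')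
      refine (Ideal.mul_unit_mem_iff_mem _ (IsLocalization.map_units (X.presheaf.stalk y) w)).mp ?_
      rw [mul_right_comm, hrw, ← map_mul]
      exact (IsLocalization.algebraMap_mem_map_algebraMap_iff
        (hU.primeIdealOf ⟨y, hyU⟩).asIdeal.primeCompl (X.presheaf.stalk y) (I.ideal U') _).mpr
        ⟨t, fun h => ht (hqp (hy'.le h)), htc⟩

theorem ker_stalkMap_subschemeι (I : X.IdealSheafData) (z : I.subscheme) :
    RingHom.ker (I.subschemeι.stalkMap z).hom = Prime.stalkIdeal I (I.subschemeι z) := by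
  obtain ⟨U, hU, hxU, -⟩ := exists_isAffineOpen_mem_and_subset (x := I.subschemeι z) (U := ⊤) trivial
  refine le_antisymm ?_ ?_
  · have h := Lib.Cyc.Dev.SchemeCase.ker_stalkMap_le I.subschemeι ⟨U, hU⟩ z hxU
    rw [I.ker_subschemeι, ← Prime.stalkIdeal_eq I ⟨U, hU⟩ hxU] at h
    exact h
  · rw [Prime.stalkIdeal_eq I ⟨U, hU⟩ hxU, Ideal.map_le_iff_le_comap]
    intro r hr
    rw [Ideal.mem_comap, RingHom.mem_ker, Scheme.Hom.germ_stalkMap_apply]
    have hr' : r ∈ I.subschemeι.ker.ideal ⟨U, hU⟩ := by rwa [I.ker_subschemeι]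
    rw [Scheme.Hom.ker_apply, RingHom.mem_ker] at hr'
    rw [hr', map_zero]

theorem stalkIdeal_eq_top {I : X.IdealSheafData} {x : X} (hx : x ∉ I.support) :
    Prime.stalkIdeal I x = ⊤ := by
  obtain ⟨U, hU, hxU, -⟩ := exists_isAffineOpen_mem_and_subset (x := x) (U := ⊤) trivial
  rw [Prime.mem_support_iff_le_prime I ⟨U, hU⟩ hxU, SetLike.not_le_iff_exists] at hx
  obtain ⟨r, hrI, hrp⟩ := hx
  rw [Prime.stalkIdeal_eq I ⟨U, hU⟩ hxU]
  letI algx := X.presheaf.algebra_section_stalk ⟨x, hxU⟩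
  haveI := hU.isLocalization_stalk ⟨x, hxU⟩
  exact Ideal.eq_top_of_isUnit_mem _ (Ideal.mem_map_of_mem (algebraMap _ (X.presheaf.stalk x)) hrI)
    (IsLocalization.map_units (M := (hU.primeIdealOf ⟨x, hxU⟩).asIdeal.primeCompl) (X.presheaf.stalk x) ⟨r, hrp⟩)

/-- Effective Cartier from factorial stalks and codimension one associated points. -/
theorem isEffCartier_of_assoc [IsLocallyNoetherian X] (I : X.IdealSheafData)
    (h : ∀ y ∈ I.support, (∃ a, a ∉ Prime.stalkIdeal I y ∧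
        ∀ r ∈ IsLocalRing.maximalIdeal (X.presheaf.stalk y), r * a ∈ Prime.stalkIdeal I y) →
      ringKrullDim (X.presheaf.stalk y) = 1)
    (hufd : ∀ x : X, x ∈ I.support →
      IsDomain (X.presheaf.stalk x) ∧ UniqueFactorizationMonoid (X.presheaf.stalk x)) :
    BlowUp.IsEffCartierIdeal I := by
  refine isEffCartier_of_stalks I fun x => ?_
  by_cases hx : x ∈ I.support
  · haveI := (hufd x hx).1
    haveI := (hufd x hx).2
    obtain ⟨g, hg0, hg⟩ := isPrincipal_of_height_one (Prime.stalkIdeal I x) fun Q hQ => by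
      obtain ⟨y, -, hy, hh, ha⟩ := exists_point_of_assIdeal I hQ
      exact_mod_cast hh.trans (h y hy ha)
    exact ⟨g, mem_nonZeroDivisors_of_ne_zero hg0, hg⟩
  · exact ⟨1, one_mem _, by rw [stalkIdeal_eq_top hx, Ideal.span_singleton_one]⟩

end Groth.Agent.H4.CartierUFD
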