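import Groth.Agent.H26.SectionExtendDvr
import Groth.Agent.Lib.Regular.Descent
import Mathlib.AlgebraicGeometry.Morphisms.Separated
import Mathlib.AlgebraicGeometry.SpreadingOut

/-!
# Extending rational sections of closed separated morphisms to valuation-ring points
-/

set_option autoImplicit false
universe u

open CategoryTheory CategoryTheory.Limits AlgebraicGeometry TopologicalSpace
open Groth.Agent.H26.SectionExtend

namespace Groth.Agent.H4.RatExt

lemma mem_range_or_inv {O K : Type u} [CommRing O] [IsDomain O] [ValuationRing O] [Field K]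
    [Algebra O K] [IsFractionRing O K] (t : K) :
    t ∈ (algebraMap O K).range ∨
      ∃ c ∈ IsLocalRing.maximalIdeal O, algebraMap O K c * t = 1 := by
  obtain ⟨a, b, hb, rfl⟩ := IsFractionRing.div_surjective (A := O) t
  have hb0 : algebraMap O K b ≠ 0 := IsFractionRing.to_map_ne_zero_of_mem_nonZeroDivisors hb
  rcases ValuationRing.dvd_total b a with ⟨d, rfl⟩ | ⟨d, hd⟩
  · exact Or.inl ⟨d, by rw [map_mul, mul_div_cancel_left₀ _ hb0]⟩
  by_cases hu : IsUnit d
  · obtain ⟨u, rfl⟩ := hu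
    refine Or.inl ⟨(↑u⁻¹ : O), ?_⟩
    rw [eq_div_iff hb0, ← map_mul, hd, mul_comm a, Units.inv_mul_cancel_left]
  · refine Or.inr ⟨d, (IsLocalRing.mem_maximalIdeal d).mpr hu, ?_⟩
    have ha : algebraMap O K a ≠ 0 := fun h => hb0 (by rw [hd, map_mul, h, zero_mul])
    rw [← mul_div_assoc, div_eq_one_iff_eq hb0, hd, map_mul, mul_comm]

lemma exists_factor {A O K : Type u} [CommRing A] [IsLocalRing A] [CommRing O] [IsDomain O]
    [ValuationRing O] [Field K] [Algebra O K] [IsFractionRing O K] (θ : A →+* K) (i : O →+* A)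
    [IsLocalHom i] (hi : θ.comp i = algebraMap O K) :
    ∃ θ' : A →+* O, (algebraMap O K).comp θ' = θ ∧ θ'.comp i = RingHom.id O := by
  have hinj : Function.Injective (algebraMap O K) := IsFractionRing.injective O K
  have hrange : ∀ z, θ z ∈ (algebraMap O K).range := fun z => by
    rcases mem_range_or_inv (O := O) (θ z) with h | ⟨c, hc, hcz⟩
    · exact h
    exfalso
    have h1 : θ (1 - i c * z) = 0 := by
      rw [map_sub, map_one, map_mul, sub_eq_zero, show θ (i c) = algebraMap O K c from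
        congr($hi c)]
      exact hcz.symm
    have h2 : IsUnit (1 - i c * z) := by
      refine IsLocalRing.isUnit_one_sub_self_of_mem_nonunits _ ?_
      intro hu
      exact (IsLocalRing.mem_maximalIdeal c).mp hc
        (isUnit_of_map_unit i c (isUnit_of_mul_isUnit_left hu))
    exact (h1 ▸ h2.map θ).ne_zero rfl
  choose g hg using hrange
  refine ⟨{ toFun := g
            map_one' := hinj (by rw [hg, map_one, map_one])
            map_mul' := fun a c => hinj (by rw [map_mul, hg, hg, hg, map_mul])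
            map_zero' := hinj (by rw [hg, map_zero, map_zero])
            map_add' := fun a c => hinj (by rw [map_add, hg, hg, hg, map_add]) },
    RingHom.ext hg, RingHom.ext fun z => hinj ((hg (i z)).trans congr($hi z))⟩

/-- morphisms to a separated scheme agreeing on a dense open agree -/
lemma eq_of_dense {X Y : Scheme.{u}} (f : X ⟶ Y) [IsSeparated f] [IsReduced Y]
    (V W : Y.Opens) (hV : Dense (V : Set Y)) (g g' : (W : Scheme.{u}) ⟶ X)
    (hg : g ≫ f = W.ι) (hg' : g' ≫ f = W.ι)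
    (h : Y.homOfLE (inf_le_left : W ⊓ V ≤ W) ≫ g = Y.homOfLE (inf_le_left : W ⊓ V ≤ W) ≫ g') :
    g = g' := by
  have : IsDominant (Y.homOfLE (inf_le_left : W ⊓ V ≤ W)) := by
    rw [isDominant_iff]
    have h1 : Dense (Subtype.val ⁻¹' (V : Set Y) : Set (W : Scheme.{u})) :=
      hV.preimage W.2.isOpenEmbedding_subtypeVal.isOpenMap
    refine h1.mono ?_
    intro w hw
    refine ⟨⟨w.1, w.2, hw⟩, Subtype.ext ?_⟩
    change (Y.homOfLE (inf_le_left : W ⊓ V ≤ W) ≫ W.ι) _ = _
    rw [Scheme.homOfLE_ι]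
    rfl
  exact ext_of_isDominant_of_isSeparated f (hg.trans hg'.symm) _ h

/-- the lift of a valuation-ring point -/
lemma exists_lift {X Y : Scheme.{u}} (f : X ⟶ Y) (x : X)
    [IsDomain (Y.presheaf.stalk (f x))] [ValuationRing (Y.presheaf.stalk (f x))]
    (b : Spec (CommRingCat.of (FractionRing (Y.presheaf.stalk (f x)))) ⟶ X)
    (hb : b (IsLocalRing.closedPoint _) ⤳ x)
    (hbf : b ≫ f = genMap (Y.presheaf.stalk (f x)) ≫ Y.fromSpecStalk (f x)) :
    ∃ φ : Spec (Y.presheaf.stalk (f x)) ⟶ X, φ ≫ f = Y.fromSpecStalk (f x) ∧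
      genMap (Y.presheaf.stalk (f x)) ≫ φ = b := by
  let θ : X.presheaf.stalk x ⟶ CommRingCat.of (FractionRing (Y.presheaf.stalk (f x))) :=
    X.presheaf.stalkSpecializes hb ≫ Scheme.stalkClosedPointTo b
  have hθb : Spec.map θ ≫ X.fromSpecStalk x = b := by
    simp only [θ]
    rw [Spec.map_comp, Category.assoc, Scheme.SpecMap_stalkSpecializes_fromSpecStalk,
      Scheme.Spec_stalkClosedPointTo_fromSpecStalk]
  have hcomp : f.stalkMap x ≫ θ =
      CommRingCat.ofHom (algebraMap (Y.presheaf.stalk (f x)) (FractionRing (Y.presheaf.stalk (f x)))) := by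
    apply Spec.map_injective
    rw [← cancel_mono (Y.fromSpecStalk (f x)), Spec.map_comp, Category.assoc,
      Scheme.SpecMap_stalkMap_fromSpecStalk, reassoc_of% hθb, hbf]
  obtain ⟨θ', h1, h2⟩ := exists_factor θ.hom (f.stalkMap x).hom congr(($hcomp).hom)
  obtain ⟨ψ, h1', h2'⟩ : ∃ ψ : X.presheaf.stalk x ⟶ Y.presheaf.stalk (f x),
      ψ ≫ CommRingCat.ofHom
        (algebraMap (Y.presheaf.stalk (f x)) (FractionRing (Y.presheaf.stalk (f x)))) = θ ∧
      f.stalkMap x ≫ ψ = 𝟙 _ :=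
    ⟨CommRingCat.ofHom θ', CommRingCat.hom_ext h1, CommRingCat.hom_ext h2⟩
  refine ⟨Spec.map ψ ≫ X.fromSpecStalk x, ?_, ?_⟩
  · rw [Category.assoc, ← Scheme.SpecMap_stalkMap_fromSpecStalk, ← Category.assoc, ← Spec.map_comp,
      h2', Spec.map_id, Category.id_comp]
  · rw [← Category.assoc]
    conv_rhs => rw [← hθb]
    congr 1
    change Spec.map _ ≫ _ = _
    exact ((Spec.map_comp _ _).symm.trans (congrArg Spec.map h1'))

/-- A section over a dense open extends to a point with valuation ring stalk. -/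
theorem exists_local_ext {X Y : Scheme.{u}} [IsLocallyNoetherian Y] [IsReduced Y]
    (f : X ⟶ Y) [IsSeparated f] [LocallyOfFiniteType f] (hcl : IsClosedMap f)
    (V : Y.Opens) (hV : Dense (V : Set Y)) (s : (V : Scheme.{u}) ⟶ X) (hs : s ≫ f = V.ι)
    (y : Y) [IsDomain (Y.presheaf.stalk y)] [ValuationRing (Y.presheaf.stalk y)] :
    ∃ (U : Y.Opens) (g : (U : Scheme.{u}) ⟶ X), y ∈ U ∧ g ≫ f = U.ι ∧
      Y.homOfLE (inf_le_left : U ⊓ V ≤ U) ≫ g = Y.homOfLE (inf_le_right : U ⊓ V ≤ V) ≫ s := by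
  obtain ⟨W, hyW, hW⟩ := exists_integral_nhd y
  obtain ⟨η, hηV, hηW, hη⟩ := exists_generization V hV y W hyW
  have heη : (Y.fromSpecStalk y) (genericPoint (Spec (Y.presheaf.stalk y))) ⤳ η := by
    obtain ⟨z, hz⟩ : η ∈ Set.range (Y.fromSpecStalk y) := by
      rw [Scheme.range_fromSpecStalk]
      exact hη y hyW
    rw [← hz]
    exact ((genericPoint_spec (Spec (Y.presheaf.stalk y))).specializes trivial).map (Y.fromSpecStalk y).continuous
  have hey : (Y.fromSpecStalk y) (genericPoint (Spec (Y.presheaf.stalk y))) ⤳ y := heη.trans (hη y hyW)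
  obtain ⟨a, ha⟩ := exists_lift_opens (genMap (Y.presheaf.stalk y) ≫ Y.fromSpecStalk y) V fun z => by
    rw [Scheme.Hom.comp_apply, genMap_apply]
    exact heη.mem_open V.2 hηV
  set x₀ := (a ≫ s) (IsLocalRing.closedPoint _) with hx₀def
  have hfx₀ : f x₀ = (Y.fromSpecStalk y) (genericPoint (Spec (Y.presheaf.stalk y))) := by
    rw [hx₀def, ← Scheme.Hom.comp_apply, Category.assoc, hs, ha, Scheme.Hom.comp_apply,
      genMap_apply]
    rfl
  obtain ⟨x, hx, hfx⟩ : y ∈ f '' closure {x₀} :=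
    hey.mem_closed (hcl _ isClosed_closure) ⟨x₀, subset_closure rfl, hfx₀⟩
  have hspec : x₀ ⤳ x := specializes_iff_mem_closure.mpr hx
  subst hfx
  obtain ⟨φ, hφf, hφg⟩ := exists_lift f x (a ≫ s) hspec (by rw [Category.assoc, hs, ha])
  obtain ⟨U₀, hyU₀, g₀, hg₀, hg₀f⟩ := spread_out_of_isGermInjective' (𝟙 Y) f (x := f x) φ
    (by rw [hφf, Category.comp_id])
  rw [Category.comp_id] at hg₀f
  refine ⟨U₀ ⊓ W, Y.homOfLE inf_le_left ≫ g₀, ⟨hyU₀, hyW⟩, by simp [hg₀f], ?_⟩
  set T := U₀ ⊓ W ⊓ V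
  obtain ⟨c, hc⟩ := exists_lift_opens (genMap (Y.presheaf.stalk (f x)) ≫ Y.fromSpecStalk (f x)) T fun z => by
    rw [Scheme.Hom.comp_apply, genMap_apply]
    exact ⟨⟨hey.mem_open U₀.2 hyU₀, heη.mem_open W.2 hηW⟩, heη.mem_open V.2 hηV⟩
  have : IsDominant c := by
    rw [isDominant_iff]
    intro w
    have h1 : c (IsLocalRing.closedPoint _) ⤳ w := by
      apply T.ι.isEmbedding.isInducing.specializes_iff.mp
      change (c ≫ T.ι) _ ⤳ _
      rw [hc, Scheme.Hom.comp_apply, genMap_apply]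
      exact heη.trans (hη w.1 w.2.1.2)
    exact (specializes_iff_mem_closure.mp h1) |> closure_mono (by rintro _ rfl; exact ⟨_, rfl⟩)
  refine ext_of_isDominant_of_isSeparated f ?_ c ?_
  · simp only [Category.assoc, hg₀f, hs, Scheme.homOfLE_ι]
  · have h1 : c ≫ Y.homOfLE (inf_le_left : T ≤ U₀ ⊓ W) ≫ Y.homOfLE inf_le_left =
        genMap (Y.presheaf.stalk (f x)) ≫ U₀.fromSpecStalkOfMem (f x) hyU₀ := by
      rw [← cancel_mono U₀.ι]
      simp only [Category.assoc, Scheme.homOfLE_ι, hc, Scheme.Opens.fromSpecStalkOfMem_ι]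
    have h2 : c ≫ Y.homOfLE (inf_le_right : T ≤ V) = a := by
      rw [← cancel_mono V.ι, Category.assoc, Scheme.homOfLE_ι, hc, ha]
    rw [reassoc_of% h1, ← hg₀, hφg, reassoc_of% h2]

/-- A section over a dense open of a separated closed morphism extends over all points of
codimension at most one. -/
theorem exists_ext {X Y : Scheme.{u}} [IsLocallyNoetherian Y] [IsReduced Y]
    (hreg : ∀ y : Y, ringKrullDim (Y.presheaf.stalk y) ≤ 1 → IsRegularLocalRing (Y.presheaf.stalk y))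
    (f : X ⟶ Y) [IsSeparated f] [LocallyOfFiniteType f] (hcl : IsClosedMap f)
    (V : Y.Opens) (hV : Dense (V : Set Y)) (s : (V : Scheme.{u}) ⟶ X) (hs : s ≫ f = V.ι) :
    ∃ (U : Y.Opens) (hVU : V ≤ U) (s' : (U : Scheme.{u}) ⟶ X), s' ≫ f = U.ι ∧
      Y.homOfLE hVU ≫ s' = s ∧ ∀ y : Y, ringKrullDim (Y.presheaf.stalk y) ≤ 1 → y ∈ U := by
  have hval : ∀ y : Y, ringKrullDim (Y.presheaf.stalk y) ≤ 1 →
      ∃ _ : IsDomain (Y.presheaf.stalk y), ValuationRing (Y.presheaf.stalk y) := by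
    intro y hy
    have := hreg y hy
    have hd := Groth.Agent.Lib.Regular.Quotient.isDomain (Y.presheaf.stalk y)
    refine ⟨inferInstance, ?_⟩
    by_cases hf : IsField (Y.presheaf.stalk y)
    · letI := hf.toField
      exact ValuationRing.of_field _
    have h1 : ringKrullDim (Y.presheaf.stalk y) = 1 := by
      have h := IsRegularLocalRing.spanFinrank_maximalIdeal (R := Y.presheaf.stalk y)
      rw [← h] at hy ⊢
      have hle : (IsLocalRing.maximalIdeal (Y.presheaf.stalk y)).spanFinrank ≤ 1 := by exact_mod_cast hy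
      rcases Nat.le_one_iff_eq_zero_or_eq_one.mp hle with h0 | h0
      · refine absurd ?_ hf
        rw [IsLocalRing.isField_iff_maximalIdeal_eq]
        exact (Submodule.spanFinrank_eq_zero_iff_eq_bot
          (Ideal.fg_of_isNoetherianRing _)).mp h0
      · exact_mod_cast h0
    obtain ⟨_, _⟩ := (Groth.Agent.Lib.Regular.Descent.isDiscreteValuationRing_iff).mpr ⟨hreg y hy, h1⟩
    infer_instance
  have hloc : ∀ y : {y : Y // ringKrullDim (Y.presheaf.stalk y) ≤ 1},
      ∃ (U : Y.Opens) (g : (U : Scheme.{u}) ⟶ X), y.1 ∈ U ∧ g ≫ f = U.ι ∧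
      Y.homOfLE (inf_le_left : U ⊓ V ≤ U) ≫ g = Y.homOfLE (inf_le_right : U ⊓ V ≤ V) ≫ s := by
    intro y
    obtain ⟨_, _⟩ := hval y.1 y.2
    exact exists_local_ext f hcl V hV s hs y.1
  choose U g hyU hgf hgs using hloc
  let F : Option {y : Y // ringKrullDim (Y.presheaf.stalk y) ≤ 1} → Y.Opens := fun o => o.elim V U
  let G : ∀ o, (F o : Scheme.{u}) ⟶ X := fun
    | none => s
    | some y => g y
  have hG : ∀ o, G o ≫ f = (F o).ι := fun
    | none => hs
    | some y => hgf y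
  have hGs : ∀ o, Y.homOfLE (inf_le_left : F o ⊓ V ≤ F o) ≫ G o =
      Y.homOfLE (inf_le_right : F o ⊓ V ≤ V) ≫ s := fun
    | none => rfl
    | some y => hgs y
  obtain ⟨s', hs'⟩ := exists_glue F G fun i j => by
    refine eq_of_dense f V _ hV _ _ (by simp [hG]) (by simp [hG]) ?_
    have hi := congrArg (Y.homOfLE (show F i ⊓ F j ⊓ V ≤ F i ⊓ V from
      inf_le_inf_right _ inf_le_left) ≫ ·) (hGs i)
    have hj := congrArg (Y.homOfLE (show F i ⊓ F j ⊓ V ≤ F j ⊓ V from
      inf_le_inf_right _ inf_le_right) ≫ ·) (hGs j)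
    simp only [Scheme.homOfLE_homOfLE_assoc] at hi hj ⊢
    rw [hi, hj]
  refine ⟨⨆ o, F o, le_iSup F none, s', ?_, hs' none, fun y hy =>
    Opens.mem_iSup.mpr ⟨some ⟨y, hy⟩, hyU ⟨y, hy⟩⟩⟩
  refine Scheme.Cover.hom_ext (Scheme.Opens.iSupOpenCover F) _ _ fun o => ?_
  change Y.homOfLE (le_iSup F o) ≫ s' ≫ f = Y.homOfLE (le_iSup F o) ≫ (⨆ o, F o).ι
  rw [← Category.assoc, hs' o, hG o, Scheme.homOfLE_ι]

end Groth.Agent.H4.RatExt
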