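import Groth.Agent.Lib.GrpSch.Translate
import Groth.Agent.Lib.GrpSch.BaseChange
import Groth.Agent.Lib.VarDim.Fibre
import Groth.Agent.Lib.DescAlg.Descends
import Groth.Agent.Lib.TopDim.Basic
import Mathlib.AlgebraicGeometry.ZariskisMainTheorem
import Mathlib.AlgebraicGeometry.FunctionField
import Mathlib.AlgebraicGeometry.Geometrically.Integral
import Mathlib.RingTheory.Localization.Free
import Mathlib.RingTheory.Localization.FractionRing
import Mathlib.RingTheory.Flat.Localization

/-! A surjective homomorphism of abelian varieties of the same dimension is finite and flat. -/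

set_option autoImplicit false

universe u

open CategoryTheory Limits MonoidalCategory CartesianMonoidalCategory MonObj AlgebraicGeometry
open Groth.Agent.Lib

namespace Groth.Agent.H4.IsogenyDim

/-- A finite morphism to an integral locally Noetherian scheme is flat over a nonempty open. -/
theorem exists_flat_restrict {X Y : Scheme.{u}} (f : X ⟶ Y) [IsFinite f] [IsIntegral Y]
    [IsLocallyNoetherian Y] : ∃ U : Y.Opens, (U : Set Y).Nonempty ∧ Flat (f ∣_ U) := by
  obtain ⟨V, hV, hηV, -⟩ := exists_isAffineOpen_mem_and_subset (x := genericPoint Y) (U := ⊤) trivial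
  haveI : Nonempty ↥V := ⟨⟨_, hηV⟩⟩
  haveI : IsDomain Γ(Y, V) := @IsIntegral.component_integral _ _ V ⟨⟨_, hηV⟩⟩
  haveI : IsNoetherianRing Γ(Y, V) := IsLocallyNoetherian.component_noetherian ⟨V, hV⟩
  letI algAB : Algebra Γ(Y, V) Γ(X, f ⁻¹ᵁ V) := (f.app V).hom.toAlgebra
  haveI : Module.Finite Γ(Y, V) Γ(X, f ⁻¹ᵁ V) := f.finite_app V hV
  haveI : Module.FinitePresentation Γ(Y, V) Γ(X, f ⁻¹ᵁ V) :=
    Module.finitePresentation_of_finite _ _
  let K := Localization (nonZeroDivisors Γ(Y, V))
  haveI : Module.Free (Localization (nonZeroDivisors Γ(Y, V)))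
      (LocalizedModule (nonZeroDivisors Γ(Y, V)) Γ(X, f ⁻¹ᵁ V)) := by
    letI : Field (Localization (nonZeroDivisors Γ(Y, V))) :=
      IsFractionRing.toField Γ(Y, V)
    exact Module.Free.of_divisionRing _ _
  obtain ⟨r, hr, hfree, -⟩ := Module.FinitePresentation.exists_free_localizedModule_powers
    (nonZeroDivisors Γ(Y, V))
    (LocalizedModule.mkLinearMap (nonZeroDivisors Γ(Y, V)) Γ(X, f ⁻¹ᵁ V)) K
  have hr0 : r ≠ 0 := nonZeroDivisors.ne_zero hr
  refine ⟨Y.basicOpen r, ?_, ?_⟩
  · rw [Set.nonempty_iff_ne_empty]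
    intro h
    exact hr0 ((basicOpen_eq_bot_iff r).1 (TopologicalSpace.Opens.coe_eq_empty.1 h))
  haveI hD : IsAffineOpen (Y.basicOpen r) := hV.basicOpen r
  have hfD : IsAffineOpen (f ⁻¹ᵁ Y.basicOpen r) := hD.preimage f
  have key : (f.app (Y.basicOpen r)).hom.Flat := by
    letI : Algebra Γ(Y, V) Γ(Y, Y.basicOpen r) :=
      (Y.presheaf.map (homOfLE (Y.basicOpen_le r)).op).hom.toAlgebra
    haveI : IsLocalization.Away r Γ(Y, Y.basicOpen r) := hV.isLocalization_basicOpen r
    letI algD : Algebra Γ(Y, Y.basicOpen r) Γ(X, f ⁻¹ᵁ Y.basicOpen r) :=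
      (f.app (Y.basicOpen r)).hom.toAlgebra
    letI algBD : Algebra Γ(X, f ⁻¹ᵁ V) Γ(X, f ⁻¹ᵁ Y.basicOpen r) :=
      (X.presheaf.map (homOfLE (f.preimage_mono (Y.basicOpen_le r))).op).hom.toAlgebra
    letI : Algebra Γ(Y, V) Γ(X, f ⁻¹ᵁ Y.basicOpen r) :=
      ((algebraMap Γ(X, f ⁻¹ᵁ V) Γ(X, f ⁻¹ᵁ Y.basicOpen r)).comp
        (algebraMap Γ(Y, V) Γ(X, f ⁻¹ᵁ V))).toAlgebra
    haveI : IsScalarTower Γ(Y, V) Γ(X, f ⁻¹ᵁ V) Γ(X, f ⁻¹ᵁ Y.basicOpen r) :=
      IsScalarTower.of_algebraMap_eq fun _ => rfl
    haveI : IsScalarTower Γ(Y, V) Γ(Y, Y.basicOpen r) Γ(X, f ⁻¹ᵁ Y.basicOpen r) := by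
      refine IsScalarTower.of_algebraMap_eq' ?_
      simp only [RingHom.algebraMap_toAlgebra, ← CommRingCat.hom_comp]
      exact congrArg CommRingCat.Hom.hom (f.naturality _).symm
    haveI : IsLocalization.Away (algebraMap Γ(Y, V) Γ(X, f ⁻¹ᵁ V) r) Γ(X, f ⁻¹ᵁ Y.basicOpen r) := by
      have h := (hV.preimage f).isLocalization_of_eq_basicOpen (f.app V r)
        (homOfLE (f.preimage_mono (Y.basicOpen_le r))) (f.preimage_basicOpen r)
      exact h
    haveI : IsLocalizedModule (Submonoid.powers r)
        (IsScalarTower.toAlgHom Γ(Y, V) Γ(X, f ⁻¹ᵁ V) Γ(X, f ⁻¹ᵁ Y.basicOpen r)).toLinearMap := by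
      rw [isLocalizedModule_iff_isLocalization, Algebra.algebraMapSubmonoid, Submonoid.map_powers]
      assumption
    haveI : Module.Flat (Localization.Away r) (LocalizedModule.Away r Γ(X, f ⁻¹ᵁ V)) :=
      Module.Flat.of_free
    haveI : Module.Flat Γ(Y, V) (Localization.Away r) := IsLocalization.flat _ (Submonoid.powers r)
    haveI : Module.Flat Γ(Y, V) (LocalizedModule.Away r Γ(X, f ⁻¹ᵁ V)) :=
      Module.Flat.trans Γ(Y, V) (Localization.Away r) _
    haveI : Module.Flat Γ(Y, V) Γ(X, f ⁻¹ᵁ Y.basicOpen r) :=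
      Module.Flat.of_linearEquiv (IsLocalizedModule.iso (Submonoid.powers r)
        (IsScalarTower.toAlgHom Γ(Y, V) Γ(X, f ⁻¹ᵁ V) Γ(X, f ⁻¹ᵁ Y.basicOpen r)).toLinearMap).symm
    exact (Module.flat_iff_of_isLocalization Γ(Y, Y.basicOpen r) (Submonoid.powers r)
      Γ(X, f ⁻¹ᵁ Y.basicOpen r)).2 inferInstance
  haveI : IsAffine ↑(Y.basicOpen r) := hD
  haveI : IsAffine ↑(f ⁻¹ᵁ Y.basicOpen r) := hfD
  rw [HasRingHomProperty.iff_of_isAffine (P := @Flat), morphismRestrict_appTop]
  have key' : ∀ W : Y.Opens, W = Y.basicOpen r → (f.app W).hom.Flat := fun W hW => hW ▸ key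
  exact RingHom.Flat.comp (key' _ (Scheme.Opens.ι_image_top _))
    (RingHom.Flat.of_bijective (ConcreteCategory.bijective_of_isIso _))

variable {k : Type u} [Field k]

/-- A proper morphism of varieties of the same dimension is finite over a nonempty open. -/
theorem exists_finite_restrict {X Y : Over (Spec (CommRingCat.of k))} [LocallyOfFiniteType X.hom]
    [LocallyOfFiniteType Y.hom] [IsIntegral Y.left] (f : X ⟶ Y) [IsProper f.left]
    (hdim : topologicalKrullDim X.left ≤ topologicalKrullDim Y.left) :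
    ∃ U : Y.left.Opens, (U : Set Y.left).Nonempty ∧ IsFinite (f.left ∣_ U) := by
  suffices hfin : (f.left ⁻¹' {genericPoint Y.left}).Finite by
    obtain ⟨V, hV, hV'⟩ := exists_isFinite_morphismRestrict_of_finite_preimage_singleton f.left _ hfin
    exact ⟨V, ⟨_, hV⟩, hV'⟩
  have h0 : topologicalKrullDim ↥(f.left.base ⁻¹' {genericPoint Y.left}) ≤ ((0 : ℕ) : WithBot ℕ∞) := by
    refine (VarDim.Fibre.topologicalKrullDim_fibre_le_iff f.left _ _).2 fun x hx => ?_
    have h1 := VarDim.Fibre.pdim_eq_add X.hom Y.hom f.left (Over.w f) x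
    have h2 := (VarDim.Basic.pdim_le_topologicalKrullDim_scheme X.hom x).trans hdim
    rw [VarDim.Basic.topologicalKrullDim_irreducibleSpace Y.hom] at h2
    rw [hx] at h1
    have h3 : VarDim.Basic.pdim X.hom x ≤ VarDim.Basic.pdim Y.hom (genericPoint Y.left) := by
      exact_mod_cast h2
    exact_mod_cast (by omega : VarDim.Basic.tdAt f.left x ≤ 0)
  haveI : LocallyOfFiniteType (f.left.fiberToSpecResidueField (genericPoint Y.left)) :=
    inferInstanceAs (LocallyOfFiniteType (pullback.snd f.left (Y.left.fromSpecResidueField _)))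
  haveI : QuasiCompact (f.left.fiberToSpecResidueField (genericPoint Y.left)) :=
    inferInstanceAs (QuasiCompact (pullback.snd f.left (Y.left.fromSpecResidueField _)))
  haveI : IsLocallyNoetherian (f.left.fiber (genericPoint Y.left)) :=
    LocallyOfFiniteType.isLocallyNoetherian (f.left.fiberToSpecResidueField _)
  haveI : CompactSpace (f.left.fiber (genericPoint Y.left)) :=
    QuasiCompact.compactSpace_of_compactSpace (f.left.fiberToSpecResidueField _)
  haveI : IsNoetherian (f.left.fiber (genericPoint Y.left)) := {}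
  have h1 : topologicalKrullDim ↥(f.left.fiber (genericPoint Y.left)) ≤ 0 := by
    rw [(f.left.fiberHomeo (genericPoint Y.left)).isHomeomorph.topologicalKrullDim_eq]
    exact_mod_cast h0
  have hfin : Finite ↥(f.left.fiber (genericPoint Y.left)) := (TopDim.Basic.finite_discrete_of_dim_le_zero h1).1
  exact (f.left.fiberHomeo (genericPoint Y.left)).finite_iff.1 hfin

section Hom

variable {X Y : Over (Spec (CommRingCat.of k))} [GrpObj X] [GrpObj Y]

theorem isFinite_flat_algClosed [IsAlgClosed k] [IsProper X.hom] [LocallyOfFiniteType Y.hom]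
    [IsIntegral Y.left] (f : X ⟶ Y) [IsMonHom f] [Surjective f.left]
    (U : Y.left.Opens) (hne : (U : Set Y.left).Nonempty) (hU : IsFinite (f.left ∣_ U)) :
    IsFinite f.left ∧ Flat f.left := by
  haveI hfin : IsFinite f.left := GrpSch.forall_of_open_of_surjective f (P := @IsFinite) U hne hU
  haveI : IsLocallyNoetherian Y.left := LocallyOfFiniteType.isLocallyNoetherian Y.hom
  obtain ⟨W, hWne, hW⟩ := exists_flat_restrict f.left
  exact ⟨hfin, GrpSch.forall_of_open_of_surjective f (P := @Flat) W hWne hW⟩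

/-- A surjective homomorphism of proper geometrically integral group schemes over a field which does
not drop dimension is finite and flat. -/
theorem isFinite_and_flat [IsProper X.hom] [IsProper Y.hom] [GeometricallyIntegral Y.hom]
    (f : X ⟶ Y) [IsMonHom f] [Surjective f.left]
    (hdim : topologicalKrullDim X.left ≤ topologicalKrullDim Y.left) :
    IsFinite f.left ∧ Flat f.left := by
  haveI : IsIntegral Y.left := GeometricallyIntegral.isIntegral_of_subsingleton Y.hom
  haveI : IsProper (f.left ≫ Y.hom) := by rw [Over.w]; infer_instance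
  haveI : IsProper f.left := IsProper.of_comp f.left Y.hom
  obtain ⟨U, ⟨y, hy⟩, hU⟩ := exists_finite_restrict f hdim
  let K := AlgebraicClosure k
  let e := GrpSch.extBase k K
  let F := (Over.pullback e).map f
  haveI : IsMonHom F := GrpSch.isMonHom_bc_map e f
  haveI : IsProper (Red.bc e X).hom := GrpSch.bc_hom_of (P := @IsProper) e X inferInstance
  haveI : IsProper (Red.bc e Y).hom := GrpSch.bc_hom_of (P := @IsProper) e Y inferInstance
  haveI : GeometricallyIntegral (Red.bc e Y).hom :=
    GrpSch.bc_hom_of (P := @GeometricallyIntegral) e Y inferInstance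
  haveI : IsIntegral (Red.bc e Y).left :=
    GeometricallyIntegral.isIntegral_of_subsingleton (Red.bc e Y).hom
  haveI : Surjective F.left := GrpSch.bc_map_left_of (P := @Surjective) e f inferInstance
  have hU' : IsFinite (F.left ∣_ (GrpSch.bcProj e Y ⁻¹ᵁ U)) :=
    GrpSch.restrict_preimage_of_isPullback (GrpSch.isPullback_bc_map e f).flip U hU
  have hne : ((GrpSch.bcProj e Y ⁻¹ᵁ U : (Red.bc e Y).left.Opens) : Set (Red.bc e Y).left).Nonempty := by
    haveI : Surjective (GrpSch.bcProj e Y) := (GrpSch.bcProj_surjective_flat_qc k K Y).1.1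
    obtain ⟨z, hz⟩ := (GrpSch.bcProj e Y).surjective y
    exact ⟨z, show GrpSch.bcProj e Y z ∈ U by rwa [hz]⟩
  obtain ⟨h1, h2⟩ := isFinite_flat_algClosed (X := Red.bc e X) (Y := Red.bc e Y) F _ hne hU'
  haveI : MorphismProperty.RespectsIso (@IsFinite : MorphismProperty Scheme.{u}) :=
    MorphismProperty.IsStableUnderBaseChange.respectsIso
  haveI : MorphismProperty.RespectsIso (@Flat : MorphismProperty Scheme.{u}) :=
    MorphismProperty.IsStableUnderBaseChange.respectsIso
  exact ⟨GrpSch.of_bc_map_left k K (P := @IsFinite) f h1, GrpSch.of_bc_map_left k K (P := @Flat) f h2⟩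

/-- A finite morphism of varieties of the same dimension is surjective. -/
theorem surjective_of_finite {A B : Over (Spec (CommRingCat.of k))} [LocallyOfFiniteType A.hom]
    [LocallyOfFiniteType B.hom] [IsIntegral A.left] [IsIntegral B.left] (f : A ⟶ B) [IsFinite f.left]
    (hdim : topologicalKrullDim B.left ≤ topologicalKrullDim A.left) : Surjective f.left := by
  have h1 := VarDim.Fibre.pdim_eq_add A.hom B.hom f.left (Over.w f) (genericPoint A.left)
  rw [VarDim.Basic.topologicalKrullDim_irreducibleSpace A.hom,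
    VarDim.Basic.topologicalKrullDim_irreducibleSpace B.hom] at hdim
  have h2 : VarDim.Basic.pdim B.hom (genericPoint B.left) ≤
      VarDim.Basic.pdim A.hom (genericPoint A.left) := by exact_mod_cast hdim
  have h3 : VarDim.Basic.tdAt f.left (genericPoint A.left) = 0 := by
    have h := (VarDim.Fibre.topologicalKrullDim_fibre_le_iff f.left
      (f.left (genericPoint A.left)) 0).1 ?_ _ rfl
    · exact_mod_cast le_antisymm h (by exact_mod_cast Nat.zero_le _)
    · haveI := (f.left.finite_preimage_singleton (f.left (genericPoint A.left))).to_subtype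
      haveI : DiscreteTopology ↥(f.left ⁻¹' {f.left (genericPoint A.left)}) :=
        f.left.isDiscrete_preimage_singleton _ |>.1
      exact topologicalKrullDim_zero_of_discreteTopology _
  have h4 : f.left (genericPoint A.left) = genericPoint B.left := by
    refine (VarDim.Basic.eq_of_pdim_le B.hom ((genericPoint_spec B.left).specializes trivial) ?_).symm
    omega
  refine ⟨Set.range_eq_univ.1 (Set.eq_univ_of_univ_subset ?_)⟩
  rw [← (genericPoint_spec B.left).def]
  exact (closure_minimal (Set.singleton_subset_iff.2 ⟨_, h4⟩) f.left.isClosedMap.isClosed_range)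

end Hom

end Groth.Agent.H4.IsogenyDim
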