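import Groth.Agent.H4.TangentUnram

/-! Multiplication by an integer invertible on the base is formally unramified. -/

set_option autoImplicit false

universe u

open CategoryTheory MonoidalCategory CartesianMonoidalCategory MonObj AlgebraicGeometry

namespace Groth.Agent.H4.NPowUnram

open Groth.Agent.Lib.LieS.Points

theorem ev_natCast {S : Scheme.{u}} {G : Over S} [GrpObj G] {B : Type u} [CommRing B]
    {f : Spec (CommRingCat.of B) ⟶ S} {v : _root_.LieS.dpt B f ⟶ G}
    (hv : _root_.LieS.zeroSec B f ≫ v = 1) (j : ℕ)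
    (hj : ((j : DualNumber B) * DualNumber.eps) * ((j : DualNumber B) * DualNumber.eps) = 0) :
    evMap f (algebraMap B (DualNumber B)) ((j : DualNumber B) * DualNumber.eps) hj ≫ v = v ^ j := by
  induction j with
  | zero => rw [pow_zero]; exact ev_zero hv _ _ _ (by simp)
  | succ j ih =>
    have e : ∀ m : ℕ, ((m : DualNumber B) * DualNumber.eps) * ((m : DualNumber B) * DualNumber.eps) = 0 :=
      fun m => by linear_combination ((m : DualNumber B) ^ 2) * _root_.LieS.eps_sq B
    have hcd : ((j : DualNumber B) * DualNumber.eps) * DualNumber.eps = 0 := by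
      linear_combination (j : DualNumber B) * _root_.LieS.eps_sq B
    have hs : ((j : DualNumber B) * DualNumber.eps + DualNumber.eps) *
        ((j : DualNumber B) * DualNumber.eps + DualNumber.eps) = 0 := by
      linear_combination ((j : DualNumber B) + 1) ^ 2 * _root_.LieS.eps_sq B
    rw [evMap_congr f _ hj hs (by push_cast; ring),
      ev_add hv _ _ _ (e j) (_root_.LieS.eps_sq B) hcd hs, ih (e j), evMap_eps, pow_succ]
    exact congrArg (v ^ j * ·) (Category.id_comp v)

theorem eq_one_of_pow_eq_one {S : Scheme.{u}} {G : Over S} [GrpObj G] {B : Type u} [CommRing B]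
    {f : Spec (CommRingCat.of B) ⟶ S} {v : _root_.LieS.dpt B f ⟶ G}
    (hv : _root_.LieS.zeroSec B f ≫ v = 1) {n : ℕ} (hn : IsUnit (n : B)) (h : v ^ n = 1) : v = 1 := by
  obtain ⟨c, hc⟩ := hn.exists_right_inv
  have e0 : ((n : DualNumber B) * DualNumber.eps) * ((n : DualNumber B) * DualNumber.eps) = 0 := by
    linear_combination ((n : DualNumber B) ^ 2) * _root_.LieS.eps_sq B
  have h1 := ev_natCast hv n e0
  rw [h] at h1
  have hg : (_root_.LieS.scaleHom c).comp (algebraMap B (DualNumber B)) = algebraMap B (DualNumber B) :=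
    _root_.LieS.dualHom_comp_algebraMap _ _ _
  have hnc : _root_.LieS.scaleHom c ((n : DualNumber B) * DualNumber.eps) = DualNumber.eps := by
    rw [map_mul, map_natCast]
    show (n : DualNumber B) * _root_.LieS.dualHom _ _ _ DualNumber.eps = DualNumber.eps
    rw [_root_.LieS.dualHom_apply]
    simp only [DualNumber.fst_eps, DualNumber.snd_eps, map_zero, map_one, zero_add, _root_.one_mul]
    rw [← _root_.mul_assoc, ← map_natCast (algebraMap B (DualNumber B)) n, ← map_mul, hc, map_one, _root_.one_mul]
  have h2 := congrArg (cmap f (_root_.LieS.scaleHom c) hg ≫ ·) h1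
  simp only [← Category.assoc, MonObj.comp_one] at h2
  rw [cmap_evMap f _ hg _ _ DualNumber.eps (_root_.LieS.eps_sq B) hnc, evMap_eps] at h2
  exact ((Category.id_comp v).symm.trans h2).trans (MonObj.comp_one _)

theorem tangentInjective_pow {S : Scheme.{u}} {G : Over S} [GrpObj G] [IsCommMonObj G] {n : ℕ}
    (hn : ∀ (L : Type u) [Field L], (Spec (CommRingCat.of L) ⟶ S) → (n : L) ≠ 0) :
    TangentUnram.TangentInjective (𝟙 G ^ n) := by
  intro L _ b v w hz hvw
  rw [MonObj.comp_pow, MonObj.comp_pow, Category.comp_id, Category.comp_id] at hvw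
  refine div_eq_one.1 (eq_one_of_pow_eq_one ?_ (isUnit_iff_ne_zero.2 (hn L b)) ?_)
  · rw [GrpObj.comp_div, hz, div_self']
  · rw [div_pow, hvw, div_self']

theorem formallyUnramified_pow {k : Type u} [Field k] (G : Over (Spec (CommRingCat.of k))) [GrpObj G]
    [IsCommMonObj G] [LocallyOfFiniteType G.hom] {n : ℕ} (hn : (n : k) ≠ 0) :
    FormallyUnramified ((𝟙 G : G ⟶ G) ^ n).left := by
  haveI : LocallyOfFiniteType (((𝟙 G : G ⟶ G) ^ n).left ≫ G.hom) := by
    rw [Over.w]; infer_instance
  haveI : LocallyOfFiniteType ((𝟙 G : G ⟶ G) ^ n).left :=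
    locallyOfFiniteType_of_comp _ G.hom
  refine TangentUnram.formallyUnramified_of_tangentInjective _ (tangentInjective_pow fun L _ b h => hn ?_)
  have hinj := (Spec.preimage b).hom.injective
  exact hinj (by rw [map_natCast, map_zero, h])

end Groth.Agent.H4.NPowUnram
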