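import Groth.Agent.H4.EndFlat
import Groth.Agent.H4.NPowUnram
import Groth.Agent.Lib.GrpSch.BaseChange
import Mathlib.AlgebraicGeometry.Morphisms.QuasiFinite
import Mathlib.AlgebraicGeometry.ZariskisMainTheorem
import Mathlib.RingTheory.Unramified.Finite
import Mathlib.AlgebraicGeometry.Geometrically.Integral

/-! Multiplication by an integer invertible in the field is etale; finite surjective when proper. -/

set_option autoImplicit false

universe u

open CategoryTheory MonoidalCategory CartesianMonoidalCategory MonObj AlgebraicGeometry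

namespace Groth.Agent.H4.NPowEtale

theorem isMonHom_pow_id {C : Type*} [Category C] [CartesianMonoidalCategory C] [BraidedCategory C]
    (G : C) [GrpObj G] [IsCommMonObj G] (n : ℕ) : IsMonHom ((𝟙 G : G ⟶ G) ^ n) where
  one_hom := by
    rw [MonObj.comp_pow, Category.comp_id, MonObj.one_eq_one, one_pow]
  mul_hom := by
    rw [MonObj.comp_pow, Category.comp_id, MonObj.mul_eq_mul, mul_pow, MonObj.comp_mul,
      tensorHom_fst, tensorHom_snd, MonObj.comp_pow, MonObj.comp_pow, Category.comp_id, Category.comp_id]

theorem locallyQuasiFinite_of_formallyUnramified {X Y : Scheme.{u}} (f : X ⟶ Y) [FormallyUnramified f]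
    [LocallyOfFiniteType f] : LocallyQuasiFinite f := by
  refine ⟨fun {U} hU {V} hV e => ?_⟩
  have h1 := f.formallyUnramified_appLE hU hV e
  have h2 := f.finiteType_appLE hU hV e
  algebraize [(f.appLE U V e).hom]
  exact ⟨fun P _ => Algebra.FormallyUnramified.finite_of_free P.ResidueField _⟩

variable {k : Type u} [Field k] {G : Over (Spec (CommRingCat.of k))} [GrpObj G]

theorem etale_of_formallyUnramified [LocallyOfFiniteType G.hom] (f : G ⟶ G) [IsMonHom f]
    [FormallyUnramified f.left] : Etale f.left := by
  let K := AlgebraicClosure k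
  haveI : MorphismProperty.RespectsIso (@Etale : MorphismProperty Scheme.{u}) :=
    MorphismProperty.IsStableUnderBaseChange.respectsIso
  refine Lib.GrpSch.of_bc_map_left k K (P := @Etale) f ?_
  let G' := (Over.pullback (Lib.GrpSch.extBase k K)).obj G
  haveI : LocallyOfFiniteType G'.hom :=
    Lib.GrpSch.bc_hom_of (P := @LocallyOfFiniteType) (Lib.GrpSch.extBase k K) G inferInstance
  haveI : FormallyUnramified ((Over.pullback (Lib.GrpSch.extBase k K)).map f).left :=
    Lib.GrpSch.bc_map_left_of (P := @FormallyUnramified) (Lib.GrpSch.extBase k K) f inferInstance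
  exact EndFlat.etale_endomorphism (G := G') _

theorem etale_pow [IsCommMonObj G] [LocallyOfFiniteType G.hom] {n : ℕ} (hn : (n : k) ≠ 0) :
    Etale ((𝟙 G : G ⟶ G) ^ n).left := by
  haveI := isMonHom_pow_id G n
  haveI := NPowUnram.formallyUnramified_pow G hn
  exact etale_of_formallyUnramified _

theorem isFinite_pow [IsCommMonObj G] [IsProper G.hom] {n : ℕ} (hn : (n : k) ≠ 0) :
    IsFinite ((𝟙 G : G ⟶ G) ^ n).left := by
  haveI := etale_pow (G := G) hn
  haveI : IsProper (((𝟙 G : G ⟶ G) ^ n).left ≫ G.hom) := by rw [Over.w]; infer_instance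
  haveI : IsProper ((𝟙 G : G ⟶ G) ^ n).left := IsProper.of_comp _ G.hom
  haveI := locallyQuasiFinite_of_formallyUnramified ((𝟙 G : G ⟶ G) ^ n).left
  exact IsFinite.of_isProper_of_locallyQuasiFinite _

/-- A flat proper morphism to a connected locally Noetherian scheme from a nonempty one is surjective. -/
theorem surjective_of_flat_proper {X Y : Scheme.{u}} (f : X ⟶ Y) [Flat f] [IsProper f]
    [IsLocallyNoetherian Y] [ConnectedSpace Y] [Nonempty X] : Surjective f := by
  refine ⟨Set.range_eq_univ.1 (IsClopen.eq_univ ⟨f.isClosedMap.isClosed_range, ?_⟩ (Set.range_nonempty _))⟩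
  exact f.isOpenMap.isOpen_range

theorem surjective_pow [IsCommMonObj G] [IsProper G.hom] [GeometricallyIntegral G.hom] {n : ℕ}
    (hn : (n : k) ≠ 0) : Surjective ((𝟙 G : G ⟶ G) ^ n).left := by
  haveI := etale_pow (G := G) hn
  haveI : IsIntegral G.left := GeometricallyIntegral.isIntegral_of_subsingleton G.hom
  haveI : IsLocallyNoetherian G.left := LocallyOfFiniteType.isLocallyNoetherian G.hom
  haveI : IsProper (((𝟙 G : G ⟶ G) ^ n).left ≫ G.hom) := by rw [Over.w]; infer_instance
  haveI : IsProper ((𝟙 G : G ⟶ G) ^ n).left := IsProper.of_comp _ G.hom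
  exact surjective_of_flat_proper _

end Groth.Agent.H4.NPowEtale
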