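import Groth.Agent.H4.CubeCons
import Groth.Agent.H3.CubeRel

/-! Unconditional consequences of the theorem of the cube: multiplication by a nonzero integer on an
abelian variety is finite, flat and surjective. -/

set_option autoImplicit false

universe u

open CategoryTheory Limits MonoidalCategory CartesianMonoidalCategory AlgebraicGeometry
open scoped MonObj GrpObj
open Groth.Agent.H3 Groth.Agent.Lib

namespace Groth.Agent.H4.MulIso

variable {k : Type u} [Field k] (A : Over (Spec (CommRingCat.of k))) [GrpObj A] [IsProper A.hom]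
  [GeometricallyIntegral A.hom]

/-- `[n]` is finite, flat and surjective for `n ≥ 1`. -/
theorem nat {n : ℕ} (hn : 0 < n) :
    IsFinite ((𝟙 A : A ⟶ A) ^ n).left ∧ Flat ((𝟙 A : A ⟶ A) ^ n).left ∧
      Surjective ((𝟙 A : A ⟶ A) ^ n).left := by
  letI : ∀ Y : Scheme.{u}, PicGrp.Law Y := fun Y => Groth.Agent.Lib.TensorMod.Invertible.law Y
  let e := GrpSch.extBase k (AlgebraicClosure k)
  haveI : IsProper (Red.bc e A).hom := GrpSch.bc_hom_of (P := @IsProper) e A inferInstance
  haveI : GeometricallyIntegral (Red.bc e A).hom :=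
    GrpSch.bc_hom_of (P := @GeometricallyIntegral) e A inferInstance
  exact CubeCons.pow_isFinite_flat_surjective (fun V f g h c => H3.CubeRel.cube_rel f g h c) hn

/-- `[d]` is finite, flat and surjective for an integer `d ≠ 0`. -/
theorem int {d : ℤ} (hd : d ≠ 0) :
    IsFinite ((𝟙 A : A ⟶ A) ^ d).left ∧ Flat ((𝟙 A : A ⟶ A) ^ d).left ∧
      Surjective ((𝟙 A : A ⟶ A) ^ d).left := by
  obtain ⟨n, rfl | rfl⟩ := d.eq_nat_or_neg
  · rw [zpow_natCast]
    exact nat A (by omega)
  · rw [zpow_neg, zpow_natCast]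
    obtain ⟨h1, h2, h3⟩ := nat A (n := n) (by omega)
    have he : ((𝟙 A : A ⟶ A) ^ n)⁻¹ = (𝟙 A ^ n) ≫ (ι : A ⟶ A) := Hom.inv_def _
    haveI : IsIso (ι : A ⟶ A).left :=
      inferInstanceAs (IsIso ((Over.forget _).map (ι : A ⟶ A)))
    rw [he, Over.comp_left]
    refine ⟨?_, ?_, ?_⟩ <;> infer_instance

end Groth.Agent.H4.MulIso
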