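import Groth.Agent.Lib.ClSub.Cartier
import Groth.Agent.H97.GlueLine
import Groth.Agent.Lib.Ample.GenLocus
import Groth.Agent.Lib.Ideal.EffCartier
import Groth.Agent.Lib.Ideal.Prime

/-! The line bundle with section of an effective Cartier ideal: its locus is the complement of the support. -/

set_option autoImplicit false

universe u

open CategoryTheory AlgebraicGeometry TopologicalSpace Opposite
open Groth.Agent.Lib.TensorMod Groth.Agent.Lib.TensorMod.Dual Groth.Agent.Lib.TensorMod.Gen
open Groth.Agent.H97.GlueLine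

namespace Groth.Agent.H4.CartierSection

variable {X : Scheme.{u}}

/-- A local equation of an effective Cartier ideal generates the ideal module. -/
theorem isGen_idealMod (I : X.IdealSheafData) (U : X.affineOpens) (f : Γ(X, U.1))
    (hf : f ∈ nonZeroDivisors Γ(X, U.1)) (hI : I.ideal U = Ideal.span {f})
    (m : Γ(ClSub.idealMod I, U.1)) (hm : (ClSub.idealModι I).app U.1 m = f) :
    IsGen (ClSub.idealMod I) U.1 m := by
  haveI := Lib.ClSub.Cartier.isIso_ofSection_restrict I U f hf hI m hm
  intro W hW
  have key : ∀ (V : (↑U.1 : Scheme.{u}).Opens), Function.Bijective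
      (fun r : Γ(X, U.1.ι ''ᵁ V) => r • rs (ClSub.idealMod I) (U.1.ι_image_le V) m) := by
    intro V
    have hb : Function.Bijective ((Lib.ClSub.Cartier.ofSection ((ClSub.idealMod I).restrict U.1.ι)
        ((ClSub.idealMod I).presheaf.map (homOfLE (U.1.ι_image_le ⊤)).op m)).app V) :=
      ConcreteCategory.bijective_of_isIso _
    have h : (fun r : Γ(X, U.1.ι ''ᵁ V) => r • rs (ClSub.idealMod I) (U.1.ι_image_le V) m) =
        (Lib.ClSub.Cartier.ofSection ((ClSub.idealMod I).restrict U.1.ι)
        ((ClSub.idealMod I).presheaf.map (homOfLE (U.1.ι_image_le ⊤)).op m)).app V :=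
      funext fun r => (Lib.ClSub.Cartier.ofSection_restrict_app (ClSub.idealMod I) U.1 m V r).symm
    rw [h]
    exact hb
  obtain ⟨V, rfl⟩ : ∃ V : (↑U.1 : Scheme.{u}).Opens, U.1.ι ''ᵁ V = W :=
    ⟨U.1.ι ⁻¹ᵁ W, by rw [Scheme.Hom.image_preimage_eq_opensRange_inf, Scheme.Opens.opensRange_ι,
      inf_eq_right.2 hW]⟩
  exact key V

/-- An effective Cartier ideal gives an invertible module with a section whose locus is the complement
of the support. -/
theorem exists_section (I : X.IdealSheafData) (hI : BlowUp.IsEffCartierIdeal I) :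
    ∃ (L : X.Modules) (s : Coh.structureModule X ⟶ L), PicF.IsInvertible L ∧
      ∀ x : X, x ∈ CohB1.genLocus L s ↔ x ∉ I.support := by
  choose U hxU f hf hI using hI
  choose m hm using fun x => (Lib.ClSub.Sections.mem_range_idealModι_app_affine_iff I (U x) (f x)).mpr
    ((hI x) ▸ Ideal.mem_span_singleton_self (f x))
  have hg := fun x => isGen_idealMod I (U x) (f x) (hf x) (hI x) (m x) (hm x)
  let V : X → X.Opens := fun x => (U x).1
  have h1 : ∀ i j, ∃ a : Γ(X, V i ⊓ V j), a • rs (ClSub.idealMod I) inf_le_right (m j) =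
      rs (ClSub.idealMod I) inf_le_left (m i) := fun i j => (hg j _ _).2 _
  choose a ha using h1
  have key : ∀ (i j : X) (W : X.Opens) (hi : W ≤ V i) (hj : W ≤ V j),
      rs (ClSub.idealMod I) hi (m i) = rf (le_inf hi hj) (a i j) • rs (ClSub.idealMod I) hj (m j) := by
    intro i j W hi hj
    have h := congrArg (rs (ClSub.idealMod I) (le_inf hi hj)) (ha i j)
    rw [rs_smul, rs_rs, rs_rs] at h
    exact h.symm
  let c : Cocycle V :=
    { u := a
      self := fun i W h => (hg i W (h.trans inf_le_left)).1
        (show rf h (a i i) • rs _ (h.trans inf_le_left) (m i) = (1 : Γ(X, W)) • rs _ _ (m i) by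
          rw [one_smul]
          exact (key i i W (h.trans inf_le_left) (h.trans inf_le_right)).symm)
      trans := fun i j k W hi hj hk => (hg k W hk).1
        (show (rf _ (a i j) * rf _ (a j k)) • rs _ hk (m k) = rf _ (a i k) • rs _ hk (m k) by
          rw [mul_smul, ← key j k W hj hk, ← key i j W hi hj, ← key i k W hi hk]) }
  have hf' : ∀ (i j : X) (W : X.Opens) (hi : W ≤ V i) (hj : W ≤ V j),
      rf hi (f i) = c.tr i j hi hj * rf hj (f j) := by
    intro i j W hi hj
    have h := congrArg ((ClSub.idealModι I).app W) (key i j W hi hj)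
    rw [Scheme.Modules.Hom.app_smul] at h
    have hnat : ∀ (k : X) (hk : W ≤ V k),
        (ClSub.idealModι I).app W (rs (ClSub.idealMod I) hk (m k)) = rf hk (f k) := fun k hk => by
      rw [← hm k]
      exact Lib.ClSub.Basis.map_app (ClSub.idealModι I) hk (m k)
    rw [hnat i hi, hnat j hj] at h
    exact h
  have hsup : iSup V = ⊤ := top_unique fun x _ => Opens.mem_iSup.2 ⟨x, hxU x⟩
  obtain ⟨s, hs⟩ := HomGlue.exists_hom_of_gen (L := Coh.structureModule X) (M := glue c) hsup
    (fun x => Groth.Agent.Lib.TensorMod.Gen.one X (V x)) (fun x => Lib.Ample.GenLocus.isGen_one _)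
    (fun x => f x • gen c x) fun i j T hi hj r hr => by
      have hr' : r = 1 := by
        have : (X.presheaf.map (homOfLE hi).op 1 : Γ(X, T)) = r * X.presheaf.map (homOfLE hj).op 1 := hr
        rwa [map_one, map_one, mul_one, eq_comm] at this
      subst hr'
      rw [one_smul, rs_smul, rs_smul, rs_gen c i j hi hj, smul_smul, mul_comm, ← hf' i j T hi hj]
  refine ⟨glue c, s, isInvertible_glue c hsup, fun x => ?_⟩
  have hk : CohB1.genLocus (glue c) s ⊓ V x = X.basicOpen (f x) :=
    Lib.Ample.GenLocus.genLocus_inf_eq (isGen_gen c x) s (hs x)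
  rw [Lib.Ideal.Prime.mem_support_iff_le_prime I (U x) (hxU x), hI x, Ideal.span_singleton_le_iff_mem,
    ← Lib.Ideal.EffCartier.mem_basicOpen_iff_notMem_prime (U x).2 (hxU x), ← hk]
  exact ⟨fun h => ⟨h, hxU x⟩, fun h => h.1⟩

end Groth.Agent.H4.CartierSection
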