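import Groth.Prelude.Def_AlgGrp
import Groth.Agent.Lib.GrpSch.Basic
import Mathlib.AlgebraicGeometry.Morphisms.FlatDescent
import Mathlib.AlgebraicGeometry.Morphisms.LocalFlatDescent
import Mathlib.AlgebraicGeometry.Morphisms.Finite

/-! A homomorphism becomes the projection `X ⊗ N ⟶ X` after base change along itself. -/

set_option autoImplicit false

universe u

open CategoryTheory Limits MonoidalCategory CartesianMonoidalCategory MonObj AlgebraicGeometry

namespace Groth.Agent.H4.KernelSquare

variable {S : Scheme.{u}} {X Y N : Over S} [GrpObj X] [GrpObj Y] (f : X ⟶ Y) [IsMonHom f]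
  (i : N ⟶ X) (hN : AlgGrp.IsKernel i f)

include hN

omit [GrpObj X] [IsMonHom f] in
theorem comp_eq_one : i ≫ f = 1 := by
  rw [hN.w, MonObj.one_eq_one, MonObj.comp_one]

theorem isPullback :
    IsPullback (fst X N) (fst X N * (snd X N ≫ i)) f f := by
  have hw : fst X N ≫ f = (fst X N * (snd X N ≫ i)) ≫ f := by
    rw [MonObj.mul_comp, Category.assoc, comp_eq_one f i hN, MonObj.comp_one, _root_.mul_one]
  refine IsPullback.of_isLimit' ⟨hw⟩ (PullbackCone.IsLimit.mk hw
    (fun s => CartesianMonoidalCategory.lift s.fst (hN.lift (s.fst⁻¹ * s.snd) (toUnit _) ?_)) ?_ ?_ ?_)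
  · rw [MonObj.mul_comp, GrpObj.inv_comp, s.condition, inv_mul_cancel, MonObj.one_eq_one,
      MonObj.comp_one]
  · intro s
    exact lift_fst _ _
  · intro s
    rw [MonObj.comp_mul, lift_fst, lift_snd_assoc, hN.lift_fst, mul_inv_cancel_left]
  · intro s m h1 h2
    refine CartesianMonoidalCategory.hom_ext _ _ (by rw [lift_fst]; exact h1) ?_
    rw [lift_snd]
    refine hN.hom_ext ?_ (toUnit_unique _ _)
    rw [hN.lift_fst, ← h2, ← h1, MonObj.comp_mul, Category.assoc, inv_mul_cancel_left]

theorem isPullback_left :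
    IsPullback (fst X N).left (fst X N * (snd X N ≫ i)).left f.left f.left :=
  (isPullback f i hN).map (Over.forget S)

omit [GrpObj X] [IsMonHom f] in
theorem hom_of {P : MorphismProperty Scheme.{u}} [P.IsStableUnderBaseChange] (h : P f.left) :
    P N.hom := by
  refine P.of_isPullback (f := η[Y].left) (g := f.left) (f' := i.left) ?_ h
  exact (hN.map (Over.forget S))

theorem left_of_hom {P : MorphismProperty Scheme.{u}} [P.IsStableUnderBaseChange]
    [P.DescendsAlong (@Surjective ⊓ @Flat ⊓ @QuasiCompact)]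
    [Surjective f.left] [Flat f.left] [QuasiCompact f.left] (h : P N.hom) : P f.left := by
  refine MorphismProperty.DescendsAlong.of_isPullback (Q := @Surjective ⊓ @Flat ⊓ @QuasiCompact)
    (isPullback_left f i hN) ⟨⟨‹_›, ‹_›⟩, ‹_›⟩ ?_
  exact Groth.Agent.Lib.GrpSch.fst_left_of X h

end Groth.Agent.H4.KernelSquare
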