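import Groth.Agent.H4.CartierUFD
import Groth.Agent.H4.CartierSection
import Groth.Agent.Lib.Regular.UFD
import Groth.Agent.Lib.Cyc.SmoothReg
import Mathlib.RingTheory.Ideal.MinimalPrime.Noetherian
import Mathlib.RingTheory.Ideal.KrullsHeightTheorem

/-! On a smooth variety two points not related by specialization are separated by an effective divisor. -/

set_option autoImplicit false
set_option linter.style.haveILetI false

universe u

open CategoryTheory AlgebraicGeometry TopologicalSpace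
open Groth.Agent.Lib.Ideal

namespace Groth.Agent.H4.SepDivisor

variable {X : Scheme.{u}}

theorem exists_reduced_ideal [IsIntegral X] [IsLocallyNoetherian X] {U : X.Opens} (hU : IsAffineOpen U)
    (f : Γ(X, U)) (hf : f ≠ 0) :
    ∃ Z : Closeds X, (∀ x ∈ Z, x ∈ U → x ∉ X.basicOpen f) ∧ (∀ x (hx : x ∈ U), x ∉ X.basicOpen f → x ∈ Z) ∧
      ∀ y ∈ Z, (∀ y' ∈ Z, y' ⤳ y → y' = y) → ringKrullDim (X.presheaf.stalk y) = 1 := by
  classical
  haveI : IsNoetherianRing Γ(X, U) := IsLocallyNoetherian.component_noetherian ⟨U, hU⟩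
  let M := (Ideal.span {f}).minimalPrimes
  have hM : M.Finite := Ideal.finite_minimalPrimes_of_isNoetherianRing _ _
  have hpt : ∀ q ∈ M, ∃ y, ∃ hy : y ∈ U, (hU.primeIdealOf ⟨y, hy⟩).asIdeal = q := fun q hq => by
    haveI := hq.1.1
    exact Groth.Agent.Lib.AssPt.Basic.exists_point_of_prime hU q
  choose y hyU hy using hpt
  haveI := hM.to_subtype
  let Z : Closeds X := ⟨⋃ q : M, closure {y q q.2}, isClosed_iUnion_of_finite fun _ => isClosed_closure⟩
  have hZ : ∀ x, x ∈ Z ↔ ∃ q : M, y q q.2 ⤳ x := fun x => by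
    refine Set.mem_iUnion.trans (exists_congr fun q => specializes_iff_mem_closure.symm)
  refine ⟨Z, ?_, ?_, ?_⟩
  · intro x hxZ hxU
    obtain ⟨q, hq⟩ := (hZ x).mp hxZ
    rw [EffCartier.mem_basicOpen_iff_notMem_prime hU hxU, not_not]
    refine (Groth.Agent.Lib.AssPt.Basic.specializes_iff_primeIdealOf hU hxU (hyU q q.2)).mp hq ?_
    rw [hy]
    exact q.2.1.2 (Ideal.mem_span_singleton_self f)
  · intro x hxU hx
    rw [EffCartier.mem_basicOpen_iff_notMem_prime hU hxU, not_not] at hx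
    obtain ⟨q, hq, hqle⟩ := Ideal.exists_minimalPrimes_le ((Ideal.span_singleton_le_iff_mem _).mpr hx)
    exact (hZ x).mpr ⟨⟨q, hq⟩,
      (Groth.Agent.Lib.AssPt.Basic.specializes_iff_primeIdealOf hU hxU (hyU q hq)).mpr ((hy q hq).le.trans hqle)⟩
  · intro z hz hmax
    obtain ⟨q, hq⟩ := (hZ z).mp hz
    rw [← hmax _ ((hZ _).mpr ⟨q, specializes_rfl⟩) hq, Prime.ringKrullDim_stalk_eq_height hU (hyU q q.2), hy]
    haveI := q.2.1.1
    haveI : Nonempty ↥U := ⟨⟨_, hyU q q.2⟩⟩
    haveI : IsDomain Γ(X, U) := @IsIntegral.component_integral X _ U ⟨⟨_, hyU q q.2⟩⟩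
    have h1 : q.1.height ≤ 1 := Ideal.height_le_one_of_isPrincipal_of_mem_minimalPrimes _ q.1 q.2
    have h2 : q.1.height ≠ 0 := fun h0 => by
      rw [Ideal.height_eq_zero_iff] at h0
      exact hf (Ideal.mem_bot.mp (h0.2 ⟨Ideal.isPrime_bot, le_rfl⟩ bot_le
        (q.2.1.2 (Ideal.mem_span_singleton_self f))))
    have h3 : q.1.height = 1 := le_antisymm h1 (ENat.one_le_iff_ne_zero.mpr h2)
    rw [h3]; rfl

/-- The reduced ideal of such a closed set is effective Cartier on a regular scheme. -/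
theorem isEffCartier_vanishingIdeal [IsLocallyNoetherian X] (Z : Closeds X)
    (hZ : ∀ y ∈ Z, (∀ y' ∈ Z, y' ⤳ y → y' = y) → ringKrullDim (X.presheaf.stalk y) = 1)
    (hreg : ∀ x : X, IsRegularLocalRing (X.presheaf.stalk x)) :
    BlowUp.IsEffCartierIdeal (Scheme.IdealSheafData.vanishingIdeal Z) := by
  have hsupp : ∀ x, x ∈ (Scheme.IdealSheafData.vanishingIdeal Z).support ↔ x ∈ Z := fun x => Iff.rfl
  refine CartierUFD.isEffCartier_of_assoc _ (fun y hy ha => ?_) fun x _ => ?_
  · obtain ⟨a, ha, hm⟩ := ha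
    obtain ⟨U, hU, hyU, -⟩ := exists_isAffineOpen_mem_and_subset (x := y) (U := ⊤) trivial
    let U' : X.affineOpens := ⟨U, hU⟩
    let J := (Scheme.IdealSheafData.vanishingIdeal Z).ideal U'
    letI := X.presheaf.algebra_section_stalk ⟨y, hyU⟩
    haveI := hU.isLocalization_stalk ⟨y, hyU⟩
    let p := (hU.primeIdealOf ⟨y, hyU⟩).asIdeal
    rw [Prime.stalkIdeal_eq _ U' hyU] at ha hm
    have hJ : J.IsRadical := PrimeSpectrum.isRadical_vanishingIdeal _
    have hrad : ∀ b, b * b ∈ J.map (algebraMap Γ(X, U) (X.presheaf.stalk y)) →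
        b ∈ J.map (algebraMap Γ(X, U) (X.presheaf.stalk y)) := by
      intro b hb
      obtain ⟨⟨c, s⟩, hcs⟩ := IsLocalization.surj p.primeCompl b
      have h1 : algebraMap Γ(X, U) (X.presheaf.stalk y) (c * c) ∈
          J.map (algebraMap Γ(X, U) (X.presheaf.stalk y)) := by
        rw [map_mul, ← hcs, mul_mul_mul_comm]
        exact Ideal.mul_mem_right _ _ hb
      obtain ⟨t, ht, htc⟩ := (IsLocalization.algebraMap_mem_map_algebraMap_iff p.primeCompl _ _ _).mp h1
      refine (Ideal.mul_unit_mem_iff_mem _ (IsLocalization.map_units (X.presheaf.stalk y) s)).mp ?_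
      rw [hcs]
      refine (IsLocalization.algebraMap_mem_map_algebraMap_iff p.primeCompl _ _ _).mpr ⟨t, ht, hJ ⟨2, ?_⟩⟩
      rw [show (t * c) ^ 2 = t * (t * (c * c)) by ring]
      exact J.mul_mem_left t htc
    have hau : IsUnit a := by
      by_contra hau
      exact ha (hrad a (hm a ((IsLocalRing.mem_maximalIdeal a).mpr hau)))
    refine hZ y ((hsupp y).mp hy) fun y' hy' hspec => ?_
    have hy'U : y' ∈ U := hspec.mem_open U.2 hyU
    have hle : (hU.primeIdealOf ⟨y', hy'U⟩).asIdeal ≤ p :=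
      (Groth.Agent.Lib.AssPt.Basic.specializes_iff_primeIdealOf hU hyU hy'U).mp hspec
    have hge : p ≤ (hU.primeIdealOf ⟨y', hy'U⟩).asIdeal := by
      intro r hr
      have h1 : algebraMap Γ(X, U) (X.presheaf.stalk y) r ∈
          J.map (algebraMap Γ(X, U) (X.presheaf.stalk y)) :=
        (Ideal.mul_unit_mem_iff_mem _ hau).mp
          (hm _ ((IsLocalization.AtPrime.to_map_mem_maximal_iff (X.presheaf.stalk y) p r).mpr hr))
      obtain ⟨t, ht, htr⟩ := (IsLocalization.algebraMap_mem_map_algebraMap_iff p.primeCompl _ _ _).mp h1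
      have h2 : t * r ∈ (hU.primeIdealOf ⟨y', hy'U⟩).asIdeal :=
        (Prime.mem_support_iff_le_prime _ U' hy'U).mp ((hsupp y').mpr hy') htr
      exact ((hU.primeIdealOf ⟨y', hy'U⟩).2.mem_or_mem h2).resolve_left fun h => ht (hle h)
    have := congrArg hU.fromSpec (PrimeSpectrum.ext (le_antisymm hle hge) :
      hU.primeIdealOf ⟨y', hy'U⟩ = hU.primeIdealOf ⟨y, hyU⟩)
    rwa [hU.fromSpec_primeIdealOf, hU.fromSpec_primeIdealOf] at this
  · haveI := hreg x
    haveI := Groth.Agent.Lib.Regular.Quotient.isDomain (X.presheaf.stalk x)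
    exact ⟨inferInstance, Groth.Agent.Lib.Regular.UFD.uniqueFactorizationMonoid _⟩

/-- Separating a point from another one by the locus of a section of an invertible module. -/
theorem exists_section_separating {k : Type u} [Field k] (q : X ⟶ Spec (CommRingCat.of k)) [Smooth q]
    [IsIntegral X] {U : X.Opens} (hU : IsAffineOpen U) {e z : X} (he : e ∈ U) (hz : z ∈ U)
    (hzc : IsClosed ({z} : Set X)) (hne : e ≠ z) :
    ∃ (L : X.Modules) (s : Coh.structureModule X ⟶ L), PicF.IsInvertible L ∧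
      e ∈ CohB1.genLocus L s ∧ z ∉ CohB1.genLocus L s := by
  haveI : IsLocallyNoetherian X := LocallyOfFiniteType.isLocallyNoetherian q
  have hnle : ¬ (hU.primeIdealOf ⟨z, hz⟩).asIdeal ≤ (hU.primeIdealOf ⟨e, he⟩).asIdeal := by
    intro hle
    have hsp := (Groth.Agent.Lib.AssPt.Basic.specializes_iff_primeIdealOf hU he hz).mpr hle
    exact hne (hzc.closure_eq ▸ specializes_iff_mem_closure.mp hsp : e ∈ ({z} : Set X))
  obtain ⟨f, hfz, hfe⟩ := SetLike.not_le_iff_exists.mp hnle
  have hf0 : f ≠ 0 := fun h0 => hfe (h0 ▸ Submodule.zero_mem _)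
  obtain ⟨Z, hZ1, hZ2, hZ3⟩ := exists_reduced_ideal hU f hf0
  obtain ⟨L, s, hL, hs⟩ := CartierSection.exists_section _
    (isEffCartier_vanishingIdeal Z hZ3 fun x => Groth.Agent.Lib.Cyc.SmoothReg.isRegularLocalRing_stalk q x)
  refine ⟨L, s, hL, (hs e).mpr fun heZ => hZ1 e heZ he ?_, fun hzs => (hs z).mp hzs (hZ2 z hz ?_)⟩
  · exact (EffCartier.mem_basicOpen_iff_notMem_prime hU he f).mpr hfe
  · rw [EffCartier.mem_basicOpen_iff_notMem_prime hU hz, not_not]; exact hfz

end Groth.Agent.H4.SepDivisor
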