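import Groth.Agent.H4.NPowEtale
import Groth.Prelude.Def_AbDual
import Mathlib.AlgebraicGeometry.AlgClosed.Basic

/-! Points of abelian varieties in algebraically closed fields: divisibility and finite torsion. -/

set_option autoImplicit false

universe u

open CategoryTheory CategoryTheory.Limits MonoidalCategory CartesianMonoidalCategory MonObj AlgebraicGeometry

namespace Groth.Agent.H4.AVPoints

variable {S : Scheme.{u}} {K : Type u} [Field K] [IsAlgClosed K] (b : Spec (CommRingCat.of K) ⟶ S)

theorem exists_lift {X Y : Over S} (h : X ⟶ Y) [IsFinite h.left] [Surjective h.left]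
    (y : Over.mk b ⟶ Y) : ∃ x : Over.mk b ⟶ X, x ≫ h = y := by
  let g : pullback h.left y.left ⟶ Spec (CommRingCat.of K) := pullback.snd h.left y.left
  have : IsFinite g := inferInstanceAs (IsFinite (pullback.snd h.left y.left))
  have : Surjective g := inferInstanceAs (Surjective (pullback.snd h.left y.left))
  have : Nonempty ↥(pullback h.left y.left) :=
    ⟨(g.surjective (IsLocalRing.closedPoint K)).choose⟩
  have : CompactSpace ↥(pullback h.left y.left) := QuasiCompact.compactSpace_of_compactSpace g
  obtain ⟨z, -, hz⟩ := IsClosed.exists_closed_singleton (isClosed_univ (X := ↥(pullback h.left y.left)))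
    Set.univ_nonempty
  obtain ⟨s, -⟩ := (pointEquivClosedPoint g).surjective ⟨z, hz⟩
  have hw : (s.1 ≫ pullback.fst h.left y.left) ≫ X.hom = (Over.mk b).hom := by
    rw [Category.assoc, ← Over.w h, pullback.condition_assoc, Over.w y]
    exact ((Category.assoc _ _ _).symm.trans (congrArg (· ≫ b) s.2)).trans (Category.id_comp _)
  refine ⟨Over.homMk (s.1 ≫ pullback.fst h.left y.left) hw, ?_⟩
  ext1
  show (s.1 ≫ pullback.fst h.left y.left) ≫ h.left = y.left
  rw [Category.assoc, pullback.condition, ← Category.assoc]
  exact (congrArg (· ≫ y.left) s.2).trans (Category.id_comp _)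

theorem finite_fibre {X Y : Over S} (h : X ⟶ Y) [IsFinite h.left] (y : Over.mk b ⟶ Y) :
    {x : Over.mk b ⟶ X | x ≫ h = y}.Finite := by
  let g : pullback h.left y.left ⟶ Spec (CommRingCat.of K) := pullback.snd h.left y.left
  have : IsFinite g := inferInstanceAs (IsFinite (pullback.snd h.left y.left))
  have hf : (Set.univ : Set ↥(pullback h.left y.left)).Finite := by
    refine (IsFinite.finite_preimage_singleton g (IsLocalRing.closedPoint _)).subset fun z _ => ?_
    exact Subsingleton.elim (α := PrimeSpectrum K) _ _
  have : Finite (closedPoints ↥(pullback h.left y.left)) := (hf.subset (Set.subset_univ _)).to_subtype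
  rw [← Set.finite_coe_iff]
  refine Finite.of_injective (β := closedPoints ↥(pullback h.left y.left))
    (fun x => pointEquivClosedPoint g
      ⟨pullback.lift (f := h.left) (g := y.left) x.1.left (𝟙 _) ?_, pullback.lift_snd _ _ _⟩) ?_
  · rw [← Over.comp_left, Category.id_comp]
    exact congrArg (fun q : Over.mk b ⟶ Y => q.left) x.2
  · intro a c hac
    have := congrArg Subtype.val ((pointEquivClosedPoint g).injective hac)
    have := congrArg (fun q => q ≫ pullback.fst h.left y.left) this
    simp only [pullback.lift_fst] at this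
    exact Subtype.ext (Over.OverMorphism.ext this)

variable {k : Type u} [Field k] {A : Over (Spec (CommRingCat.of k))} [GrpObj A] [IsCommMonObj A]
  [IsProper A.hom] (c : Spec (CommRingCat.of K) ⟶ Spec (CommRingCat.of k))

theorem finite_torsPts {n : ℕ} (hn : (n : k) ≠ 0) : Finite (AbDual.torsPts A n (Over.mk c)) := by
  haveI := NPowEtale.isFinite_pow (G := A) hn
  have h := finite_fibre c ((𝟙 A : A ⟶ A) ^ n) (1 : Over.mk c ⟶ A)
  refine (h.subset fun x hx => ?_).to_subtype
  show x ≫ _ = 1
  rw [MonObj.comp_pow, Category.comp_id]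
  exact hx

theorem exists_root [GeometricallyIntegral A.hom] {n : ℕ} (hn : (n : k) ≠ 0) (y : Over.mk c ⟶ A) :
    ∃ x : Over.mk c ⟶ A, x ^ n = y := by
  haveI := NPowEtale.isFinite_pow (G := A) hn
  haveI := NPowEtale.surjective_pow (G := A) hn
  obtain ⟨x, hx⟩ := exists_lift c ((𝟙 A : A ⟶ A) ^ n) y
  rw [MonObj.comp_pow, Category.comp_id] at hx
  exact ⟨x, hx⟩

end Groth.Agent.H4.AVPoints
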