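import Groth.Agent.H3.Rigidity
import Mathlib.CategoryTheory.Monoidal.Cartesian.Grp

/-! Pointed morphisms out of abelian varieties are homomorphisms. -/

set_option autoImplicit false

universe u

open CategoryTheory Limits MonoidalCategory CartesianMonoidalCategory MonObj AlgebraicGeometry

namespace Groth.Agent.H4.AVHom

variable {k : Type u} [Field k] {A B : Over (Spec (CommRingCat.of k))}
  [GrpObj A] [IsProper A.hom] [GeometricallyIntegral A.hom] [GrpObj B] [IsSeparated B.hom]

theorem isMonHom_of_pointed (f : A ⟶ B) (hf : η[A] ≫ f = η[B]) : IsMonHom f := by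
  haveI : AlgebraicGeometry.IsIntegral A.left := GeometricallyIntegral.isIntegral_of_subsingleton A.hom
  refine ⟨hf, ?_⟩
  have key := Groth.Agent.H3.Rigidity.rigidity A A B
    ((μ[A] ≫ f) * ((fst A A ≫ f) * (snd A A ≫ f))⁻¹) η[A] η[A] η[B] ?_ ?_
  · rw [MonObj.one_eq_one, MonObj.comp_one] at key
    rw [mul_inv_eq_one.mp key]
    rw [Hom.mul_def]
    congr 1
  · simp only [MonObj.comp_mul, GrpObj.comp_inv, lift_fst_assoc, lift_snd_assoc, Category.id_comp,
      Category.assoc, hf]
    have h1 : lift (𝟙 A) (toUnit A ≫ η[A]) ≫ μ[A] = 𝟙 A := by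
      rw [← Hom.mul_def, MonObj.one_eq_one, MonObj.comp_one, _root_.mul_one]
    rw [reassoc_of% h1]
    simp [MonObj.one_eq_one]
  · simp only [MonObj.comp_mul, GrpObj.comp_inv, lift_fst_assoc, lift_snd_assoc, Category.id_comp,
      Category.assoc, hf]
    have h1 : lift (toUnit A ≫ η[A]) (𝟙 A) ≫ μ[A] = 𝟙 A := by
      rw [← Hom.mul_def, MonObj.one_eq_one, MonObj.comp_one, _root_.one_mul]
    rw [reassoc_of% h1]
    simp [MonObj.one_eq_one]

/-- Every morphism out of an abelian variety is a homomorphism followed by a translation. -/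
theorem exists_hom_mul_const (f : A ⟶ B) :
    IsMonHom (f * (toUnit A ≫ η[A] ≫ f)⁻¹) := by
  refine isMonHom_of_pointed _ ?_
  rw [MonObj.comp_mul, GrpObj.comp_inv, ← Category.assoc, toUnit_unique (η[A] ≫ toUnit A) (𝟙 _),
    Category.id_comp, mul_inv_cancel, MonObj.one_eq_one]

end Groth.Agent.H4.AVHom
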