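import Groth.Agent.H4.MulIso
import Groth.Agent.H2.FlatHom.Abelian
import Groth.Agent.S7785

/-! Multiplication by a nonzero integer on an abelian scheme is finite, flat and surjective. -/

set_option autoImplicit false
set_option linter.style.haveILetI false

universe u

open CategoryTheory Limits MonoidalCategory CartesianMonoidalCategory AlgebraicGeometry
open scoped MonObj GrpObj
open Groth.Agent.Lib

namespace Groth.Agent.H4.AbSchMul

theorem isMonHom_zpow_id {C : Type*} [Category C] [CartesianMonoidalCategory C] [BraidedCategory C]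
    (G : C) [GrpObj G] [IsCommMonObj G] (d : ℤ) : IsMonHom ((𝟙 G : G ⟶ G) ^ d) := by
  obtain ⟨n, rfl | rfl⟩ := d.eq_nat_or_neg
  · rw [zpow_natCast]; exact NPowEtale.isMonHom_pow_id G n
  · rw [zpow_neg, zpow_natCast, Hom.inv_def]
    haveI := NPowEtale.isMonHom_pow_id G n
    infer_instance

theorem comp_zpow_id {C : Type*} [Category C] [CartesianMonoidalCategory C] {Z G : C} [GrpObj G]
    (f : Z ⟶ G) (d : ℤ) : f ≫ ((𝟙 G) ^ d) = f ^ d := by
  rw [GrpObj.comp_zpow, Category.comp_id]

theorem zpow_id_comp {C : Type*} [Category C] [CartesianMonoidalCategory C] {G H : C} [GrpObj G]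
    [GrpObj H] (f : G ⟶ H) [IsMonHom f] (d : ℤ) : ((𝟙 G) ^ d) ≫ f = f ^ d := by
  cases d with
  | ofNat m => rw [Int.ofNat_eq_natCast, zpow_natCast, zpow_natCast, MonObj.pow_comp, Category.id_comp]
  | negSucc m =>
    rw [zpow_negSucc, zpow_negSucc, GrpObj.inv_comp, MonObj.pow_comp, Category.id_comp]

variable {S : Scheme.{u}} (X : Over S) [GrpObj X] [IsProper X.hom] [Flat X.hom]
  [LocallyOfFinitePresentation X.hom] [GeometricallyReduced X.hom] [GeometricallyConnected X.hom]

/-- `[d]` on an abelian scheme is finite, flat and surjective for `d ≠ 0`. -/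
theorem zpow {d : ℤ} (hd : d ≠ 0) :
    IsFinite ((𝟙 X : X ⟶ X) ^ d).left ∧ Flat ((𝟙 X : X ⟶ X) ^ d).left ∧
      Surjective ((𝟙 X : X ⟶ X) ^ d).left := by
  haveI : Smooth X.hom := (H2.Rigid.smooth_and_H0 X).1
  haveI := S7785.result X
  haveI := isMonHom_zpow_id X d
  have hs : Surjective ((𝟙 X : X ⟶ X) ^ d).left := H2.FlatHom.Base.surjective_of_fib _ fun s => by
    haveI : Smooth (Red.bc (H2.FlatHom.Base.pt s) X).hom := GrpSch.bc_hom_of (P := @Smooth) _ X ‹_›
    haveI : IsProper (Red.bc (H2.FlatHom.Base.pt s) X).hom :=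
      GrpSch.bc_hom_of (P := @IsProper) _ X ‹_›
    haveI : GeometricallyConnected (Red.bc (H2.FlatHom.Base.pt s) X).hom :=
      GrpSch.bc_hom_of (P := @GeometricallyConnected) _ X ‹_›
    haveI := GeomInt.geometricallyIntegral (Red.bc (H2.FlatHom.Base.pt s) X)
    have e : H2.FlatHom.Base.fib ((𝟙 X : X ⟶ X) ^ d) s =
        (𝟙 (Red.bc (H2.FlatHom.Base.pt s) X)) ^ d := by
      have := map_zpow (Functor.homMonoidHom (Over.pullback (H2.FlatHom.Base.pt s)) (X := X) (M := X)) (𝟙 X) d
      simp only [Functor.homMonoidHom, MonoidHom.coe_mk, OneHom.coe_mk, CategoryTheory.Functor.map_id] at this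
      exact this
    rw [e]
    exact (MulIso.int _ hd).2.2
  haveI := hs
  refine ⟨?_, (H2.FlatHom.Base.flat _).1, hs⟩
  haveI := (H2.FlatHom.Abelian.locallyQuasiFinite_iff_surjective ((𝟙 X : X ⟶ X) ^ d) fun _ => rfl).2 hs
  haveI : IsProper (((𝟙 X : X ⟶ X) ^ d).left ≫ X.hom) := by rw [Over.w]; infer_instance
  haveI : IsProper ((𝟙 X : X ⟶ X) ^ d).left := IsProper.of_comp _ X.hom
  exact IsFinite.of_isProper_of_locallyQuasiFinite _

end Groth.Agent.H4.AbSchMul
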