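import Mathlib.LinearAlgebra.BilinearForm.Properties
import Mathlib.LinearAlgebra.Eigenspace.Basic
import Mathlib.RingTheory.Artinian.Module
import Mathlib.Algebra.Polynomial.Reverse
import Mathlib.LinearAlgebra.FiniteDimensional.Basic

namespace Groth.Agent.H4.BilinGen

open Polynomial

variable {k V : Type*} [Field k] [AddCommGroup V] [Module k V]

theorem inv_pow (B : LinearMap.BilinForm k V) (f : Module.End k V)
    (hf : ∀ x y, B (f x) (f y) = B x y) (i : ℕ) (x y : V) : B ((f ^ i) x) ((f ^ i) y) = B x y := by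
  induction i generalizing x y with
  | zero => simp
  | succ i ih => rw [pow_succ', Module.End.mul_apply, Module.End.mul_apply, hf, ih]

theorem apply_reverse (B : LinearMap.BilinForm k V) (f : Module.End k V)
    (hf : ∀ x y, B (f x) (f y) = B x y) (P : k[X]) (x z : V) :
    B x (aeval f P.reverse z) = B (aeval f P x) ((f ^ P.natDegree) z) := by
  have hrev : P.reverse =
      ∑ i ∈ Finset.range (P.natDegree + 1), C (P.coeff i) * X ^ (P.natDegree - i) := by
    conv_lhs => rw [reverse, P.as_sum_range_C_mul_X_pow]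
    have hnd : (∑ i ∈ Finset.range (P.natDegree + 1), C (P.coeff i) * X ^ i).natDegree
        = P.natDegree := by rw [← P.as_sum_range_C_mul_X_pow]
    rw [hnd]
    have hsum : ∀ (s : Finset ℕ) (g : ℕ → k[X]),
        reflect P.natDegree (∑ i ∈ s, g i) = ∑ i ∈ s, reflect P.natDegree (g i) := by
      intro s g
      induction s using Finset.cons_induction with
      | empty => simp
      | cons a s ha ih => rw [Finset.sum_cons, Finset.sum_cons, reflect_add, ih]
    rw [hsum]
    refine Finset.sum_congr rfl fun i hi => ?_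
    rw [reflect_C_mul_X_pow, revAt_le (by simpa [Nat.lt_succ_iff] using hi)]
  conv_rhs => rw [P.as_sum_range_C_mul_X_pow]
  have hnd : (∑ i ∈ Finset.range (P.natDegree + 1), C (P.coeff i) * X ^ i).natDegree
      = P.natDegree := by rw [← P.as_sum_range_C_mul_X_pow]
  rw [hrev, hnd]
  simp only [map_sum, map_mul, aeval_C, map_pow, aeval_X, LinearMap.sum_apply,
    Module.End.mul_apply, Module.algebraMap_end_apply, map_smul, LinearMap.smul_apply]
  refine Finset.sum_congr rfl fun i hi => ?_
  have hi' : i ≤ P.natDegree := by simpa [Nat.lt_succ_iff] using hi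
  rw [← inv_pow B f hf i x ((f ^ (P.natDegree - i)) z), ← Module.End.mul_apply (f ^ i),
    ← pow_add, Nat.add_sub_cancel' hi']

theorem reverse_pow_aux (P : k[X]) (n : ℕ) : (P ^ n).reverse = P.reverse ^ n := by
  induction n with
  | zero => simp [← C_1, -map_one]
  | succ n ih => rw [pow_succ, reverse_mul_of_domain, ih, pow_succ]

theorem apply_reverse_pow_eq_zero (B : LinearMap.BilinForm k V) (f : Module.End k V)
    (hf : ∀ x y, B (f x) (f y) = B x y) (P : k[X]) (n : ℕ) (x : V)
    (hx : (aeval f P ^ n) x = 0) (z : V) : B x ((aeval f P.reverse ^ n) z) = 0 := by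
  have h := reverse_pow_aux P n
  rw [← map_pow, ← h, apply_reverse B f hf, map_pow, hx, map_zero, LinearMap.zero_apply]

theorem mem_iSup_ker_pow (f : Module.End k V) (x : V) :
    x ∈ (⨆ n : ℕ, LinearMap.ker (f ^ n)) ↔ ∃ n : ℕ, (f ^ n) x = 0 := by
  rw [Submodule.mem_iSup_of_directed]
  · simp
  · exact (LinearMap.iterateKer f).monotone.directed_le

theorem separating (f : Module.End k V) [FiniteDimensional k V] (B : LinearMap.BilinForm k V)
    (hB : B.SeparatingLeft) (x : V) (n : ℕ)
    (horth : ∀ z, B x ((f ^ n) z) = 0)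
    (h : ∀ y, (∃ m : ℕ, (f ^ m) y = 0) → B x y = 0) : x = 0 := by
  refine hB x fun y => ?_
  have hc := LinearMap.isCompl_iSup_ker_pow_iInf_range_pow f
  obtain ⟨a, ha, b, hb, rfl⟩ := Submodule.mem_sup.1 (hc.sup_eq_top.ge (Submodule.mem_top (x := y)))
  obtain ⟨z, hz⟩ := (Submodule.mem_iInf _).1 hb n
  rw [map_add, h a ((mem_iSup_ker_pow f a).1 ha), ← hz, horth, add_zero]

theorem scaled_orth (B : LinearMap.BilinForm k V) (f : Module.End k V) (q : k)
    (hf : ∀ x y, B (f x) (f y) = q * B x y) (a : k) (n : ℕ) (x : V)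
    (hx : ((f - a • 1) ^ n) x = 0) (z : V) : B x (((q • (1 : Module.End k V)) - a • f) ^ n <| z) = 0 := by
  induction n generalizing x z with
  | zero => simp only [pow_zero, Module.End.one_apply] at hx ⊢; simp [hx]
  | succ n ih =>
    rw [pow_succ, Module.End.mul_apply] at hx
    have step : ∀ w, B x ((q • (1 : Module.End k V) - a • f) w) = B ((f - a • 1) x) (f w) := by
      intro w
      simp [hf]
    rw [pow_succ', Module.End.mul_apply, step]
    have hcomm : Commute f ((q • (1 : Module.End k V) - a • f) ^ n) :=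
      (((Commute.one_right f).smul_right q).sub_right ((Commute.refl f).smul_right a)).pow_right n
    rw [← Module.End.mul_apply f, hcomm.eq, Module.End.mul_apply]
    exact ih _ hx _

end Groth.Agent.H4.BilinGen
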