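import Groth.Prelude.Def_W4bk6langav68Chow
import Groth.Agent.Lib.GrpSch.BaseChange
import Mathlib.CategoryTheory.Monoidal.Cartesian.Grp
import Mathlib.AlgebraicGeometry.Geometrically.Integral

/-! Base change along a tower `S'' ⟶ S' ⟶ S`. -/

set_option autoImplicit false

universe u

open CategoryTheory Limits MonoidalCategory CartesianMonoidalCategory MonObj AlgebraicGeometry

namespace Groth.Agent.H4.ChowBC

theorem isMonHom_app {C D : Type*} [Category C] [Category D] [MonoidalCategory C] [MonoidalCategory D]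
    {F G : C ⥤ D} [F.LaxMonoidal] [G.LaxMonoidal] (α : F ⟶ G) [NatTrans.IsMonoidal α]
    (X : C) [MonObj X] :
    @IsMonHom D _ _ (F.obj X) (G.obj X) (Functor.monObjObj X) (Functor.monObjObj X) (α.app X) := by
  refine @IsMonHom.mk D _ _ (F.obj X) (G.obj X) (Functor.monObjObj X) (Functor.monObjObj X) (α.app X) ?_ ?_
  · simp only [Functor.obj.η_def, Category.assoc, α.naturality, NatTrans.IsMonoidal.unit_assoc]
  · simp only [Functor.obj.μ_def, Category.assoc, α.naturality, NatTrans.IsMonoidal.tensor_assoc]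

variable {S S' S'' : Scheme.{u}} (f : S' ⟶ S) (f' : S'' ⟶ S') {f'' : S'' ⟶ S} (hc : f' ≫ f = f'')

/-- `X_{S''} ⟶ (X_{S'})_{S''}`. -/
noncomputable def toTower (X : Over S) : Red.bc f'' X ⟶ Red.bc f' (Red.bc f X) :=
  eqToHom (congrArg (fun φ => Red.bc φ X) hc.symm) ≫ (Over.pullbackComp f' f).hom.app X

/-- `(X_{S'})_{S''} ⟶ X_{S''}`. -/
noncomputable def ofTower (X : Over S) : Red.bc f' (Red.bc f X) ⟶ Red.bc f'' X :=
  (Over.pullbackComp f' f).inv.app X ≫ eqToHom (congrArg (fun φ => Red.bc φ X) hc)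

theorem toTower_ofTower (X : Over S) : toTower f f' hc X ≫ ofTower f f' hc X = 𝟙 _ := by
  subst hc; simp [toTower, ofTower]

theorem ofTower_toTower (X : Over S) : ofTower f f' hc X ≫ toTower f f' hc X = 𝟙 _ := by
  subst hc; simp [toTower, ofTower]

instance isIso_ofTower (X : Over S) : IsIso (ofTower f f' hc X) :=
  ⟨toTower f f' hc X, ofTower_toTower f f' hc X, toTower_ofTower f f' hc X⟩

instance isIso_toTower (X : Over S) : IsIso (toTower f f' hc X) :=
  ⟨ofTower f f' hc X, toTower_ofTower f f' hc X, ofTower_toTower f f' hc X⟩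

theorem ofTower_natural {X Y : Over S} (g : X ⟶ Y) :
    (Over.pullback f').map ((Over.pullback f).map g) ≫ ofTower f f' hc Y =
      ofTower f f' hc X ≫ (Over.pullback f'').map g := by
  subst hc
  simp only [ofTower, eqToHom_refl, Category.comp_id]
  exact (Over.pullbackComp f' f).inv.naturality g

theorem isMonHom_ofTower (X : Over S) [GrpObj X] : IsMonHom (ofTower f f' hc X) := by
  subst hc
  simp only [ofTower, eqToHom_refl, Category.comp_id]
  haveI : Limits.PreservesFiniteProducts (Over.pullback f ⋙ Over.pullback f') := inferInstance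
  constructor
  · have h : (Functor.LaxMonoidal.ε (Over.pullback f ⋙ Over.pullback f') ≫
        (Over.pullback f ⋙ Over.pullback f').map η[X]) ≫ (Over.pullbackComp f' f).inv.app X = _ :=
      (isMonHom_app (Over.pullbackComp f' f).inv X).one_hom
    simpa [Functor.obj.η_def, Functor.monObjObj, Functor.LaxMonoidal.comp_ε, Functor.map_comp] using h
  · have h : (Functor.LaxMonoidal.μ (Over.pullback f ⋙ Over.pullback f') X X ≫
        (Over.pullback f ⋙ Over.pullback f').map μ[X]) ≫ (Over.pullbackComp f' f).inv.app X = _ :=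
      (isMonHom_app (Over.pullbackComp f' f).inv X).mul_hom
    simpa [Functor.obj.μ_def, Functor.monObjObj, Functor.LaxMonoidal.comp_μ, Functor.map_comp] using h

theorem isMonHom_toTower (X : Over S) [GrpObj X] : IsMonHom (toTower f f' hc X) := by
  subst hc
  simp only [toTower, eqToHom_refl, Category.id_comp]
  constructor
  · have h := (isMonHom_app (Over.pullbackComp f' f).hom X).one_hom
    simpa [Functor.obj.η_def, Functor.monObjObj, Functor.LaxMonoidal.comp_ε, Functor.map_comp] using h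
  · have h := (isMonHom_app (Over.pullbackComp f' f).hom X).mul_hom
    simpa [Functor.obj.μ_def, Functor.monObjObj, Functor.LaxMonoidal.comp_μ, Functor.map_comp] using h

theorem isMonHom_comp4 {A : Over S''} [GrpObj A] {A₁ : Over S'} [GrpObj A₁] {A₀ : Over S} [GrpObj A₀]
    (lam₁ : A ⟶ Red.bc f' A₁) [IsMonHom lam₁] (lam : A₁ ⟶ Red.bc f A₀) [IsMonHom lam] :
    IsMonHom (lam₁ ≫ (Over.pullback f').map lam ≫
      (Over.pullbackComp f' f).inv.app A₀ ≫ eqToHom (congrArg (fun φ => Red.bc φ A₀) hc)) := by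
  haveI := isMonHom_ofTower f f' hc A₀
  change IsMonHom (lam₁ ≫ (Over.pullback f').map lam ≫ ofTower f f' hc A₀)
  infer_instance

theorem isMonHom_comp4' {A : Over S''} [GrpObj A] {A₁ : Over S'} [GrpObj A₁] {A₀ : Over S} [GrpObj A₀]
    (tau₁ : Red.bc f' A₁ ⟶ A) [IsMonHom tau₁] (tau : Red.bc f A₀ ⟶ A₁) [IsMonHom tau] :
    IsMonHom (eqToHom (congrArg (fun φ => Red.bc φ A₀) hc.symm) ≫
      (Over.pullbackComp f' f).hom.app A₀ ≫ (Over.pullback f').map tau ≫ tau₁) := by
  haveI := isMonHom_toTower f f' hc A₀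
  rw [← Category.assoc]
  change IsMonHom (toTower f f' hc A₀ ≫ (Over.pullback f').map tau ≫ tau₁)
  infer_instance

theorem isFinite_comp4' {A : Over S''} {A₁ : Over S'} {A₀ : Over S}
    (tau₁ : Red.bc f' A₁ ⟶ A) (h₁ : IsFinite tau₁.left) (tau : Red.bc f A₀ ⟶ A₁) (h : IsFinite tau.left) :
    IsFinite (eqToHom (congrArg (fun φ => Red.bc φ A₀) hc.symm) ≫
      (Over.pullbackComp f' f).hom.app A₀ ≫ (Over.pullback f').map tau ≫ tau₁).left := by
  haveI : IsFinite ((Over.pullback f').map tau).left :=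
    Groth.Agent.Lib.GrpSch.bc_map_left_of (P := @IsFinite) f' tau h
  haveI : IsIso (toTower f f' hc A₀).left :=
    inferInstanceAs (IsIso ((Over.forget _).map (toTower f f' hc A₀)))
  rw [← Category.assoc]
  change IsFinite (toTower f f' hc A₀ ≫ (Over.pullback f').map tau ≫ tau₁).left
  simp only [Over.comp_left]
  infer_instance

theorem image_comp {A : Over S''} {A₁ : Over S'} {A₀ B : Over S}
    (lam₁ : A ⟶ Red.bc f' A₁) (lam : A₁ ⟶ Red.bc f A₀) (α : A ⟶ Red.bc f'' B)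
    (α₁ : A₁ ⟶ Red.bc f B) (α₀ : A₀ ⟶ B)
    (e₁ : lam₁ ≫ (Over.pullback f').map α₁ = α ≫ toTower f f' hc B)
    (e₀ : lam ≫ (Over.pullback f).map α₀ = α₁) :
    (lam₁ ≫ (Over.pullback f').map lam ≫
      (Over.pullbackComp f' f).inv.app A₀ ≫ eqToHom (congrArg (fun φ => Red.bc φ A₀) hc)) ≫
      (Over.pullback f'').map α₀ = α := by
  change (lam₁ ≫ (Over.pullback f').map lam ≫ ofTower f f' hc A₀) ≫ _ = _
  simp only [Category.assoc]
  rw [← ofTower_natural, ← Category.assoc ((Over.pullback f').map lam), ← Functor.map_comp, e₀,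
    ← Category.assoc, e₁, Category.assoc, toTower_ofTower, Category.comp_id]

theorem trace_comp {A : Over S''} {A₁ : Over S'} {A₀ B : Over S}
    (tau₁ : Red.bc f' A₁ ⟶ A) (tau : Red.bc f A₀ ⟶ A₁) (β : Red.bc f'' B ⟶ A)
    (β₁ : Red.bc f B ⟶ A₁) (β₀ : B ⟶ A₀)
    (e₁ : (Over.pullback f').map β₁ ≫ tau₁ = ofTower f f' hc B ≫ β)
    (e₀ : (Over.pullback f).map β₀ ≫ tau = β₁) :
    (Over.pullback f'').map β₀ ≫ (eqToHom (congrArg (fun φ => Red.bc φ A₀) hc.symm) ≫
      (Over.pullbackComp f' f).hom.app A₀ ≫ (Over.pullback f').map tau ≫ tau₁) = β := by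
  rw [← Category.assoc (eqToHom _)]
  change (Over.pullback f'').map β₀ ≫ toTower f f' hc A₀ ≫ _ = _
  rw [← cancel_epi (ofTower f f' hc B), ← e₁, ← e₀, Functor.map_comp]
  rw [← Category.assoc (ofTower f f' hc B), ← ofTower_natural]
  simp only [Category.assoc]
  rw [← Category.assoc (ofTower f f' hc A₀), ofTower_toTower, Category.id_comp]

theorem trace_fac {A : Over S''} [GrpObj A] {A₁ : Over S'} [GrpObj A₁] {A₀ B : Over S} [GrpObj A₀] [GrpObj B]
    (tau₁ : Red.bc f' A₁ ⟶ A) (tau : Red.bc f A₀ ⟶ A₁)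
    (H₁ : ∀ β : Red.bc f' (Red.bc f B) ⟶ A, IsMonHom β →
      ∃ β₁ : Red.bc f B ⟶ A₁, IsMonHom β₁ ∧ (Over.pullback f').map β₁ ≫ tau₁ = β)
    (H₀ : ∀ β₁ : Red.bc f B ⟶ A₁, IsMonHom β₁ →
      ∃ β₀ : B ⟶ A₀, IsMonHom β₀ ∧ (Over.pullback f).map β₀ ≫ tau = β₁)
    (β : Red.bc f'' B ⟶ A) [IsMonHom β] :
    ∃ β₀ : B ⟶ A₀, IsMonHom β₀ ∧
      (Over.pullback f'').map β₀ ≫
      ((eqToHom (congrArg (fun φ => Red.bc φ A₀) hc.symm) ≫
        (Over.pullbackComp f' f).hom.app A₀ ≫ (Over.pullback f').map tau ≫ tau₁ : Red.bc f'' A₀ ⟶ A)) = β := by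
  haveI := isMonHom_ofTower f f' hc B
  obtain ⟨β₁, hβ₁, e₁⟩ := H₁ (ofTower f f' hc B ≫ β) inferInstance
  obtain ⟨β₀, hβ₀, e₀⟩ := H₀ β₁ hβ₁
  exact ⟨β₀, hβ₀, trace_comp f f' hc tau₁ tau β β₁ β₀ e₁ e₀⟩

instance isProper_bc (X : Over S) [IsProper X.hom] : IsProper (Red.bc f X).hom :=
  Groth.Agent.Lib.GrpSch.bc_hom_of (P := @IsProper) f X ‹_›

instance geometricallyIntegral_bc (X : Over S) [GeometricallyIntegral X.hom] :
    GeometricallyIntegral (Red.bc f X).hom :=
  Groth.Agent.Lib.GrpSch.bc_hom_of (P := @GeometricallyIntegral) f X ‹_›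

end Groth.Agent.H4.ChowBC
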