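import Groth.Agent.H3.IsogenyDescent

/-! Factorization through a finite etale isogeny over an arbitrary field, tested on geometric points. -/

set_option autoImplicit false

universe u

open CategoryTheory Limits MonoidalCategory CartesianMonoidalCategory MonObj AlgebraicGeometry

namespace Groth.Agent.H4.Factor

variable {k K : Type u} [Field k] [Field K] [IsAlgClosed K]

theorem exists_factor (b : Spec (CommRingCat.of K) ⟶ Spec (CommRingCat.of k))
    {E E' E'' : Over (Spec (CommRingCat.of k))} [GrpObj E] [GrpObj E'] [GrpObj E'']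
    [IsSeparated E''.hom]
    (φ : E ⟶ E') [IsMonHom φ] [IsFinite φ.left] [Surjective φ.left] [Etale φ.left]
    (ψ : E ⟶ E'') [IsMonHom ψ]
    (hker : ∀ P : Over.mk b ⟶ E, P ≫ φ = 1 → P ≫ ψ = 1) :
    ∃ ρ : E' ⟶ E'', IsMonHom ρ ∧ φ ≫ ρ = ψ := by
  let N : Over (Spec (CommRingCat.of k)) :=
    Over.mk (pullback.snd φ.left η[E'].left :
      pullback φ.left η[E'].left ⟶ Spec (CommRingCat.of k))
  let i : N ⟶ E := Over.homMk (pullback.fst φ.left η[E'].left) (by
    rw [← Over.w φ, ← Category.assoc, pullback.condition, Category.assoc, Over.w η[E']]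
    exact Category.comp_id _)
  have : IsFinite N.hom := inferInstanceAs (IsFinite (pullback.snd φ.left η[E'].left))
  have : Etale N.hom := inferInstanceAs (Etale (pullback.snd φ.left η[E'].left))
  have hiφ : i ≫ φ = 1 := by
    ext1
    rw [Hom.one_def, Over.comp_left, Over.comp_left]
    refine pullback.condition.trans ?_
    show _ = _ ≫ η[E'].left
    rfl
  have hi : i ≫ ψ = 1 := by
    ext1
    have : Surjective b := ⟨Function.surjective_to_subsingleton (α := Spec (CommRingCat.of K))
      (β := Spec (CommRingCat.of k)) _⟩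
    let p := pullback.fst N.hom b
    let q := pullback.snd N.hom b
    have : Surjective p := inferInstanceAs (Surjective (pullback.fst N.hom b))
    have : Flat p := inferInstanceAs (Flat (pullback.fst N.hom b))
    have : QuasiCompact p := inferInstanceAs (QuasiCompact (pullback.fst N.hom b))
    have : Epi p := Flat.epi_of_flat_of_surjective p
    have : IsFinite q := inferInstanceAs (IsFinite (pullback.snd N.hom b))
    have : Etale q := inferInstanceAs (Etale (pullback.snd N.hom b))
    have : AlgebraicGeometry.IsReduced (pullback N.hom b) := H3.IsogenyDescent.isReduced_of_finite_etale q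
    have : JacobsonSpace ↥(pullback N.hom b) := LocallyOfFiniteType.jacobsonSpace q
    rw [← cancel_epi p]
    refine ext_of_fromSpecResidueField_eq _ _ E''.hom (closedPoints _) ?_ ?_
      (by simp only [Category.assoc, Over.w])
    · exact dense_iff_closure_eq.2 closure_closedPoints
    · intro y hy
      rw [← cancel_epi (Spec.map (residueFieldIsoBase q y hy).hom)]
      have hs : pointOfClosedPoint q y hy ≫ q = 𝟙 _ := pointOfClosedPoint_comp q y hy
      have hPw : (pointOfClosedPoint q y hy ≫ p) ≫ N.hom = (Over.mk b).hom := by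
        rw [Category.assoc, pullback.condition]
        exact ((Category.assoc _ _ _).symm.trans (congrArg (· ≫ b) hs)).trans (Category.id_comp _)
      let P : Over.mk b ⟶ N := Over.homMk (pointOfClosedPoint q y hy ≫ p) hPw
      have h1 : P ≫ i ≫ ψ = P ≫ 1 := by
        rw [← Category.assoc, hker (P ≫ i) (by rw [Category.assoc, hiφ, MonObj.comp_one]),
          MonObj.comp_one]
      have h2 := congrArg Over.Hom.left h1
      simpa only [P, Over.comp_left, Over.homMk_left, pointOfClosedPoint, Category.assoc] using h2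
  have hfac : ∀ {T : Over (Spec (CommRingCat.of k))} (x y : T ⟶ E), x ≫ φ = y ≫ φ → x ≫ ψ = y ≫ ψ := by
    intro T x y h
    have hd : (x⁻¹ * y) ≫ φ = 1 := by
      rw [MonObj.mul_comp, GrpObj.inv_comp, h, inv_mul_cancel]
    have hd' : (x⁻¹ * y).left ≫ φ.left = T.hom ≫ η[E'].left := by
      rw [← Over.comp_left, hd, Hom.one_def, Over.comp_left]
      rfl
    let z : T ⟶ N := Over.homMk (pullback.lift (x⁻¹ * y).left T.hom hd') (pullback.lift_snd _ _ _)
    have hz : z ≫ i = x⁻¹ * y := Over.OverMorphism.ext (pullback.lift_fst _ _ _)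
    have h2 : (x⁻¹ * y) ≫ ψ = 1 := by rw [← hz, Category.assoc, hi, MonObj.comp_one]
    rw [MonObj.mul_comp, GrpObj.inv_comp, inv_mul_eq_one] at h2
    exact h2
  have hfac' : ∀ {Z : Scheme.{u}} (g₁ g₂ : Z ⟶ E.left), g₁ ≫ φ.left = g₂ ≫ φ.left →
      g₁ ≫ ψ.left = g₂ ≫ ψ.left := by
    intro Z g₁ g₂ h
    let T : Over (Spec (CommRingCat.of k)) := Over.mk (g₁ ≫ E.hom)
    let x : T ⟶ E := Over.homMk g₁ rfl
    let y : T ⟶ E := Over.homMk g₂ (by
      show g₂ ≫ E.hom = g₁ ≫ E.hom
      rw [← Over.w φ, ← Category.assoc, ← h, Category.assoc])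
    exact congrArg Over.Hom.left (hfac x y (Over.OverMorphism.ext h))
  let r : E'.left ⟶ E''.left := EffectiveEpi.desc φ.left ψ.left hfac'
  have hr : φ.left ≫ r = ψ.left := EffectiveEpi.fac φ.left ψ.left hfac'
  let ρ : E' ⟶ E'' := Over.homMk r (by
    rw [← cancel_epi φ.left, ← Category.assoc, hr, Over.w, Over.w])
  have hρ : φ ≫ ρ = ψ := Over.OverMorphism.ext hr
  have hepi : Epi φ := Over.epi_of_epi_left φ
  have hepi2 : Epi (φ ⊗ₘ φ) := by
    have h1 : Surjective (φ ⊗ₘ φ).left := by
      rw [Over.tensorHom_left]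
      haveI : MorphismProperty.IsStableUnderComposition (@Surjective : MorphismProperty Scheme.{u}) :=
        MorphismProperty.IsMultiplicative.toIsStableUnderComposition
      exact MorphismProperty.pullbackMap (P := @Surjective) ‹Surjective φ.left› ‹Surjective φ.left›
        (Over.w φ).symm (Over.w φ).symm
    have h2 : Etale (φ ⊗ₘ φ).left := by
      rw [Over.tensorHom_left]
      haveI : MorphismProperty.IsStableUnderComposition (@Etale : MorphismProperty Scheme.{u}) :=
        MorphismProperty.IsMultiplicative.toIsStableUnderComposition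
      exact MorphismProperty.pullbackMap (P := @Etale) ‹Etale φ.left› ‹Etale φ.left›
        (Over.w φ).symm (Over.w φ).symm
    exact Over.epi_of_epi_left _
  refine ⟨ρ, ⟨?_, ?_⟩, hρ⟩
  · rw [← IsMonHom.one_hom φ, Category.assoc, hρ, IsMonHom.one_hom ψ]
  · rw [← cancel_epi (φ ⊗ₘ φ), ← Category.assoc, ← IsMonHom.mul_hom, Category.assoc, hρ,
      IsMonHom.mul_hom ψ, ← Category.assoc, tensorHom_comp_tensorHom, hρ]

end Groth.Agent.H4.Factor
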