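import Groth.Agent.H4.KernelSquare
import Groth.Agent.S7782
import Groth.Agent.H4.AbSchMul
import Mathlib.AlgebraicGeometry.Sites.Fpqc

/-! A homomorphism killing the kernel of a finite flat surjective homomorphism factors through it;
in particular an isogeny of degree `n` divides multiplication by `n`. -/

set_option autoImplicit false
set_option linter.style.haveILetI false

universe u

open CategoryTheory Limits MonoidalCategory CartesianMonoidalCategory MonObj AlgebraicGeometry

namespace Groth.Agent.H4.IsogenyFactor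

variable {S : Scheme.{u}}

/-- The kernel of a homomorphism, as a group object. -/
theorem exists_kernel {X Y : Over S} [GrpObj X] [IsCommMonObj X] [GrpObj Y] (f : X ⟶ Y) [IsMonHom f] :
    ∃ (N : Over S) (_ : GrpObj N) (i : N ⟶ X),
      IsMonHom i ∧ AlgGrp.IsKernel i f ∧ IsCommMonObj N := by
  let N : Over S := pullback f η[Y]
  let i : N ⟶ X := pullback.fst f η[Y]
  have hN : IsPullback i (toUnit N) f η[Y] := by
    have e : toUnit N = pullback.snd f η[Y] := toUnit_unique _ _
    rw [e]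
    exact IsPullback.of_hasPullback f η[Y]
  have hmono : Mono i := ⟨fun g h e => hN.hom_ext e (toUnit_unique _ _)⟩
  have hi : i ≫ f = 1 := by rw [hN.w, MonObj.one_eq_one, MonObj.comp_one]
  let φ : ∀ T : Over S, (T ⟶ X) →* (T ⟶ Y) := fun T =>
    MonoidHom.mk' (fun x => x ≫ f) (fun x y => MonObj.mul_comp x y f)
  let F : (Over S)ᵒᵖ ⥤ GrpCat.{u} :=
    { obj := fun T => GrpCat.of (φ T.unop).ker
      map := fun {T T'} g => GrpCat.ofHom (MonoidHom.mk'
        (fun x => ⟨g.unop ≫ x.1, by
          show (g.unop ≫ x.1) ≫ f = 1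
          rw [Category.assoc, show x.1 ≫ f = 1 from x.2, MonObj.comp_one]⟩)
        (fun x y => Subtype.ext (MonObj.comp_mul g.unop x.1 y.1)))
      map_id := fun T => GrpCat.ext fun x => Subtype.ext (Category.id_comp x.1)
      map_comp := fun g g' => GrpCat.ext fun x => Subtype.ext (Category.assoc g'.unop g.unop x.1) }
  let α : (F ⋙ forget _).RepresentableBy N :=
    { homEquiv := fun {T} =>
        { toFun := fun y => ⟨y ≫ i, by
            show (y ≫ i) ≫ f = 1
            rw [Category.assoc, hi, MonObj.comp_one]⟩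
          invFun := fun x => hN.lift x.1 (toUnit _) (by
            rw [show x.1 ≫ f = 1 from x.2, Hom.one_def])
          left_inv := fun y => hN.hom_ext (hN.lift_fst _ _ _) (toUnit_unique _ _)
          right_inv := fun x => Subtype.ext (hN.lift_fst _ _ _) }
      homEquiv_comp := fun g y => Subtype.ext (Category.assoc g y i) }
  letI hg : GrpObj N := GrpObj.ofRepresentableBy N F α
  have ho : η[N] ≫ i = η[X] :=
    (hN.lift_fst _ _ _).trans (MonObj.one_eq_one (M := X)).symm
  have hm : μ[N] ≫ i = (i ⊗ₘ i) ≫ μ[X] := by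
    refine (hN.lift_fst _ _ _).trans ?_
    show (fst N N ≫ i) * (snd N N ≫ i) = _
    rw [Hom.mul_def, lift_fst_comp_snd_comp]
  haveI hii : IsMonHom i := ⟨ho, hm⟩
  refine ⟨N, hg, i, hii, hN, ⟨?_⟩⟩
  rw [← cancel_mono i, Category.assoc, IsMonHom.mul_hom, ← BraidedCategory.braiding_naturality_assoc,
    IsCommMonObj.mul_comm]

/-- A homomorphism killing the kernel of a finite flat surjective homomorphism factors through it. -/
theorem exists_factor {X Y Z N : Over S} [GrpObj X] [GrpObj Y] [GrpObj Z] (f : X ⟶ Y) [IsMonHom f]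
    [IsFinite f.left] [Flat f.left] [Surjective f.left] (i : N ⟶ X) (hN : AlgGrp.IsKernel i f)
    (ψ : X ⟶ Z) [IsMonHom ψ] (hi : i ≫ ψ = 1) :
    ∃ ρ : Y ⟶ Z, IsMonHom ρ ∧ f ≫ ρ = ψ := by
  have hfac : ∀ {T : Over S} (x y : T ⟶ X), x ≫ f = y ≫ f → x ≫ ψ = y ≫ ψ := by
    intro T x y h
    have hd : (x⁻¹ * y) ≫ f = toUnit T ≫ η[Y] := by
      rw [MonObj.mul_comp, GrpObj.inv_comp, h, inv_mul_cancel, Hom.one_def]
    have h2 : (x⁻¹ * y) ≫ ψ = 1 := by
      rw [← hN.lift_fst _ _ hd, Category.assoc, hi, MonObj.comp_one]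
    rw [MonObj.mul_comp, GrpObj.inv_comp, inv_mul_eq_one] at h2
    exact h2
  have hfac' : ∀ {T : Scheme.{u}} (g₁ g₂ : T ⟶ X.left), g₁ ≫ f.left = g₂ ≫ f.left →
      g₁ ≫ ψ.left = g₂ ≫ ψ.left := by
    intro T g₁ g₂ h
    let T' : Over S := Over.mk (g₁ ≫ X.hom)
    let x : T' ⟶ X := Over.homMk g₁ rfl
    let y : T' ⟶ X := Over.homMk g₂ (by
      show g₂ ≫ X.hom = g₁ ≫ X.hom
      rw [← Over.w f, ← Category.assoc, ← h, Category.assoc])
    exact congrArg Over.Hom.left (hfac x y (Over.OverMorphism.ext h))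
  haveI : Epi f.left := Flat.epi_of_flat_of_surjective f.left
  let r : Y.left ⟶ Z.left := EffectiveEpi.desc f.left ψ.left hfac'
  have hr : f.left ≫ r = ψ.left := EffectiveEpi.fac f.left ψ.left hfac'
  let ρ : Y ⟶ Z := Over.homMk r (by
    rw [← cancel_epi f.left, ← Category.assoc, hr, Over.w, Over.w])
  have hρ : f ≫ ρ = ψ := Over.OverMorphism.ext hr
  haveI : Epi f := Over.epi_of_epi_left f
  haveI hepi2 : Epi (f ⊗ₘ f) := by
    have h1 : Surjective (f ⊗ₘ f).left := by
      rw [Over.tensorHom_left]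
      exact MorphismProperty.pullbackMap (P := @Surjective) ‹Surjective f.left› ‹Surjective f.left›
        (Over.w f).symm (Over.w f).symm
    have h2 : Flat (f ⊗ₘ f).left := by
      rw [Over.tensorHom_left]
      exact MorphismProperty.pullbackMap (P := @Flat) ‹Flat f.left› ‹Flat f.left›
        (Over.w f).symm (Over.w f).symm
    haveI : Epi (f ⊗ₘ f).left := Flat.epi_of_flat_of_surjective _
    exact Over.epi_of_epi_left _
  refine ⟨ρ, ⟨?_, ?_⟩, hρ⟩
  · rw [← IsMonHom.one_hom f, Category.assoc, hρ, IsMonHom.one_hom ψ]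
  · rw [← cancel_epi (f ⊗ₘ f), ← Category.assoc, ← IsMonHom.mul_hom, Category.assoc, hρ,
      IsMonHom.mul_hom ψ, ← Category.assoc, tensorHom_comp_tensorHom, hρ]

end Groth.Agent.H4.IsogenyFactor
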