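import Groth.Agent.H52.FBase.GeomRedSch
import Mathlib.RingTheory.Nilpotent.GeometricallyReduced
import Mathlib.LinearAlgebra.DirectSum.Finsupp

/-! A reduced scheme over a field with a dense set of images of geometrically reduced schemes is
geometrically reduced. -/

set_option autoImplicit false
set_option linter.style.haveILetI false

universe u

open CategoryTheory CategoryTheory.Limits AlgebraicGeometry
open scoped TensorProduct

namespace Groth.Agent.H4.DenseGeomRed

noncomputable section

variable {k : Type u} [Field k]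

/-- A product of geometrically reduced algebras is geometrically reduced. -/
theorem isGeometricallyReduced_pi {ι : Type u} (B : ι → Type u) [∀ i, CommRing (B i)]
    [∀ i, Algebra k (B i)] [∀ i, Algebra.IsGeometricallyReduced k (B i)] :
    Algebra.IsGeometricallyReduced k (∀ i, B i) := by
  classical
  rw [Algebra.isGeometricallyReduced_field_iff]
  let K := AlgebraicClosure k
  let e := Module.Free.chooseBasis k K
  refine ⟨fun z hz => ?_⟩
  let π : ∀ i, K ⊗[k] (∀ j, B j) →ₐ[k] K ⊗[k] B i := fun i =>
    Algebra.TensorProduct.map (AlgHom.id k K) (Pi.evalAlgHom k B i)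
  have hπ : ∀ i, π i z = 0 := fun i => by
    haveI := (Algebra.isGeometricallyReduced_field_iff k (B i)).1 inferInstance
    exact (hz.map (π i)).eq_zero
  apply (TensorProduct.equivFinsuppOfBasisLeft e).injective
  rw [map_zero]
  ext a i
  have hnat : ∀ w : K ⊗[k] (∀ j, B j),
      (TensorProduct.equivFinsuppOfBasisLeft e w) a i =
        (TensorProduct.equivFinsuppOfBasisLeft e (π i w)) a := by
    intro w
    induction w with
    | zero => simp
    | tmul x y =>
      simp [π, TensorProduct.equivFinsuppOfBasisLeft_apply_tmul_apply]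
    | add x y hx hy => simp [hx, hy]
  rw [hnat, hπ]
  simp

/-- Composition with an open immersion preserves geometric reducedness. -/
theorem geometricallyReduced_comp {V T : Scheme.{u}} (j : V ⟶ T) [IsOpenImmersion j]
    (f : T ⟶ Spec (CommRingCat.of k)) [GeometricallyReduced f] : GeometricallyReduced (j ≫ f) := by
  refine ⟨?_⟩
  rw [geometrically_iff_of_isClosedUnderIsomorphisms]
  intro K _ σ
  haveI : IsReduced (pullback f σ) :=
    GeometricallyReduced.geometrically_isReduced _ _ _ (.of_hasPullback _ _)
  haveI : IsReduced (pullback j (pullback.fst f σ)) :=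
    isReduced_of_isOpenImmersion (pullback.snd j (pullback.fst f σ))
  exact isReduced_of_isOpenImmersion (pullbackRightPullbackFstIso f σ j).inv

theorem isGeometricallyReduced_of_scheme {B : Type u} [CommRing B] [Algebra k B]
    (h : GeometricallyReduced (Spec.map (CommRingCat.ofHom (algebraMap k B)))) :
    Algebra.IsGeometricallyReduced k B := by
  rw [Algebra.isGeometricallyReduced_field_iff]
  let K := AlgebraicClosure k
  haveI : IsReduced (pullback (Spec.map (CommRingCat.ofHom (algebraMap k B)))
      (Spec.map (CommRingCat.ofHom (algebraMap k K)))) :=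
    GeometricallyReduced.geometrically_isReduced _ _ _ (.of_hasPullback _ _)
  haveI : IsReduced (Spec (CommRingCat.of (B ⊗[k] K))) :=
    isReduced_of_isOpenImmersion (pullbackSpecIso k B K).inv
  haveI : _root_.IsReduced (B ⊗[k] K) := (affine_isReduced_iff (CommRingCat.of (B ⊗[k] K))).mp inferInstance
  exact isReduced_of_injective (Algebra.TensorProduct.comm k K B)
    (Algebra.TensorProduct.comm k K B).injective

/-- The criterion. -/
theorem geometricallyReduced_of_dense {X : Scheme.{u}} (f : X ⟶ Spec (CommRingCat.of k)) [IsReduced X]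
    {ι : Type u} (T : ι → Scheme.{u}) (s : ∀ i, T i ⟶ X) [∀ i, GeometricallyReduced (s i ≫ f)]
    (hd : Dense (⋃ i, Set.range (s i))) : GeometricallyReduced f := by
  refine ⟨?_⟩
  rw [geometrically_iff_of_isClosedUnderIsomorphisms]
  intro K _ σ
  apply +allowSynthFailures @IsReduced.of_openCover
    (𝒰 := Scheme.Pullback.openCoverOfLeft X.affineOpenCover.openCover f σ)
  intro a
  let A := X.affineOpenCover.X a
  let j : Spec A ⟶ X := X.affineOpenCover.f a
  haveI : IsOpenImmersion j := X.affineOpenCover.map_prop a
  obtain ⟨φ, hφ⟩ : ∃ φ : CommRingCat.of k ⟶ A, Spec.map φ = j ≫ f :=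
    ⟨Spec.preimage (j ≫ f), Spec.map_preimage _⟩
  suffices GeometricallyReduced (Spec.map φ) by
    show IsReduced (pullback (j ≫ f) σ)
    rw [← hφ]
    exact GeometricallyReduced.geometrically_isReduced _ _ _ (.of_hasPullback _ _)
  letI : Algebra k A := φ.hom.toAlgebra
  -- test schemes
  let J := Σ i, {V : (T i).affineOpens // (V.1 : Set (T i)) ⊆ s i ⁻¹' Set.range j}
  let B : J → Type u := fun x => Γ(T x.1, x.2.1.1)
  have hr : ∀ x : J, Set.range (x.2.1.2.fromSpec ≫ s x.1) ⊆ Set.range j := by
    intro x
    rintro _ ⟨y, rfl⟩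
    rw [Scheme.Hom.comp_apply]
    refine x.2.2 ?_
    rw [← x.2.1.2.range_fromSpec]
    exact Set.mem_range_self y
  let ψ : ∀ x : J, A ⟶ Γ(T x.1, x.2.1.1) := fun x =>
    Spec.preimage (IsOpenImmersion.lift j (x.2.1.2.fromSpec ≫ s x.1) (hr x))
  letI : ∀ x : J, Algebra k (B x) := fun x => (φ ≫ ψ x).hom.toAlgebra
  haveI : ∀ x : J, Algebra.IsGeometricallyReduced k (B x) := by
    intro x
    refine isGeometricallyReduced_of_scheme ?_
    show GeometricallyReduced (Spec.map (φ ≫ ψ x))
    rw [Spec.map_comp, hφ, Spec.map_preimage, IsOpenImmersion.lift_fac_assoc, Category.assoc]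
    haveI : IsOpenImmersion x.2.1.2.fromSpec := IsAffineOpen.isOpenImmersion_fromSpec x.2.1.2
    exact geometricallyReduced_comp _ _
  let Φ : A →ₐ[k] ∀ x, B x :=
    { toFun := fun g x => (ψ x).hom g
      map_one' := funext fun x => map_one _
      map_mul' := fun g h => funext fun x => map_mul _ g h
      map_zero' := funext fun x => map_zero _
      map_add' := fun g h => funext fun x => map_add _ g h
      commutes' := fun c => funext fun x => rfl }
  haveI : IsReduced (Spec A) := isReduced_of_isOpenImmersion j
  haveI : _root_.IsReduced A := (affine_isReduced_iff _).mp inferInstance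
  have hinj : Function.Injective Φ := by
    rw [injective_iff_map_eq_zero]
    intro g hg
    refine IsNilpotent.eq_zero ((PrimeSpectrum.basicOpen_eq_bot_iff g).1 ?_)
    refine TopologicalSpace.Opens.ext (Set.eq_empty_iff_forall_notMem.2 fun y hy => ?_)
    obtain ⟨_, ⟨y', hy', rfl⟩, hmem⟩ := hd.inter_open_nonempty _
      (j.isOpenEmbedding.isOpenMap _ (PrimeSpectrum.basicOpen g).2) ⟨_, y, hy, rfl⟩
    obtain ⟨i, z, hz⟩ := Set.mem_iUnion.1 hmem
    obtain ⟨_, ⟨V, hV, rfl⟩, hzV, hVsub⟩ := (T i).isBasis_affineOpens.exists_subset_of_mem_open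
      (show z ∈ s i ⁻¹' Set.range j from ⟨y', hz.symm⟩)
      (j.isOpenEmbedding.isOpen_range.preimage (s i).continuous)
    let x : J := ⟨i, ⟨⟨V, hV⟩, hVsub⟩⟩
    obtain ⟨w, hw⟩ : z ∈ Set.range hV.fromSpec := by rwa [hV.range_fromSpec]
    have e : (Spec.map (ψ x)) w = y' := by
      refine j.isOpenEmbedding.injective ?_
      rw [← Scheme.Hom.comp_apply, Spec.map_preimage, IsOpenImmersion.lift_fac]
      show (hV.fromSpec ≫ s i) w = _
      rw [Scheme.Hom.comp_apply, hw, hz]
    rw [← e] at hy'
    apply hy'
    show (ψ x).hom g ∈ w.asIdeal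
    rw [show (ψ x).hom g = 0 from congrFun hg x]
    exact Ideal.zero_mem _
  haveI := isGeometricallyReduced_pi (k := k) B
  haveI : Algebra.IsGeometricallyReduced k A := Algebra.IsGeometricallyReduced.of_injective Φ hinj
  exact H52.FBase.GeomRedSch.geometricallyReduced_specMap k A

end

end Groth.Agent.H4.DenseGeomRed
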