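import Groth.Agent.H4.TorsionDense
import Groth.Agent.H4.DenseGeomRed
import Groth.Agent.Lib.GrpSch.SmoothReduced

/-! The reduced scheme of a connected closed subgroup of an abelian variety is an abelian variety. -/

set_option autoImplicit false
set_option linter.style.haveILetI false

universe u

open CategoryTheory CategoryTheory.Limits MonoidalCategory CartesianMonoidalCategory AlgebraicGeometry
open scoped MonObj GrpObj
open Groth.Agent.H63.GrpIrred Groth.Agent.H63.GrpComponent Groth.Agent.H63.GrpConnected
open Groth.Agent.Lib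
open IsLocalRing (closedPoint)

namespace Groth.Agent.H4.ConnSubAV

noncomputable section

theorem connectedSpace_of_surjective {Z X : Scheme.{u}} (i : Z ⟶ X) [IsClosedImmersion i] [Surjective i]
    [ConnectedSpace X] : ConnectedSpace Z := by
  let e := i.isClosedEmbedding.isEmbedding.toHomeomorph.trans
    ((Homeomorph.setCongr i.surjective.range_eq).trans (Homeomorph.Set.univ X))
  exact e.symm.surjective.connectedSpace e.symm.continuous

variable {k : Type u} [Field k]

/-- Over an algebraically closed field a connected proper commutative group is dense in torsion. -/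
theorem dense_connected [IsAlgClosed k] (Y : Over (Spec (CommRingCat.of k))) [GrpObj Y] [IsCommMonObj Y]
    [IsProper Y.hom] [ConnectedSpace Y.left] (p : ℕ) [Fact p.Prime] (hpk : (p : k) ≠ 0)
    {H : Set Y.left} (hH : IsClosed H)
    (hT : ∀ (m : ℕ) (a : 𝟙_ (Over (Spec (CommRingCat.of k))) ⟶ Y), a ^ (p ^ m) = 1 →
      TorsionDense.cp a ∈ H) : H = Set.univ := by
  haveI := H63.SubAV.isReduced_comp Y
  obtain ⟨_, hj⟩ := H63.SubAV.exists_grpObj_comp Y
  haveI : IsClosedImmersion (compHom Y).left := isClosedImmersion_compIncl Y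
  haveI : Surjective (compHom Y).left := ⟨fun y => by
    have h : comp0 Y = Set.univ := by
      rw [← Groth.Agent.H63.GrpConnected.connectedComponent_unit, PreconnectedSpace.connectedComponent_eq_univ]
    have hr := range_compIncl Y
    rw [h] at hr
    exact hr.ge (Set.mem_univ y)⟩
  haveI : GeometricallyReduced (compObj Y).hom :=
    H52.FBase.GeomRedSch.geometricallyReduced_of_perfectField _
  haveI : IsProper (compObj Y).hom := by rw [← Over.w (compHom Y)]; infer_instance
  haveI : ConnectedSpace (compObj Y).left := connectedSpace_of_surjective (compHom Y).left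
  haveI : GeometricallyIntegral (compObj Y).hom := HomImage.geometricallyIntegral_of_connected (compObj Y)
  haveI := isCommMonObj_of_isProper_of_geometricallyIntegral (compObj Y)
  have hall : (compHom Y).left ⁻¹' H = Set.univ := by
    refine TorsionDense.dense (compObj Y) p hpk (hH.preimage (compHom Y).left.continuous) fun m a ha => ?_
    have h := hT m (a ≫ compHom Y) (by rw [← MonObj.pow_comp, ha, MonObj.one_comp])
    exact h
  refine Set.eq_univ_of_univ_subset fun y _ => ?_
  obtain ⟨z, rfl⟩ := (compHom Y).left.surjective y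
  exact hall.ge (Set.mem_univ z)

theorem result (X : Over (Spec (CommRingCat.of k))) [GrpObj X] [IsProper X.hom]
    [GeometricallyIntegral X.hom] (Y : Over (Spec (CommRingCat.of k))) [GrpObj Y] (i : Y ⟶ X)
    [IsMonHom i] [IsClosedImmersion i.left] [ConnectedSpace Y.left]
    (Yr : Scheme.{u}) (j : Yr ⟶ Y.left) [IsClosedImmersion j] [Surjective j] [IsReduced Yr] :
    GeometricallyIntegral (j ≫ Y.hom) ∧
      ∃ _ : GrpObj (Over.mk (j ≫ Y.hom)), IsMonHom (Over.homMk j rfl : Over.mk (j ≫ Y.hom) ⟶ Y) := by
  haveI := isCommMonObj_of_isProper_of_geometricallyIntegral X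
  haveI : Mono i := Over.mono_of_mono_left _
  haveI : IsCommMonObj Y := TorsionDense.isCommMonObj_of_mono i
  haveI : IsProper Y.hom := by rw [← Over.w i]; infer_instance
  obtain ⟨l, hl, hlk⟩ : ∃ l : ℕ, l.Prime ∧ (l : k) ≠ 0 := by
    by_cases h2 : (2 : k) = 0
    · refine ⟨3, Nat.prime_three, fun h3 => one_ne_zero (α := k) ?_⟩
      linear_combination (norm := (push_cast; ring_nf)) h3 - h2
    · exact ⟨2, Nat.prime_two, by exact_mod_cast h2⟩
  haveI : Fact l.Prime := ⟨hl⟩
  let N : ℕ → (Y.left ⟶ Y.left) := fun m => ((𝟙 Y : Y ⟶ Y) ^ (l ^ m)).left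
  let E : ℕ → Scheme.{u} := fun m => pullback η[Y].left (N m)
  let incl : ∀ m, E m ⟶ Y.left := fun m => pullback.snd η[Y].left (N m)
  haveI : ∀ m, Smooth (incl m ≫ Y.hom) := fun m => by
    haveI : Etale (N m) := NPowEtale.etale_pow (G := Y) (by rw [Nat.cast_pow]; exact pow_ne_zero _ hlk)
    haveI : Etale (pullback.fst η[Y].left (N m)) := inferInstance
    have e : incl m ≫ Y.hom = pullback.fst η[Y].left (N m) ≫ 𝟙 _ := by
      conv_rhs => rw [← show η[Y].left ≫ Y.hom = 𝟙 _ from Over.w η[Y]]
      rw [pullback.condition_assoc]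
      congr 1
      exact (Over.w ((𝟙 Y : Y ⟶ Y) ^ (l ^ m))).symm
    rw [e, Category.comp_id]
    infer_instance
  haveI : ∀ m, IsReduced (E m) := fun m => GrpSch.isReduced_of_smooth_field (incl m ≫ Y.hom)
  have hs : ∀ m, ∃ s : E m ⟶ Yr, s ≫ j = incl m := fun m =>
    H75.RedKer.exists_lift (incl m) j (by rw [j.surjective.range_eq]; exact Set.subset_univ _)
  choose s hs using hs
  let D : Set Y.left := ⋃ m, Set.range (incl m)
  -- density
  have hD : closure D = Set.univ := by
    let e := GrpSch.extBase k (AlgebraicClosure k)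
    let Yb := Red.bc e Y
    haveI : IsProper Yb.hom := GrpSch.bc_hom_of (P := @IsProper) e Y inferInstance
    haveI : IsCommMonObj Yb := inferInstanceAs (IsCommMonObj ((Over.pullback e).obj Y))
    haveI : GeometricallyConnected Y.hom :=
      GrpSch.geometricallyConnected_of_rationalPoint Y.hom η[Y].left (Over.w η[Y])
    haveI : ConnectedSpace Yb.left :=
      GeometricallyConnected.geometrically_connectedSpace (f := Y.hom) e _ _ (IsPullback.of_hasPullback _ _)
    let π : Yb.left ⟶ Y.left := pullback.fst Y.hom e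
    haveI : Surjective e := ⟨fun _ => ⟨closedPoint (AlgebraicClosure k),
      Subsingleton.elim (α := PrimeSpectrum k) _ _⟩⟩
    haveI : Surjective π := inferInstanceAs (Surjective (pullback.fst Y.hom e))
    have hmap : ∀ n : ℕ, (Over.pullback e).map ((𝟙 Y : Y ⟶ Y) ^ n) = (𝟙 Yb) ^ n := by
      intro n
      induction n with
      | zero => simp [Functor.map_one, Yb]
      | succ n ih => rw [pow_succ, Functor.map_mul, ih, CategoryTheory.Functor.map_id, pow_succ]
    have hall : π ⁻¹' closure D = Set.univ := by
      refine dense_connected Yb l ?_ (isClosed_closure.preimage π.continuous) fun m a ha => ?_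
      · intro h0
        exact hlk ((algebraMap k (AlgebraicClosure k)).injective (by rw [map_natCast, map_zero, h0]))
      have h1 : (a ≫ (Over.pullback e).map ((𝟙 Y : Y ⟶ Y) ^ (l ^ m))).left ≫ π =
          (a ≫ (Over.pullback e).map (1 : Y ⟶ Y)).left ≫ π := by
        rw [hmap, MonObj.comp_pow, Category.comp_id, ha, Functor.map_one, MonObj.comp_one]
      have h2 : ∀ f : Y ⟶ Y, (a ≫ (Over.pullback e).map f).left ≫ π = (a.left ≫ π) ≫ f.left := by
        intro f
        rw [Over.comp_left, Category.assoc, Category.assoc]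
        congr 1
        exact pullback.lift_fst _ _ _
      rw [h2, h2, show (1 : Y ⟶ Y).left = Y.hom ≫ η[Y].left by
        rw [Hom.one_def, Over.comp_left, Over.toUnit_left]] at h1
      let lf : (𝟙_ (Over (Spec (CommRingCat.of (AlgebraicClosure k))))).left ⟶ E m :=
        pullback.lift ((a.left ≫ π) ≫ Y.hom) (a.left ≫ π) (by
          show _ = (a.left ≫ π) ≫ N m
          rw [h1, Category.assoc])
      have hl' : lf ≫ incl m = a.left ≫ π := pullback.lift_snd _ _ _
      exact subset_closure (Set.mem_iUnion.2 ⟨m, lf (closedPoint (AlgebraicClosure k)),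
        congrArg (fun f : (𝟙_ (Over (Spec (CommRingCat.of (AlgebraicClosure k))))).left ⟶ Y.left =>
          f (closedPoint (AlgebraicClosure k))) hl'⟩)
    refine Set.eq_univ_of_univ_subset fun y _ => ?_
    obtain ⟨z, rfl⟩ := π.surjective y
    exact hall.ge (Set.mem_univ z)
  have hd : Dense (⋃ m : ULift.{u} ℕ, Set.range (s m.down)) := by
    intro y
    rw [j.isClosedEmbedding.isEmbedding.isInducing.closure_eq_preimage_closure_image, Set.mem_preimage]
    refine closure_mono ?_ (hD.ge (Set.mem_univ _))
    intro w hw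
    obtain ⟨m, z, rfl⟩ := Set.mem_iUnion.1 hw
    refine ⟨s m z, Set.mem_iUnion_of_mem (s := fun m : ULift.{u} ℕ => Set.range (s m.down)) (ULift.up m) ⟨z, rfl⟩, ?_⟩
    rw [← Scheme.Hom.comp_apply, hs]
  haveI : ∀ m : ULift.{u} ℕ, GeometricallyReduced (s m.down ≫ (j ≫ Y.hom)) := fun m => by
    rw [← Category.assoc, hs]
    exact GrpSch.geometricallyReduced_of_smooth_field _
  haveI : GeometricallyReduced (j ≫ Y.hom) :=
    DenseGeomRed.geometricallyReduced_of_dense _ (fun m : ULift.{u} ℕ => E m.down) (fun m => s m.down) hd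
  let Yo : Over (Spec (CommRingCat.of k)) := Over.mk (j ≫ Y.hom)
  let jo : Yo ⟶ Y := Over.homMk j rfl
  haveI : GeometricallyReduced Yo.hom := ‹GeometricallyReduced (j ≫ Y.hom)›
  haveI : IsClosedImmersion jo.left := ‹IsClosedImmersion j›
  haveI : Mono jo := Over.mono_of_mono_left _
  haveI : LocallyOfFiniteType Yo.hom := inferInstanceAs (LocallyOfFiniteType (j ≫ Y.hom))
  haveI : IsReduced Yo.left := ‹IsReduced Yr›
  haveI : IsReduced (Yo ⊗ Yo).left := by
    haveI := H52.FBase.GeomRedSch.geometricallyReduced_prod Yo.hom Yo.hom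
    let f := pullback.fst Yo.hom Yo.hom ≫ Yo.hom
    haveI : IsReduced (pullback f (𝟙 _)) :=
      GeometricallyReduced.geometrically_isReduced _ _ _ (.of_hasPullback _ _)
    show IsReduced (pullback Yo.hom Yo.hom)
    exact isReduced_of_isOpenImmersion (inv (pullback.fst f (𝟙 _)))
  haveI : IsReduced (𝟙_ (Over (Spec (CommRingCat.of k)))).left :=
    inferInstanceAs (IsReduced (Spec (CommRingCat.of k)))
  have hr : Set.range jo.left = Set.univ := j.surjective.range_eq
  obtain ⟨G, hG⟩ := HomImage.exists_grpObj jo
    (HomImage.exists_factor jo η[Y] (by rw [hr]; exact Set.subset_univ _))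
    (HomImage.exists_factor jo _ (by rw [hr]; exact Set.subset_univ _))
    (HomImage.exists_factor jo _ (by rw [hr]; exact Set.subset_univ _))
  haveI : ConnectedSpace Yo.left := connectedSpace_of_surjective j
  exact ⟨HomImage.geometricallyIntegral_of_connected Yo, G, hG⟩

end

end Groth.Agent.H4.ConnSubAV
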