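import Groth.Agent.H3.PicCalc
import Groth.Agent.Lib.Ample.GenLocus
import Mathlib.AlgebraicGeometry.Morphisms.Proper

/-! Classes of invertible modules with a section of given locus. -/

set_option autoImplicit false

universe u

open CategoryTheory AlgebraicGeometry TopologicalSpace
open Groth.Agent.Lib Groth.Agent.Lib.TensorMod

namespace Groth.Agent.H4.Locus

variable [∀ Y : Scheme.{u}, PicGrp.Law Y]

/-- The class `c` has a section whose locus is `W`. -/
def HasLocus {Y : Scheme.{u}} (c : PicLoc.PicSet Y) (W : Y.Opens) : Prop :=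
  ∃ (M : Y.Modules) (hM : PicF.IsInvertible M) (s : Coh.structureModule Y ⟶ M),
    PicGrp.cls M hM = c ∧ CohB1.genLocus M s = W

theorem hasLocus_one (Y : Scheme.{u}) : HasLocus (1 : PicLoc.PicSet Y) ⊤ :=
  ⟨_, PicLoc.isInvertible_structureModule Y, 𝟙 _, PicGrp.cls_structureModule_eq_one,
    Ample.GenLocus.genLocus_id⟩

theorem HasLocus.mul {Y : Scheme.{u}} {c d : PicLoc.PicSet Y} {V W : Y.Opens} (h : HasLocus c V)
    (h' : HasLocus d W) : HasLocus (c * d) (V ⊓ W) := by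
  obtain ⟨M, hM, s, rfl, rfl⟩ := h
  obtain ⟨N, hN, t, rfl, rfl⟩ := h'
  refine ⟨CohB1.tensorMod M N, Invertible.isInvertible_tensorMod hM hN, SecTwist.tmulHom s t, ?_,
    Ample.GenLocus.genLocus_tmulHom hM hN s t⟩
  exact Subtype.ext (H3.PicCalc.cl_tensor (a := PicGrp.cls M hM) (b := PicGrp.cls N hN) rfl rfl)

theorem HasLocus.pow {Y : Scheme.{u}} {c : PicLoc.PicSet Y} {W : Y.Opens} (h : HasLocus c W) :
    ∀ n : ℕ, 0 < n → HasLocus (c ^ n) W
  | 1, _ => by rwa [pow_one]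
  | n + 2, _ => by
    rw [pow_succ]
    simpa using (h.pow (n + 1) n.succ_pos).mul h

theorem HasLocus.ph {S : Scheme.{u}} {X Y : Over S} (f : X ⟶ Y) {c : PicLoc.PicSet Y.left}
    {W : Y.left.Opens} (h : HasLocus c W) : HasLocus (H3.PicCalc.ph f c) (f.left ⁻¹ᵁ W) := by
  obtain ⟨M, hM, s, rfl, rfl⟩ := h
  exact ⟨(Scheme.Modules.pullback f.left).obj M, PicLoc.isInvertible_pullback f.left hM,
    (PicLoc.pullbackStructureIso f.left).inv ≫ (Scheme.Modules.pullback f.left).map s,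
    Subtype.ext (H3.PicCalc.cl_pullback f (a := PicGrp.cls M hM) rfl),
    Ample.GenLocus.genLocus_pullback f.left hM s (PicLoc.pullbackStructureIso f.left).symm⟩

/-- On a proper integral scheme over a field a section of a trivial class vanishes nowhere or everywhere. -/
theorem HasLocus.eq_top_or_eq_bot {k : Type u} [Field k] {Y : Scheme.{u}} [IsIntegral Y]
    (q : Y ⟶ Spec (CommRingCat.of k)) [UniversallyClosed q] {W : Y.Opens}
    (h : HasLocus (1 : PicLoc.PicSet Y) W) : W = ⊤ ∨ W = ⊥ := by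
  obtain ⟨M, hM, s, hc, rfl⟩ := h
  obtain ⟨e⟩ := (PicGrp.cls_eq_one_iff hM).mp hc
  rw [← Ample.GenLocus.genLocus_comp_iso s e]
  set t := s ≫ e.hom
  have h1 := Ample.GenLocus.genLocus_inf_eq (Ample.GenLocus.isGen_one (⊤ : Y.Opens)) t
    (a := (show Γ(Y, ⊤) from t.app ⊤ (Gen.one Y ⊤)))
    (show (t.app ⊤ (Gen.one Y ⊤) : Γ(Coh.structureModule Y, ⊤)) =
      (show Γ(Y, ⊤) from t.app ⊤ (Gen.one Y ⊤)) • Gen.one Y ⊤ from (mul_one (show Γ(Y, ⊤) from t.app ⊤ (Gen.one Y ⊤))).symm)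
  rw [inf_top_eq] at h1
  rw [h1]
  rcases eq_or_ne (show Γ(Y, ⊤) from t.app ⊤ (Gen.one Y ⊤)) 0 with h0 | h0
  · right; rw [h0, Scheme.basicOpen_zero]
  · left
    letI := (isField_of_universallyClosed k q).toField
    exact Y.basicOpen_of_isUnit (isUnit_iff_ne_zero.mpr h0)

end Groth.Agent.H4.Locus
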