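import Groth.Agent.H4.SepDivisor
import Groth.Agent.H4.Locus
import Groth.Agent.H4.IsogenyDim
import Groth.Agent.H4.NPowEtale
import Groth.Agent.H75.RedSub
import Mathlib.AlgebraicGeometry.Group.Abelian
import Mathlib.AlgebraicGeometry.Group.Smooth
import Mathlib.AlgebraicGeometry.AlgClosed.Basic
import Mathlib.Data.Nat.Choose.Basic

/-! Consequences of the theorem of the cube (taken as a hypothesis `CubeRel`) for multiplication by `n`:
it is finite, flat and surjective for every `n ≥ 1`. -/

set_option autoImplicit false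

universe u

open CategoryTheory Limits MonoidalCategory CartesianMonoidalCategory AlgebraicGeometry
open scoped MonObj GrpObj
open TopologicalSpace
open Groth.Agent.H3 Groth.Agent.Lib

namespace Groth.Agent.H4.CubeCons

variable [∀ Y : Scheme.{u}, PicGrp.Law Y] {k : Type u} [Field k]
  (A : Over (Spec (CommRingCat.of k))) [GrpObj A]

/-- The relation of the theorem of the cube for three morphisms into `A`, on classes. -/
def CubeRel : Prop :=
  ∀ (V : Over (Spec (CommRingCat.of k))) (f g h : V ⟶ A) (c : PicLoc.PicSet A.left),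
    PicCalc.ph (f * g * h) c * PicCalc.ph f c * PicCalc.ph g c * PicCalc.ph h c =
      PicCalc.ph (f * g) c * PicCalc.ph (f * h) c * PicCalc.ph (g * h) c

variable {A}

theorem ph_one (V : Over (Spec (CommRingCat.of k))) (c : PicLoc.PicSet A.left) :
    PicCalc.ph (1 : V ⟶ A) c = 1 := by
  haveI : Subsingleton (𝟙_ (Over (Spec (CommRingCat.of k)))).left :=
    inferInstanceAs (Subsingleton (Spec (CommRingCat.of k)))
  haveI : Nonempty (𝟙_ (Over (Spec (CommRingCat.of k)))).left :=
    inferInstanceAs (Nonempty (Spec (CommRingCat.of k)))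
  rw [Hom.one_def, PicCalc.ph_comp, PicCalc.eq_one_of_subsingleton (PicCalc.ph η[A] c), map_one]

/-- `[n]^* c = c^(n(n+1)/2) · ([-1]^* c)^(n(n-1)/2)`. -/
theorem ph_pow (hcube : CubeRel A) {V : Over (Spec (CommRingCat.of k))} (x : V ⟶ A)
    (c : PicLoc.PicSet A.left) (n : ℕ) :
    PicCalc.ph (x ^ n) c =
      PicCalc.ph x c ^ (n + 1).choose 2 * PicCalc.ph x⁻¹ c ^ n.choose 2 := by
  induction n using Nat.strong_induction_on with
  | _ n ih =>
    match n with
    | 0 => simp [ph_one]
    | 1 => simp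
    | m + 2 =>
      have h := hcube V (x ^ (m + 1)) x x⁻¹ c
      rw [show x ^ (m + 1) * x * x⁻¹ = x ^ (m + 1) from mul_inv_cancel_right _ _,
        show x ^ (m + 1) * x = x ^ (m + 2) from (pow_succ x (m + 1)).symm,
        show x ^ (m + 1) * x⁻¹ = x ^ m by rw [pow_succ, mul_inv_cancel_right],
        mul_inv_cancel, ph_one, mul_one, ih (m + 1) (by omega), ih m (by omega)] at h
      set a := PicCalc.ph x c
      set b := PicCalc.ph x⁻¹ c
      refine mul_right_cancel (b := a ^ (m + 1).choose 2 * b ^ m.choose 2) (h.symm.trans ?_)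
      have e : ∀ j : ℕ, (j + 1).choose 2 = j + j.choose 2 := fun j => by
        rw [Nat.choose_succ_succ, Nat.choose_one_right]
      rw [show m + 1 + 1 = m + 2 from rfl, show m + 2 + 1 = m + 1 + 1 + 1 from rfl, e (m + 1 + 1),
        show m + 1 + 1 = m + 2 from rfl, show (m + 2).choose 2 = m + 1 + (m + 1).choose 2 from e (m + 1),
        e m]
      simp only [pow_add, pow_one]
      rw [show a ^ (2 : ℕ) = a * a from pow_two a]
      simp only [mul_assoc, mul_comm, mul_left_comm]

/-- Multiplication by `n` has finite fibre over the origin, over an algebraically closed field. -/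
theorem finite_kernel_algClosed [IsAlgClosed k] [IsProper A.hom] [GeometricallyIntegral A.hom]
    (hcube : CubeRel A) {n : ℕ} (hn : 0 < n) (s : (𝟙_ (Over (Spec (CommRingCat.of k)))).left) :
    (((𝟙 A : A ⟶ A) ^ n).left ⁻¹' {η[A].left s}).Finite := by
  haveI := isCommMonObj_of_isProper_of_geometricallyIntegral A
  haveI : IsIntegral A.left := GeometricallyIntegral.isIntegral_of_subsingleton A.hom
  haveI : Smooth A.hom := by
    letI : GrpObj (Over.mk A.hom) := (show GrpObj A from inferInstance)
    exact smooth_of_grpObj A.hom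
  haveI : IsLocallyNoetherian A.left := LocallyOfFiniteType.isLocallyNoetherian A.hom
  haveI : CompactSpace A.left := QuasiCompact.compactSpace_of_compactSpace A.hom
  haveI : IsNoetherian A.left := {}
  haveI : JacobsonSpace A.left := LocallyOfFiniteType.jacobsonSpace A.hom
  set F := ((𝟙 A : A ⟶ A) ^ n)
  have hη : IsClosed ({η[A].left s} : Set A.left) := GrpSch.rational_isClosed η[A] s
  have hP : IsClosed (F.left ⁻¹' {η[A].left s}) := hη.preimage F.left.continuous
  by_contra hinf
  obtain ⟨S, hSirr, hScl, hSsub, hSinf⟩ : ∃ S : Set A.left, IsIrreducible S ∧ IsClosed S ∧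
      S ⊆ F.left ⁻¹' {η[A].left s} ∧ S.Infinite := by
    obtain ⟨T, hTfin, hTcl, hTirr, hT⟩ :=
      NoetherianSpace.exists_finite_set_isClosed_irreducible hP
    by_contra hno
    push Not at hno
    refine hinf ?_
    rw [hT]
    exact hTfin.sUnion fun S hS =>
      hno S (hTirr S hS) (hTcl S hS) (hT ▸ Set.subset_sUnion_of_mem hS)
  let I := Scheme.IdealSheafData.vanishingIdeal (⟨S, hScl⟩ : Closeds A.left)
  haveI : AlgebraicGeometry.IsReduced I.subscheme := H75.RedSub.isReduced_vanishingIdeal _
  have hrange : Set.range I.subschemeι = S := I.range_subschemeι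
  haveI : IrreducibleSpace I.subscheme := by
    haveI : IrreducibleSpace ↥(Set.range I.subschemeι) := by
      rw [hrange]; exact Subtype.irreducibleSpace hSirr
    exact (I.subschemeι.isClosedEmbedding.isEmbedding.toHomeomorph).irreducibleSpace_iff.mpr inferInstance
  haveI : IsIntegral I.subscheme := isIntegral_of_irreducibleSpace_of_isReduced _
  let Z : Over (Spec (CommRingCat.of k)) := Over.mk (I.subschemeι ≫ A.hom)
  let i : Z ⟶ A := Over.homMk I.subschemeι rfl
  haveI : IsProper Z.hom := inferInstanceAs (IsProper (I.subschemeι ≫ A.hom))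
  haveI : IsIntegral Z.left := ‹IsIntegral I.subscheme›
  have hiF : i ^ n = 1 := by
    rw [← Category.comp_id i, ← MonObj.comp_pow, Hom.one_def]
    apply Over.OverMorphism.ext
    haveI : LocallyOfFiniteType ((i ≫ F).left ≫ A.hom) := by rw [Over.w]; infer_instance
    refine ext_of_apply_eq A.hom Set.univ isClosed_univ.isLocallyClosed dense_univ (fun z _ _ => ?_) ?_
    · have hz : i.left z ∈ S := hrange ▸ Set.mem_range_self (f := I.subschemeι) z
      exact (hSsub hz).trans (congrArg η[A].left (Subsingleton.elim (α := Spec (CommRingCat.of k)) _ _))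
    · rw [Over.w, Over.w]
  obtain ⟨z₀, hz₀S, hz₀⟩ := nonempty_inter_closedPoints (Z := S) hSirr.nonempty hScl.isLocallyClosed
  let p₀ : 𝟙_ (Over (Spec (CommRingCat.of k))) ⟶ A :=
    Over.homMk (pointOfClosedPoint A.hom z₀ hz₀) (pointOfClosedPoint_comp A.hom z₀ hz₀)
  let τ : A ⟶ A := 𝟙 A * (toUnit A ≫ p₀⁻¹)
  let τ' : A ⟶ A := 𝟙 A * (toUnit A ≫ p₀)
  have hττ' : τ ≫ τ' = 𝟙 A ∧ τ' ≫ τ = 𝟙 A := by
    constructor <;>
    · rw [MonObj.comp_mul, Category.comp_id, ← Category.assoc, toUnit_unique (_ ≫ toUnit A) (toUnit A)]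
      simp only [τ, τ', mul_assoc, ← MonObj.comp_mul, inv_mul_cancel, mul_inv_cancel,
        MonObj.comp_one, mul_one]
  let j : Z ⟶ A := i ≫ τ
  have hj : j = i * (toUnit Z ≫ p₀⁻¹) := by
    simp only [j, τ, MonObj.comp_mul, Category.comp_id]
    rw [← Category.assoc, toUnit_unique (i ≫ toUnit A) (toUnit Z)]
  have hF0 : p₀ ^ n = 1 := by
    rw [← Category.comp_id p₀, ← MonObj.comp_pow, Hom.one_def]
    apply Over.OverMorphism.ext
    refine ext_of_apply_closedPoint_eq A.hom (Over.w _) (Over.w _) ?_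
    refine Eq.trans ?_ ((hSsub hz₀S : F.left z₀ = _).trans
      (congrArg η[A].left (Subsingleton.elim (α := Spec (CommRingCat.of k)) _ _)))
    exact congrArg F.left (pointOfClosedPoint_apply A.hom z₀ hz₀ _)
  have hjn : j ^ n = 1 := by
    rw [hj, mul_pow, hiF, one_mul, ← MonObj.comp_pow, inv_pow, hF0, inv_one, MonObj.comp_one]
  have hjinj : Function.Injective j.left := by
    have h1 : Function.Injective τ.left := fun a b hab => by
      have := congrArg τ'.left hab
      rwa [← Scheme.Hom.comp_apply, ← Scheme.Hom.comp_apply, ← Over.comp_left, hττ'.1] at this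
    intro a b hab
    exact I.subschemeι.isClosedEmbedding.injective (h1 hab)
  haveI : JacobsonSpace Z.left := LocallyOfFiniteType.jacobsonSpace Z.hom
  obtain ⟨zz, hzz⟩ : z₀ ∈ Set.range I.subschemeι := hrange ▸ hz₀S
  have hjz : j.left zz = η[A].left s := by
    have h1 : p₀ ≫ τ = η[A] := by
      simp only [τ, MonObj.comp_mul, Category.comp_id]
      rw [← Category.assoc, toUnit_unique (p₀ ≫ toUnit A) (𝟙 _), Category.id_comp, mul_inv_cancel,
        MonObj.one_eq_one]
    have h2 := congrArg (fun φ : 𝟙_ (Over (Spec (CommRingCat.of k))) ⟶ A => φ.left s) h1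
    simp only [Over.comp_left, Scheme.Hom.comp_apply] at h2
    show τ.left (I.subschemeι zz) = _
    rw [hzz, ← h2]
    exact congrArg τ.left (pointOfClosedPoint_apply A.hom z₀ hz₀ s).symm
  obtain ⟨U, hU, heU, -⟩ := exists_isAffineOpen_mem_and_subset (x := η[A].left s) (U := ⊤) trivial
  have hnz : ((j.left ⁻¹ᵁ U : Z.left.Opens) : Set Z.left) \ {zz} ≠ ∅ := by
    intro h
    have hsub : ((j.left ⁻¹ᵁ U : Z.left.Opens) : Set Z.left) ⊆ {zz} := Set.sdiff_eq_empty.mp h
    have hd : Dense ((j.left ⁻¹ᵁ U : Z.left.Opens) : Set Z.left) :=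
      (j.left ⁻¹ᵁ U).isOpen.dense ⟨zz, show j.left zz ∈ U from hjz ▸ heU⟩
    have hzc : IsClosed ({zz} : Set Z.left) := by
      have := hz₀.preimage I.subschemeι.continuous
      rwa [← hzz, ← Set.image_singleton, Set.preimage_image_eq _ I.subschemeι.isClosedEmbedding.injective] at this
    refine hSinf ?_
    rw [← hrange, ← Set.image_univ]
    refine Set.Finite.image _ ((Set.finite_singleton zz).subset ?_)
    rw [← hd.closure_eq]
    exact closure_minimal hsub hzc
  obtain ⟨z1, ⟨hz1U, hz1ne⟩, hz1c⟩ := nonempty_inter_closedPoints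
    (Z := ((j.left ⁻¹ᵁ U : Z.left.Opens) : Set Z.left) \ {zz}) (Set.nonempty_iff_ne_empty.mpr hnz)
    ((j.left ⁻¹ᵁ U).isOpen.isLocallyClosed.inter (IsOpen.isLocallyClosed (IsClosed.isOpen_compl (self := by
      have := hz₀.preimage I.subschemeι.continuous
      rwa [← hzz, ← Set.image_singleton, Set.preimage_image_eq _ I.subschemeι.isClosedEmbedding.injective] at this))))
  haveI : IsProper (j.left ≫ A.hom) := by rw [Over.w]; infer_instance
  haveI : IsProper j.left := IsProper.of_comp j.left A.hom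
  have hjc : IsClosed ({j.left z1} : Set A.left) := by
    have := j.left.isClosedMap _ hz1c
    rwa [Set.image_singleton] at this
  obtain ⟨L, t, hL, het, hzt⟩ := SepDivisor.exists_section_separating A.hom hU heU hz1U hjc
    (fun h => hz1ne (hjinj (h.symm.trans hjz.symm)))
  have hW : Locus.HasLocus (PicGrp.cls L hL) (CohB1.genLocus L t) := ⟨L, hL, t, rfl, rfl⟩
  set c := PicGrp.cls L hL
  set W := CohB1.genLocus L t
  have hpow := ph_pow hcube j c n
  rw [hjn, ph_one] at hpow
  have hpos : 0 < (n + 1).choose 2 := Nat.choose_pos (by omega)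
  have hloc : ∃ W' : Z.left.Opens, Locus.HasLocus (1 : PicLoc.PicSet Z.left) W' ∧ zz ∈ W' ∧ z1 ∉ W' := by
    have h1 := (hW.ph j).pow _ hpos
    rcases Nat.eq_zero_or_pos (n.choose 2) with h0 | h0
    · rw [h0, pow_zero, mul_one] at hpow
      rw [← hpow] at h1
      exact ⟨_, h1, show j.left zz ∈ W from hjz ▸ het, hzt⟩
    · have h2 := h1.mul ((hW.ph j⁻¹).pow _ h0)
      rw [← hpow] at h2
      refine ⟨_, h2, ⟨show j.left zz ∈ W from hjz ▸ het, ?_⟩, fun h => hzt h.1⟩
      have h3 : j⁻¹ = j ≫ ι[A] := rfl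
      show (j⁻¹).left zz ∈ W
      rw [h3, Over.comp_left, Scheme.Hom.comp_apply, hjz, ← Scheme.Hom.comp_apply, ← Over.comp_left,
        show η[A] ≫ ι[A] = η[A] by rw [MonObj.one_eq_one, GrpObj.inv_eq_inv, GrpObj.comp_inv,
          Category.comp_id, inv_one]]
      exact het
  obtain ⟨W', hW', hzW, hz1W⟩ := hloc
  rcases Locus.HasLocus.eq_top_or_eq_bot Z.hom hW' with rfl | rfl
  · exact hz1W trivial
  · exact hzW

/-- An endomorphism of an abelian variety with finite fibre over the origin is surjective. -/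
theorem surjective_of_finite_kernel [IsProper A.hom] [GeometricallyIntegral A.hom]
    (F : A ⟶ A) [IsMonHom F] (s : (𝟙_ (Over (Spec (CommRingCat.of k)))).left)
    (h : (F.left ⁻¹' {η[A].left s}).Finite) : Surjective F.left := by
  haveI : IsIntegral A.left := GeometricallyIntegral.isIntegral_of_subsingleton A.hom
  haveI : IsProper (F.left ≫ A.hom) := by rw [Over.w]; infer_instance
  haveI : IsProper F.left := IsProper.of_comp F.left A.hom
  obtain ⟨V, heV, hV⟩ := exists_isFinite_morphismRestrict_of_finite_preimage_singleton F.left _ h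
  have hne : η[A].left s ∈ F.left ⁻¹ᵁ V := by
    show F.left (η[A].left s) ∈ V
    rwa [← Scheme.Hom.comp_apply, ← Over.comp_left, IsMonHom.one_hom]
  set ξ := genericPoint A.left
  have hξ : ξ ∈ F.left ⁻¹ᵁ V :=
    ((genericPoint_spec A.left).specializes trivial).mem_open (F.left ⁻¹ᵁ V).2 hne
  have h1 := VarDim.Fibre.pdim_eq_add A.hom A.hom F.left (Over.w F) ξ
  have h3 : VarDim.Basic.tdAt F.left ξ = 0 := by
    have h := (VarDim.Fibre.topologicalKrullDim_fibre_le_iff F.left (F.left ξ) 0).1 ?_ _ rfl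
    · exact_mod_cast le_antisymm h (by exact_mod_cast Nat.zero_le _)
    · haveI : DiscreteTopology ↥((F.left ∣_ V) ⁻¹' {(⟨F.left ξ, hξ⟩ : V.toScheme)}) :=
        (F.left ∣_ V).isDiscrete_preimage_singleton _ |>.1
      let g : ↥(F.left ⁻¹' {F.left ξ}) → ↥((F.left ∣_ V) ⁻¹' {(⟨F.left ξ, hξ⟩ : V.toScheme)}) :=
        fun x => ⟨⟨x.1, show F.left x.1 ∈ V from (x.2 : F.left x.1 = _).symm ▸ hξ⟩,
          V.ι.isOpenEmbedding.injective (by
            rw [← Scheme.Hom.comp_apply, morphismRestrict_ι]
            exact x.2)⟩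
      let g' : ↥((F.left ∣_ V) ⁻¹' {(⟨F.left ξ, hξ⟩ : V.toScheme)}) → A.left :=
        fun y => (F.left ⁻¹ᵁ V).ι y.1
      have hg' : Continuous g' := (F.left ⁻¹ᵁ V).ι.continuous.comp continuous_subtype_val
      have hg : Topology.IsInducing g := by
        refine Topology.IsInducing.of_comp (g := g')
          ?_ hg' ?_
        · exact (continuous_subtype_val.subtype_mk _).subtype_mk _
        · exact Topology.IsInducing.subtypeVal
      exact hg.topologicalKrullDim_le.trans (topologicalKrullDim_zero_of_discreteTopology _)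
  have h4 : F.left ξ = ξ := by
    refine (VarDim.Basic.eq_of_pdim_le A.hom ((genericPoint_spec A.left).specializes trivial) ?_).symm
    have h5 : VarDim.Basic.pdim A.hom ξ = VarDim.Basic.pdim A.hom (genericPoint A.left) := rfl
    omega
  refine ⟨Set.range_eq_univ.1 (Set.eq_univ_of_univ_subset ?_)⟩
  rw [← (genericPoint_spec A.left).def]
  exact closure_minimal (Set.singleton_subset_iff.2 ⟨_, h4⟩) F.left.isClosedMap.isClosed_range

/-- Multiplication by `n ≥ 1` is finite, flat and surjective over an algebraically closed field. -/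
theorem pow_isFinite_flat_surjective_algClosed [IsAlgClosed k] [IsProper A.hom]
    [GeometricallyIntegral A.hom] (hcube : CubeRel A) {n : ℕ} (hn : 0 < n) :
    IsFinite ((𝟙 A : A ⟶ A) ^ n).left ∧ Flat ((𝟙 A : A ⟶ A) ^ n).left ∧
      Surjective ((𝟙 A : A ⟶ A) ^ n).left := by
  haveI := isCommMonObj_of_isProper_of_geometricallyIntegral A
  haveI := NPowEtale.isMonHom_pow_id A n
  obtain ⟨s⟩ : Nonempty (𝟙_ (Over (Spec (CommRingCat.of k)))).left :=
    inferInstanceAs (Nonempty (Spec (CommRingCat.of k)))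
  haveI := surjective_of_finite_kernel ((𝟙 A : A ⟶ A) ^ n) s (finite_kernel_algClosed hcube hn s)
  obtain ⟨h1, h2⟩ := IsogenyDim.isFinite_and_flat ((𝟙 A : A ⟶ A) ^ n) le_rfl
  exact ⟨h1, h2, inferInstance⟩

/-- Multiplication by `n ≥ 1` is finite, flat and surjective over any field. -/
theorem pow_isFinite_flat_surjective [IsProper A.hom] [GeometricallyIntegral A.hom]
    (hcube : CubeRel (Red.bc (GrpSch.extBase k (AlgebraicClosure k)) A)) {n : ℕ} (hn : 0 < n) :
    IsFinite ((𝟙 A : A ⟶ A) ^ n).left ∧ Flat ((𝟙 A : A ⟶ A) ^ n).left ∧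
      Surjective ((𝟙 A : A ⟶ A) ^ n).left := by
  let e := GrpSch.extBase k (AlgebraicClosure k)
  haveI : IsProper (Red.bc e A).hom := GrpSch.bc_hom_of (P := @IsProper) e A inferInstance
  haveI : GeometricallyIntegral (Red.bc e A).hom :=
    GrpSch.bc_hom_of (P := @GeometricallyIntegral) e A inferInstance
  obtain ⟨h1, h2, h3⟩ := pow_isFinite_flat_surjective_algClosed hcube hn
  have hmap : ∀ m : ℕ, (Over.pullback e).map ((𝟙 A : A ⟶ A) ^ m) = (𝟙 (Red.bc e A)) ^ m := by
    intro m
    induction m with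
    | zero => simp [Functor.map_one]
    | succ m ih => rw [pow_succ, Functor.map_mul, ih, CategoryTheory.Functor.map_id, pow_succ]
  haveI : MorphismProperty.RespectsIso (@IsFinite : MorphismProperty Scheme.{u}) :=
    MorphismProperty.IsStableUnderBaseChange.respectsIso
  haveI : MorphismProperty.RespectsIso (@Flat : MorphismProperty Scheme.{u}) :=
    MorphismProperty.IsStableUnderBaseChange.respectsIso
  haveI : MorphismProperty.RespectsIso (@Surjective : MorphismProperty Scheme.{u}) :=
    MorphismProperty.IsStableUnderBaseChange.respectsIso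
  refine ⟨GrpSch.of_bc_map_left k (AlgebraicClosure k) (P := @IsFinite) _ ?_,
    GrpSch.of_bc_map_left k (AlgebraicClosure k) (P := @Flat) _ ?_,
    GrpSch.of_bc_map_left k (AlgebraicClosure k) (P := @Surjective) _ ?_⟩ <;>
  rw [hmap n] <;> assumption

/-- The module form of the cube relation gives `CubeRel`. -/
theorem cubeRel_of_iso
    (h : ∀ (V : Over (Spec (CommRingCat.of k))) (L : A.left.Modules), PicF.IsInvertible L →
      ∀ f g h : V ⟶ A, Nonempty (CohB1.tensorMod (CohB1.tensorMod (CohB1.tensorMod ((Scheme.Modules.pullback (f * g * h).left).obj L) ((Scheme.Modules.pullback (f).left).obj L)) ((Scheme.Modules.pullback (g).left).obj L)) ((Scheme.Modules.pullback (h).left).obj L) ≅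
      CohB1.tensorMod (CohB1.tensorMod ((Scheme.Modules.pullback (f * g).left).obj L) ((Scheme.Modules.pullback (f * h).left).obj L)) ((Scheme.Modules.pullback (g * h).left).obj L))) :
    CubeRel A := by
  intro V f g h' c
  obtain ⟨L, hL, rfl⟩ := PicGrp.exists_eq_cls c
  exact (PicCalc.iso_iff
    (PicCalc.cl_tensor (PicCalc.cl_tensor (PicCalc.cl_tensor
      (PicCalc.cl_pullback (f * g * h') (a := PicGrp.cls L hL) rfl)
      (PicCalc.cl_pullback f (a := PicGrp.cls L hL) rfl))
      (PicCalc.cl_pullback g (a := PicGrp.cls L hL) rfl))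
      (PicCalc.cl_pullback h' (a := PicGrp.cls L hL) rfl))
    (PicCalc.cl_tensor (PicCalc.cl_tensor
      (PicCalc.cl_pullback (f * g) (a := PicGrp.cls L hL) rfl)
      (PicCalc.cl_pullback (f * h') (a := PicGrp.cls L hL) rfl))
      (PicCalc.cl_pullback (g * h') (a := PicGrp.cls L hL) rfl))).mp (h V L hL f g h')

end Groth.Agent.H4.CubeCons
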