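import Groth.Agent.H4.EndFlat
import Groth.Agent.H4.NPowUnram
import Groth.Agent.Lib.Unram.AtPrime
import Mathlib.LinearAlgebra.Basis.VectorSpace
import Mathlib.LinearAlgebra.Dual.Lemmas

/-! An endomorphism fixing a rational point and injective on tangent vectors there is etale near it. -/

set_option autoImplicit false

universe u

open CategoryTheory MonoidalCategory CartesianMonoidalCategory MonObj AlgebraicGeometry

namespace Groth.Agent.H4.EtaleAtPoint

theorem maximalIdeal_le_map {R k : Type u} [CommRing R] [IsLocalRing R] [IsNoetherianRing R] [Field k]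
    (κ : k →+* R) (π : R →+* k) (hπκ : ∀ c, π (κ c) = c) (ψ : R →+* R) (hπψ : ∀ r, π (ψ r) = π r)
    (hψκ : ∀ c, ψ (κ c) = κ c)
    (H : ∀ g : R →+* DualNumber k, (∀ r, (g r).fst = π r) → (∀ c, g (κ c) = TrivSqZeroExt.inl c) →
      (∀ r, g (ψ r) = TrivSqZeroExt.inl (π r)) → ∀ r, g r = TrivSqZeroExt.inl (π r)) :
    IsLocalRing.maximalIdeal R ≤ (IsLocalRing.maximalIdeal R).map ψ := by
  set m := IsLocalRing.maximalIdeal R
  set J := m.map ψ ⊔ m * m with hJ
  have hker : ∀ r, r - κ (π r) ∈ m := fun r => by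
    refine IsLocalRing.le_maximalIdeal (RingHom.ker_ne_top π) ?_
    rw [RingHom.mem_ker, map_sub, hπκ, sub_self]
  refine Submodule.le_of_le_smul_of_le_jacobson_bot (IsNoetherian.noetherian m)
    (IsLocalRing.maximalIdeal_le_jacobson _) (show m ≤ m.map ψ ⊔ m • m from ?_)
  intro x hx
  by_contra hxJ
  letI : Algebra k R := κ.toAlgebra
  obtain ⟨lam, hlamx, hlamJ⟩ := Submodule.exists_dual_map_eq_bot_of_notMem
    (p := (J.restrictScalars k)) (x := x) hxJ inferInstance
  have hJ0 : ∀ y ∈ J, lam y = 0 := fun y hy => by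
    have : lam y ∈ Submodule.map lam (J.restrictScalars k) := ⟨y, hy, rfl⟩
    rwa [hlamJ, Submodule.mem_bot] at this
  have hsmul : ∀ (c : k) (y : R), lam (κ c * y) = c * lam y := fun c y =>
    lam.map_smul c y
  let D : R → k := fun r => lam (r - κ (π r))
  have hD : ∀ r s, D (r * s) = π r * D s + π s * D r := by
    intro r s
    simp only [D]
    have e : r * s - κ (π (r * s)) = (r - κ (π r)) * (s - κ (π s)) +
        (κ (π r) * (s - κ (π s)) + κ (π s) * (r - κ (π r))) := by
      rw [map_mul π, map_mul κ]; ring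
    rw [e, map_add, map_add, hsmul, hsmul,
      hJ0 _ (Ideal.mem_sup_right (Ideal.mul_mem_mul (hker r) (hker s))), zero_add]
  let g : R →+* DualNumber k :=
    { toFun := fun r => TrivSqZeroExt.inl (π r) + TrivSqZeroExt.inr (D r)
      map_one' := by ext <;> simp [D]
      map_mul' := fun r s => by
        ext
        · simp
        · simp [hD, TrivSqZeroExt.snd_mul]; ring
      map_zero' := by ext <;> simp [D]
      map_add' := fun r s => by
        ext
        · simp
        · simp [D, ← map_add, sub_add_sub_comm] }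
  have h1 := H g (fun r => by simp [g]) (fun c => by ext <;> simp [g, D, hπκ])
    (fun r => by
      have h0 : D (ψ r) = 0 := by
        refine hJ0 _ (Ideal.mem_sup_left ?_)
        rw [hπψ, ← hψκ, ← map_sub]
        exact Ideal.mem_map_of_mem _ (hker r)
      ext <;> simp [g, hπψ, h0]) x
  have h2 := congrArg TrivSqZeroExt.snd h1
  have hπx : π x = 0 := by
    by_contra hne
    have hu : IsUnit (κ (π x)) := (isUnit_iff_ne_zero.2 hne).map κ
    have : κ (π x) ∈ m := by
      have := sub_mem hx (hker x)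
      rwa [sub_sub_cancel] at this
    exact (IsLocalRing.mem_maximalIdeal _).1 this hu
  simp [g, D, hπx] at h2
  exact hlamx h2

variable {k : Type u} [Field k]

theorem exists_etale_nhd {G : Over (Spec (CommRingCat.of k))} [LocallyOfFiniteType G.hom]
    (e : 𝟙_ (Over (Spec (CommRingCat.of k))) ⟶ G) (u : G ⟶ G) (hu : e ≫ u = e)
    (h : ∀ v : _root_.LieS.dpt k (𝟙 (Spec (CommRingCat.of k))) ⟶ G,
      _root_.LieS.zeroSec k _ ≫ v = toUnit _ ≫ e → v ≫ u = toUnit _ ≫ e → v = toUnit _ ≫ e) :
    ∃ U : G.left.Opens, (∀ p, e.left p ∈ U) ∧ Etale (U.ι ≫ u.left) := by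
  haveI : IsLocallyNoetherian G.left := LocallyOfFiniteType.isLocallyNoetherian G.hom
  haveI : LocallyOfFiniteType (u.left ≫ G.hom) := by rw [Over.w]; infer_instance
  haveI : LocallyOfFiniteType u.left := locallyOfFiniteType_of_comp _ G.hom
  haveI := Groth.Agent.H34.EtaleAt.locallyOfFinitePresentation u.left
  let ε : Spec (CommRingCat.of k) ⟶ G.left := e.left
  have hεG : ε ≫ G.hom = 𝟙 _ := Over.w e
  let s : Spec (CommRingCat.of k) := IsLocalRing.closedPoint k
  let x := ε s
  have hux : u.left x = x := (Scheme.Hom.comp_apply _ _ _).symm.trans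
    (congrArg (fun q : 𝟙_ (Over (Spec (CommRingCat.of k))) ⟶ G => (q.left : Spec (CommRingCat.of k) ⟶ G.left) s) hu)
  let π : G.left.presheaf.stalk x ⟶ CommRingCat.of k := Scheme.stalkClosedPointTo ε
  have hπ : Spec.map π ≫ G.left.fromSpecStalk x = ε := Scheme.Spec_stalkClosedPointTo_fromSpecStalk ε
  let κ : CommRingCat.of k ⟶ G.left.presheaf.stalk x := Spec.preimage (G.left.fromSpecStalk x ≫ G.hom)
  have hκ : Spec.map κ = G.left.fromSpecStalk x ≫ G.hom := Spec.map_preimage _
  let c := G.left.presheaf.stalkCongr (.of_eq hux.symm)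
  let ψ : G.left.presheaf.stalk x ⟶ G.left.presheaf.stalk x := c.hom ≫ u.left.stalkMap x
  have hψ : Spec.map ψ ≫ G.left.fromSpecStalk x = G.left.fromSpecStalk x ≫ u.left := by
    have h0 : Spec.map c.hom ≫ G.left.fromSpecStalk x = G.left.fromSpecStalk (u.left x) :=
      Scheme.SpecMap_stalkSpecializes_fromSpecStalk (Inseparable.of_eq hux).specializes
    rw [Spec.map_comp, Category.assoc, h0, Scheme.SpecMap_stalkMap_fromSpecStalk]
  have hπψ : ψ ≫ π = π := Spec.map_injective (by
    rw [← cancel_mono (G.left.fromSpecStalk x), Spec.map_comp, Category.assoc, hψ, ← Category.assoc, hπ]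
    exact congrArg (fun q : 𝟙_ (Over (Spec (CommRingCat.of k))) ⟶ G => q.left) hu)
  have hπκ : κ ≫ π = 𝟙 _ := Spec.map_injective (by
    rw [Spec.map_comp, hκ, ← Category.assoc, hπ, hεG, Spec.map_id])
  have hψκ : κ ≫ ψ = κ := Spec.map_injective (by
    rw [Spec.map_comp, hκ, ← Category.assoc, hψ, Category.assoc, Over.w])
  have hm : IsLocalRing.maximalIdeal (G.left.presheaf.stalk x) ≤
      (IsLocalRing.maximalIdeal (G.left.presheaf.stalk x)).map ψ.hom := by
    refine maximalIdeal_le_map κ.hom π.hom (fun a => congr($hπκ a)) ψ.hom (fun r => congr($hπψ r))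
      (fun a => congr($hψκ a)) fun g hgπ hgκ hgψ r => ?_
    let g' : G.left.presheaf.stalk x ⟶ CommRingCat.of (DualNumber k) := CommRingCat.ofHom g
    let z : CommRingCat.of k ⟶ CommRingCat.of (DualNumber k) :=
      CommRingCat.ofHom (algebraMap k (DualNumber k))
    have hgκ' : κ ≫ g' = z := by
      refine CommRingCat.hom_ext (RingHom.ext fun a => ?_)
      exact (hgκ a).trans (TrivSqZeroExt.algebraMap_eq_inl' k k k a).symm
    have hw : (Spec.map g' ≫ G.left.fromSpecStalk x) ≫ G.hom =
        (_root_.LieS.dpt k (𝟙 (Spec (CommRingCat.of k)))).hom := by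
      rw [Category.assoc, ← hκ, ← Spec.map_comp, hgκ']
      exact (Category.comp_id _).symm
    let v : _root_.LieS.dpt k (𝟙 (Spec (CommRingCat.of k))) ⟶ G := Over.homMk _ hw
    have hz : ∀ T : Over (Spec (CommRingCat.of k)), (toUnit T ≫ e).left = T.hom ≫ ε := fun T => rfl
    have hunit : (toUnit (_root_.LieS.dpt k (𝟙 (Spec (CommRingCat.of k)))) ≫ e).left =
        Spec.map (π ≫ z) ≫ G.left.fromSpecStalk x := by
      rw [hz, Spec.map_comp, Category.assoc, hπ]
      show (_ ≫ 𝟙 _) ≫ ε = _
      rw [Category.comp_id]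
      rfl
    have hv := h v ?_ ?_
    · have h3 := congrArg Over.Hom.left hv
      rw [hunit] at h3
      have h4 := Spec.map_injective ((cancel_mono (G.left.fromSpecStalk x)).1 h3)
      exact (congr($h4 r)).trans (TrivSqZeroExt.algebraMap_eq_inl' k k k _)
    · ext1
      rw [Over.comp_left, hz]
      show Spec.map _ ≫ Spec.map g' ≫ _ = (𝟙 _) ≫ ε
      rw [Category.id_comp, ← Spec.map_comp_assoc, ← hπ]
      congr 2
      refine CommRingCat.hom_ext (RingHom.ext fun r => ?_)
      exact hgπ r
    · ext1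
      rw [hunit]
      show (Spec.map g' ≫ G.left.fromSpecStalk x) ≫ u.left = _
      rw [Category.assoc, ← hψ, ← Spec.map_comp_assoc]
      congr 2
      refine CommRingCat.hom_ext (RingHom.ext fun r => ?_)
      exact (hgψ r).trans (TrivSqZeroExt.algebraMap_eq_inl' k k k _).symm
  have hres : ∀ r, r - ψ r ∈ IsLocalRing.maximalIdeal (G.left.presheaf.stalk x) := fun r => by
    refine IsLocalRing.le_maximalIdeal (RingHom.ker_ne_top π.hom) ?_
    rw [RingHom.mem_ker, map_sub, sub_eq_zero]
    exact (congr($hπψ r)).symm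
  have hflat : ψ.hom.Flat := by
    refine EndFlat.flat_endo ψ.hom (le_antisymm ?_ hm) hres
    rw [Ideal.map_le_iff_le_comap]
    intro r hr
    have h1 := sub_mem hr (hres r)
    rwa [sub_sub_cancel] at h1
  refine Exists.imp (fun U hU => ⟨fun p => ?_, hU.2⟩)
    ((Groth.Agent.Lib.Unram.AtPrime.exists_etale_nhd_iff u.left x).2 ⟨?_, ?_⟩)
  · rw [Subsingleton.elim (α := Spec (CommRingCat.of k)) p s]
    exact hU.1
  · have hd : u.left.stalkMap x = c.inv ≫ ψ := (Iso.inv_hom_id_assoc c _).symm
    rw [hd, CommRingCat.hom_comp]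
    exact RingHom.Flat.comp (RingHom.Flat.of_bijective (ConcreteCategory.bijective_of_isIso c.inv)) hflat
  · algebraize [(u.left.stalkMap x).hom]
    haveI : IsLocalHom (algebraMap (G.left.presheaf.stalk (u.left x)) (G.left.presheaf.stalk x)) :=
      inferInstanceAs (IsLocalHom (u.left.stalkMap x).hom)
    haveI : Algebra.EssFiniteType (G.left.presheaf.stalk (u.left x)) (G.left.presheaf.stalk x) := by
      rw [← RingHom.essFiniteType_algebraMap, RingHom.algebraMap_toAlgebra]
      exact LocallyOfFiniteType.stalkMap u.left x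
    haveI : Algebra.IsSeparable (IsLocalRing.ResidueField (G.left.presheaf.stalk (u.left x)))
        (IsLocalRing.ResidueField (G.left.presheaf.stalk x)) := by
      refine ⟨fun a => ?_⟩
      obtain ⟨r, rfl⟩ := IsLocalRing.residue_surjective a
      have : IsLocalRing.residue (G.left.presheaf.stalk x) r =
          algebraMap (IsLocalRing.ResidueField (G.left.presheaf.stalk (u.left x)))
            (IsLocalRing.ResidueField (G.left.presheaf.stalk x))
            (IsLocalRing.residue _ (c.hom r)) := by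
        refine (Ideal.Quotient.mk_eq_mk_iff_sub_mem r (ψ r)).2 (hres r)
      rw [this]
      exact isSeparable_algebraMap _
    refine RingHom.formallyUnramified_algebraMap.2 (Algebra.FormallyUnramified.of_map_maximalIdeal ?_)
    refine le_antisymm (IsLocalRing.map_maximalIdeal_le _) (hm.trans ?_)
    rw [CommRingCat.hom_comp, ← Ideal.map_map]
    refine Ideal.map_mono ?_
    exact IsLocalRing.map_maximalIdeal_le _

end Groth.Agent.H4.EtaleAtPoint
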