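import Groth.Agent.Lib.GrpSch.Translate
import Groth.Agent.Lib.LocalFlat.Criterion
import Mathlib.AlgebraicGeometry.Morphisms.FormallyUnramified
import Mathlib.AlgebraicGeometry.Morphisms.Etale
import Mathlib.RingTheory.Flat.Localization
import Mathlib.RingTheory.Unramified.LocalRing
import Mathlib.LinearAlgebra.TensorProduct.Quotient

/-! A formally unramified endomorphism of a group scheme locally of finite type over an algebraically
closed field is flat, hence etale: at the unit the induced endomorphism of the local ring is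
bijective modulo every power of the maximal ideal. -/

set_option autoImplicit false

universe u

open CategoryTheory MonoidalCategory CartesianMonoidalCategory MonObj AlgebraicGeometry TensorProduct

namespace Groth.Agent.H4.EndFlat

section Algebra

variable {R : Type u} [CommRing R]

/-- A surjective endomorphism of a Noetherian ring is injective. -/
theorem injective_of_surjective [IsNoetherianRing R] (ψ : R →+* R) (h : Function.Surjective ψ) :
    Function.Injective ψ := by
  let K : ℕ → R →+* R := fun n => ψ ^ n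
  have hmono : Monotone fun n => RingHom.ker (K n) := monotone_nat_of_le_succ fun n x hx => by
    simp only [K, RingHom.mem_ker, pow_succ', RingHom.mul_def, RingHom.comp_apply] at hx ⊢
    rw [hx, map_zero]
  obtain ⟨N, hN⟩ := monotone_stabilizes_iff_noetherian.mpr (inferInstance : IsNoetherian R R)
    ⟨fun n => RingHom.ker (K n), hmono⟩
  rw [injective_iff_map_eq_zero]
  intro x hx
  have hs : Function.Surjective (K N) := by
    simp only [K, RingHom.coe_pow]
    exact h.iterate N
  obtain ⟨y, rfl⟩ := hs x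
  have hy : y ∈ RingHom.ker (K (N + 1)) := by
    simp only [K, RingHom.mem_ker, pow_succ', RingHom.mul_def, RingHom.comp_apply]
    exact hx
  have hy' : RingHom.ker (K N) = RingHom.ker (K (N + 1)) := hN (N + 1) (Nat.le_succ N)
  exact RingHom.mem_ker.1 (hy' ▸ hy)

theorem exists_sub_mem_pow {S : Type u} [CommRing S] (ψ : R →+* S) {m : Ideal R} {n : Ideal S}
    (hm : m.map ψ = n) (h1 : ∀ s : S, ∃ r, s - ψ r ∈ n) (j : ℕ) (s : S) :
    ∃ r, s - ψ r ∈ n ^ j := by
  induction j with
  | zero => exact ⟨0, by simp⟩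
  | succ j ih =>
    obtain ⟨r, hr⟩ := ih
    suffices key : ∀ x ∈ n ^ j, ∃ a, x - ψ a ∈ n ^ (j + 1) by
      obtain ⟨a, ha⟩ := key _ hr
      exact ⟨r + a, by rwa [map_add, ← sub_sub]⟩
    intro x hx
    rw [← hm, ← Ideal.map_pow, Ideal.map, Ideal.span] at hx
    induction hx using Submodule.span_induction with
    | mem y hy => obtain ⟨a, -, rfl⟩ := hy; exact ⟨a, by simp⟩
    | zero => exact ⟨0, by simp⟩
    | add y z _ _ hy hz =>
      obtain ⟨a, ha⟩ := hy
      obtain ⟨b, hb⟩ := hz
      exact ⟨a + b, by rw [map_add, add_sub_add_comm]; exact add_mem ha hb⟩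
    | smul c y hy' hyi =>
      have hyn : y ∈ n ^ j := by rw [← hm, ← Ideal.map_pow]; exact hy'
      obtain ⟨a, ha⟩ := hyi
      obtain ⟨d, hd⟩ := h1 c
      refine ⟨d * a, ?_⟩
      rw [smul_eq_mul, map_mul,
        show c * y - ψ d * ψ a = (c - ψ d) * y + ψ d * (y - ψ a) by ring]
      refine add_mem ?_ (Ideal.mul_mem_left _ _ ha)
      rw [pow_succ, mul_comm (n ^ j)]
      exact Ideal.mul_mem_mul hd hyn

/-- Flatness of an unramified endomorphism with trivial residue extension. -/
theorem flat_endo [IsNoetherianRing R] [IsLocalRing R] (ψ : R →+* R)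
    (hm : (IsLocalRing.maximalIdeal R).map ψ = IsLocalRing.maximalIdeal R)
    (h1 : ∀ r : R, r - ψ r ∈ IsLocalRing.maximalIdeal R) : ψ.Flat := by
  set m := IsLocalRing.maximalIdeal R
  have hbij : ∀ j : ℕ, (∀ s : R, ∃ r, s - ψ r ∈ m ^ j) ∧ ∀ r : R, ψ r ∈ m ^ j → r ∈ m ^ j := by
    intro j
    have hs := exists_sub_mem_pow ψ hm (fun s => ⟨s, h1 s⟩) j
    refine ⟨hs, fun r hr => ?_⟩
    have hle : m ^ j ≤ (m ^ j).comap ψ := by
      rw [← Ideal.map_le_iff_le_comap, Ideal.map_pow, hm]
    let q : R ⧸ m ^ j →+* R ⧸ m ^ j := Ideal.quotientMap (m ^ j) ψ hle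
    have hq : Function.Surjective q := by
      intro s
      obtain ⟨s, rfl⟩ := Ideal.Quotient.mk_surjective s
      obtain ⟨a, ha⟩ := hs s
      exact ⟨Ideal.Quotient.mk _ a, (Ideal.Quotient.mk_eq_mk_iff_sub_mem _ _).2
        (by rw [← neg_sub]; exact neg_mem ha)⟩
    refine Ideal.Quotient.eq_zero_iff_mem.1 (injective_of_surjective q hq ?_)
    rw [map_zero]
    exact Ideal.Quotient.eq_zero_iff_mem.2 hr
  exact flat_aux ψ m hm (fun j => (hbij j).1) (fun j => (hbij j).2)
where
  flat_aux {R S : Type u} [CommRing R] [CommRing S] [IsNoetherianRing R] [IsNoetherianRing S]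
      [IsLocalRing S] (ψ : R →+* S) (m : Ideal R) (hm : m.map ψ = IsLocalRing.maximalIdeal S)
      (hs : ∀ (j : ℕ) (s : S), ∃ r, s - ψ r ∈ IsLocalRing.maximalIdeal S ^ j)
      (hi : ∀ (j : ℕ) (r : R), ψ r ∈ IsLocalRing.maximalIdeal S ^ j → r ∈ m ^ j) : ψ.Flat := by
    algebraize [ψ]
    show Module.Flat R S
    refine Groth.Agent.Lib.LocalFlat.Criterion.flat_of_flat_quotient_pow S m
      (by rw [IsLocalRing.jacobson_eq_maximalIdeal ⊥ bot_ne_top]; exact hm.le) fun j => ?_
    let e := TensorProduct.quotTensorEquivQuotSMul S (m ^ j)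
    let L : R ⧸ m ^ j →ₗ[R ⧸ m ^ j] (R ⧸ m ^ j) ⊗[R] S :=
      LinearMap.toSpanSingleton (R ⧸ m ^ j) _ ((1 : R ⧸ m ^ j) ⊗ₜ[R] (1 : S))
    have hL : ∀ r : R, L (Ideal.Quotient.mk _ r) = (1 : R ⧸ m ^ j) ⊗ₜ[R] ψ r := by
      intro r
      show (Ideal.Quotient.mk (m ^ j) r) • ((1 : R ⧸ m ^ j) ⊗ₜ[R] (1 : S)) = _
      rw [TensorProduct.smul_tmul', smul_eq_mul, _root_.mul_one,
        show Ideal.Quotient.mk (m ^ j) r = r • (1 : R ⧸ m ^ j) by
          rw [Algebra.smul_def, _root_.mul_one]; rfl,
        TensorProduct.smul_tmul, Algebra.smul_def, _root_.mul_one]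
      rfl
    have hmem : ∀ x : S, (x ∈ (m ^ j • ⊤ : Submodule R S)) ↔ x ∈ IsLocalRing.maximalIdeal S ^ j := by
      intro x
      rw [Ideal.smul_top_eq_map, ← hm, ← Ideal.map_pow]
      rfl
    refine Module.Flat.of_linearEquiv (LinearEquiv.ofBijective L ⟨?_, ?_⟩).symm
    · rw [injective_iff_map_eq_zero]
      intro r hr
      obtain ⟨r, rfl⟩ := Ideal.Quotient.mk_surjective r
      have h2 := congrArg e ((hL r).symm.trans hr)
      rw [map_zero, TensorProduct.quotTensorEquivQuotSMul_mk_one_tmul, Submodule.Quotient.mk_eq_zero,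
        hmem] at h2
      exact Ideal.Quotient.eq_zero_iff_mem.2 (hi j r h2)
    · intro z
      obtain ⟨x, hx⟩ := Submodule.Quotient.mk_surjective _ (e z)
      obtain ⟨r, hr⟩ := hs j x
      refine ⟨Ideal.Quotient.mk _ r, e.injective ?_⟩
      rw [hL, TensorProduct.quotTensorEquivQuotSMul_mk_one_tmul, ← hx, Submodule.Quotient.eq, hmem]
      rw [← neg_sub]
      exact neg_mem hr

end Algebra

/-- Flatness may be checked at closed points of a Jacobson scheme. -/
theorem flat_of_closedPoints {X Y : Scheme.{u}} (f : X ⟶ Y) [JacobsonSpace X]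
    (h : ∀ x : X, IsClosed ({x} : Set X) → (f.stalkMap x).hom.Flat) : Flat f := by
  refine ⟨fun {U} hU {V} hV e => ?_⟩
  algebraize [(f.appLE U V e).hom]
  show Module.Flat Γ(Y, U) Γ(X, V)
  refine Module.flat_of_isLocalized_maximal (R := Γ(Y, U)) Γ(X, V) Γ(X, V)
    (fun P _ => LocalizedModule P.primeCompl Γ(X, V)) (fun P _ => LocalizedModule.mkLinearMap _ _)
    fun P hP => ?_
  let y : ↥(Spec Γ(X, V)) := ⟨P, hP.isPrime⟩
  have hxV : hV.fromSpec y ∈ V := hV.fromSpec_preimage_self.ge (TopologicalSpace.Opens.mem_top y)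
  have hy : IsClosed ({y} : Set ↥(Spec Γ(X, V))) :=
    (PrimeSpectrum.isClosed_singleton_iff_isMaximal y).2 hP
  have hx : IsClosed ({hV.fromSpec y} : Set X) := by
    apply isClosed_singleton_of_isLocallyClosed_singleton
    have h' := hy.isLocallyClosed.image hV.fromSpec.isOpenEmbedding.isInducing
      hV.fromSpec.isOpenEmbedding.isOpen_range.isLocallyClosed
    rw [Set.image_singleton] at h'
    exact h'
  have hfx : f (hV.fromSpec y) ∈ U := e hxV
  have hflat : ((f.stalkMap (hV.fromSpec y)).hom.comp (Y.presheaf.germ U _ hfx).hom).Flat := by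
    refine RingHom.Flat.comp ?_ (h _ hx)
    letI := TopCat.Presheaf.algebra_section_stalk Y.presheaf (⟨_, hfx⟩ : U)
    haveI := hU.isLocalization_stalk ⟨_, hfx⟩
    have := IsLocalization.flat (Y.presheaf.stalk (f (hV.fromSpec y)))
      (hU.primeIdealOf ⟨_, hfx⟩).asIdeal.primeCompl
    exact this
  have hcomp : (f.stalkMap (hV.fromSpec y)).hom.comp (Y.presheaf.germ U _ hfx).hom =
      (X.presheaf.germ V _ hxV).hom.comp (f.appLE U V e).hom := by
    rw [← CommRingCat.hom_comp, ← CommRingCat.hom_comp, Scheme.Hom.germ_stalkMap]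
    congr 1
    rw [Scheme.Hom.appLE, Category.assoc, TopCat.Presheaf.germ_res]
  rw [hcomp] at hflat
  letI := TopCat.Presheaf.algebra_section_stalk X.presheaf (⟨_, hxV⟩ : V)
  haveI hloc : IsLocalization.AtPrime (X.presheaf.stalk (hV.fromSpec y)) P :=
    hV.isLocalization_stalk' y hxV
  letI : Algebra Γ(Y, U) (X.presheaf.stalk (hV.fromSpec y)) :=
    ((X.presheaf.germ V _ hxV).hom.comp (f.appLE U V e).hom).toAlgebra
  haveI : IsScalarTower Γ(Y, U) Γ(X, V) (X.presheaf.stalk (hV.fromSpec y)) :=
    IsScalarTower.of_algebraMap_eq fun _ => rfl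
  haveI : Module.Flat Γ(Y, U) (X.presheaf.stalk (hV.fromSpec y)) := hflat
  exact Module.Flat.of_linearEquiv
    (((IsLocalizedModule.iso P.primeCompl (Algebra.linearMap Γ(X, V)
      (X.presheaf.stalk (hV.fromSpec y)))).restrictScalars Γ(Y, U)))

section Group

theorem flat_comp_of_isIso_left {A B C : CommRingCat.{u}} (a : A ⟶ B) (b : B ⟶ C) [IsIso a]
    (h : b.hom.Flat) : (a ≫ b).hom.Flat :=
  RingHom.Flat.comp (RingHom.Flat.of_bijective (ConcreteCategory.bijective_of_isIso a)) h

theorem flat_of_comp_isIso_right {A B C : CommRingCat.{u}} (a : A ⟶ B) (b : B ⟶ C) [IsIso b]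
    (h : (a ≫ b).hom.Flat) : a.hom.Flat := by
  have h2 := RingHom.Flat.comp h (RingHom.Flat.of_bijective (ConcreteCategory.bijective_of_isIso (inv b)))
  rwa [← CommRingCat.hom_comp, Category.assoc, IsIso.hom_inv_id, Category.comp_id] at h2

variable {k : Type u} [Field k] [IsAlgClosed k] {G : Over (Spec (CommRingCat.of k))} [GrpObj G]

theorem flat_stalk_unit [LocallyOfFiniteType G.hom] (f : G ⟶ G) [IsMonHom f] [FormallyUnramified f.left]
    (s : (𝟙_ (Over (Spec (CommRingCat.of k)))).left) :
    (f.left.stalkMap (η[G].left s)).hom.Flat := by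
  have hε : η[G].left ≫ f.left = η[G].left := by rw [← Over.comp_left, IsMonHom.one_hom f]
  set e := η[G].left s with he
  have hfe : f.left e = e := (Scheme.Hom.comp_apply _ _ _).symm.trans (congr($hε s))
  let c := G.left.presheaf.stalkCongr (.of_eq hfe.symm)
  haveI : IsLocallyNoetherian G.left := LocallyOfFiniteType.isLocallyNoetherian G.hom
  haveI : LocallyOfFiniteType (f.left ≫ G.hom) := by rw [Over.w]; infer_instance
  haveI : LocallyOfFiniteType f.left := locallyOfFiniteType_of_comp _ G.hom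
  let ψ : G.left.presheaf.stalk e ⟶ G.left.presheaf.stalk e := c.hom ≫ f.left.stalkMap e
  suffices hψ : ψ.hom.Flat by
    have hdec : f.left.stalkMap e = c.inv ≫ ψ := (Iso.inv_hom_id_assoc c _).symm
    rw [hdec, CommRingCat.hom_comp]
    exact RingHom.Flat.comp (RingHom.Flat.of_bijective (ConcreteCategory.bijective_of_isIso c.inv)) hψ
  have hm : (IsLocalRing.maximalIdeal (G.left.presheaf.stalk e)).map ψ.hom =
      IsLocalRing.maximalIdeal (G.left.presheaf.stalk e) := by
    have h1 : (IsLocalRing.maximalIdeal (G.left.presheaf.stalk (f.left e))).map (f.left.stalkMap e).hom =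
        IsLocalRing.maximalIdeal (G.left.presheaf.stalk e) := by
      algebraize [(f.left.stalkMap e).hom]
      haveI : Algebra.EssFiniteType (G.left.presheaf.stalk (f.left e)) (G.left.presheaf.stalk e) := by
        rw [← RingHom.essFiniteType_algebraMap, RingHom.algebraMap_toAlgebra]
        exact LocallyOfFiniteType.stalkMap f.left e
      haveI : Algebra.FormallyUnramified (G.left.presheaf.stalk (f.left e)) (G.left.presheaf.stalk e) := by
        rw [← RingHom.formallyUnramified_algebraMap, RingHom.algebraMap_toAlgebra]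
        exact FormallyUnramified.stalkMap f.left e
      haveI : IsLocalHom (algebraMap (G.left.presheaf.stalk (f.left e)) (G.left.presheaf.stalk e)) :=
        inferInstanceAs (IsLocalHom (f.left.stalkMap e).hom)
      exact Algebra.FormallyUnramified.map_maximalIdeal
    have h2 : (IsLocalRing.maximalIdeal (G.left.presheaf.stalk e)).map c.hom.hom =
        IsLocalRing.maximalIdeal (G.left.presheaf.stalk (f.left e)) :=
      IsLocalRing.map_maximalIdeal_of_surjective _ (ConcreteCategory.bijective_of_isIso c.hom).2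
    rw [CommRingCat.hom_comp, ← Ideal.map_map, h2, h1]
  have hπ : ψ ≫ η[G].left.stalkMap s = η[G].left.stalkMap s := by
    have h3 := Scheme.Hom.stalkMap_congr_hom _ _ hε s
    rw [Scheme.Hom.stalkMap_comp] at h3
    show c.hom ≫ f.left.stalkMap e ≫ η[G].left.stalkMap s = _
    refine (congrArg (c.hom ≫ ·) h3).trans ?_
    refine (Category.assoc _ _ _).symm.trans ?_
    convert Category.id_comp _
    exact c.hom_inv_id
  haveI : IsClosedImmersion η[G].left :=
    isClosedImmersion_of_comp_eq_id (Y := Spec (CommRingCat.of k)) G.hom η[G].left (Over.w η[G])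
  refine flat_endo ψ.hom hm fun r => ?_
  have hker : RingHom.ker (η[G].left.stalkMap s).hom ≤
      IsLocalRing.maximalIdeal (G.left.presheaf.stalk e) :=
    IsLocalRing.le_maximalIdeal (RingHom.ker_ne_top _)
  refine hker ?_
  rw [RingHom.mem_ker, map_sub, sub_eq_zero]
  exact (congr($hπ r)).symm

theorem flat_endomorphism [LocallyOfFiniteType G.hom] (f : G ⟶ G) [IsMonHom f]
    [FormallyUnramified f.left] : Flat f.left := by
  haveI : JacobsonSpace G.left := LocallyOfFiniteType.jacobsonSpace G.hom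
  refine flat_of_closedPoints _ fun x hx => ?_
  obtain ⟨s⟩ : Nonempty ↥(Spec (CommRingCat.of k)) := inferInstance
  let g : 𝟙_ (Over (Spec (CommRingCat.of k))) ⟶ G :=
    Over.homMk (pointOfClosedPoint G.hom x hx) (pointOfClosedPoint_comp G.hom x hx)
  let t := (Lib.GrpSch.translate (Lib.GrpSch.regularAction G) g).hom.left
  let t' := (Lib.GrpSch.translate (Lib.GrpSch.regularAction G) (g ≫ f)).hom.left
  have hw : t ≫ f.left = f.left ≫ t' := (Lib.GrpSch.forall_translate_isPullback f g).w
  haveI : IsIso t := ((Over.forget _).mapIso (Lib.GrpSch.translate _ g)).isIso_hom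
  haveI : IsIso t' := ((Over.forget _).mapIso (Lib.GrpSch.translate _ (g ≫ f))).isIso_hom
  have hte : t (η[G].left s) = x := by
    have h3 : η[G] ≫ (Lib.GrpSch.translate (Lib.GrpSch.regularAction G) g).hom = g := by
      rw [Lib.GrpSch.translate_regular_apply]
      conv_lhs => rw [MonObj.one_eq_one (M := G)]
      exact _root_.mul_one g
    refine (Scheme.Hom.comp_apply _ _ _).symm.trans
      ((congrArg (fun q : 𝟙_ (Over (Spec (CommRingCat.of k))) ⟶ G => q.left s) h3).trans ?_)
    exact pointOfClosedPoint_apply G.hom x hx s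
  have h6 : ((f.left ≫ t').stalkMap (η[G].left s)).hom.Flat := by
    rw [Scheme.Hom.stalkMap_comp]
    exact flat_comp_of_isIso_left (t'.stalkMap _) _ (flat_stalk_unit f s)
  have h4 : ((t ≫ f.left).stalkMap (η[G].left s)).hom.Flat := by
    rw [Scheme.Hom.stalkMap_congr_hom _ _ hw]
    exact flat_comp_of_isIso_left _ _ h6
  rw [Scheme.Hom.stalkMap_comp] at h4
  have h5 : (f.left.stalkMap (t (η[G].left s))).hom.Flat :=
    flat_of_comp_isIso_right _ _ h4
  exact hte ▸ h5

theorem etale_endomorphism [LocallyOfFiniteType G.hom] (f : G ⟶ G) [IsMonHom f]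
    [FormallyUnramified f.left] : Etale f.left := by
  haveI : IsLocallyNoetherian G.left := LocallyOfFiniteType.isLocallyNoetherian G.hom
  haveI : LocallyOfFiniteType (f.left ≫ G.hom) := by rw [Over.w]; infer_instance
  haveI : LocallyOfFiniteType f.left := locallyOfFiniteType_of_comp _ G.hom
  haveI := flat_endomorphism f
  exact Etale.of_formallyUnramified_of_flat _

end Group

end Groth.Agent.H4.EndFlat
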