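import Mathlib.FieldTheory.Perfect
import Mathlib.RingTheory.UniqueFactorizationDomain.NormalizedFactors
import Mathlib.RingTheory.Polynomial.Basic

namespace Groth.Agent.H4.FactorPairing

open Polynomial UniqueFactorizationMonoid
open scoped Classical

variable {K L : Type*} [Field K] [Field L]

/-- The pairing of two multisets of polynomials: common elements weighted by degree. -/
noncomputable def pairing (s t : Multiset K[X]) : ℕ :=
  (s.map fun P => t.count P * P.natDegree).sum

theorem pairing_eq_sum (s t : Multiset K[X]) :
    pairing s t = ∑ P ∈ s.toFinset, s.count P * t.count P * P.natDegree := by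
  rw [pairing, Finset.sum_multiset_map_count]
  simp [mul_assoc]

theorem pairing_singleton (t : Multiset K[X]) (P : K[X]) :
    pairing {P} t = t.count P * P.natDegree := by simp [pairing]

theorem pairing_bind_left {ι : Type*} (m : Multiset ι) (f : ι → Multiset K[X]) (t : Multiset K[X]) :
    pairing (m.bind f) t = (m.map fun i => pairing (f i) t).sum := by
  simp [pairing, Multiset.map_bind, Multiset.sum_bind]

theorem pairing_bind_right {ι : Type*} (m : Multiset ι) (f : ι → Multiset K[X]) (s : Multiset K[X]) :
    pairing s (m.bind f) = (m.map fun i => pairing s (f i)).sum := by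
  induction m using Multiset.induction_on with
  | empty => simp [pairing]
  | cons a m ih =>
    rw [Multiset.cons_bind, Multiset.map_cons, Multiset.sum_cons, ← ih]
    simp only [pairing, Multiset.count_add, add_mul, Multiset.sum_map_add]

theorem factors_map_bind [Algebra K L] (s : Multiset K[X]) (hs : ∀ P ∈ s, P ≠ 0) :
    normalizedFactors (s.prod.map (algebraMap K L)) =
      s.bind fun P => normalizedFactors (P.map (algebraMap K L)) := by
  induction s using Multiset.induction_on with
  | empty => simp
  | cons a s ih =>
    have ha : a ≠ 0 := hs a (Multiset.mem_cons_self a s)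
    have hs' : ∀ P ∈ s, P ≠ 0 := fun P hP => hs P (Multiset.mem_cons_of_mem hP)
    rw [Multiset.prod_cons, Multiset.cons_bind, Polynomial.map_mul,
      normalizedFactors_mul (map_ne_zero ha) (map_ne_zero (Multiset.prod_ne_zero fun h => hs' 0 h rfl)),
      ih hs']

theorem factors_map [Algebra K L] (f : K[X]) (hf : f ≠ 0) :
    normalizedFactors (f.map (algebraMap K L)) =
      (normalizedFactors f).bind fun P => normalizedFactors (P.map (algebraMap K L)) := by
  rw [← factors_map_bind _ fun P hP => (irreducible_of_normalized_factor P hP).ne_zero]
  obtain ⟨u, hu⟩ := (prod_normalizedFactors hf)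
  obtain ⟨c, hc, hcu⟩ := Polynomial.isUnit_iff.1 u.isUnit
  conv_lhs => rw [← hu]
  refine (associated_iff_normalizedFactors_eq_normalizedFactors ?_ ?_).1 ?_
  · rw [hu]; exact map_ne_zero hf
  · exact map_ne_zero (Multiset.prod_ne_zero fun h => (irreducible_of_normalized_factor 0 h).ne_zero rfl)
  · rw [Polynomial.map_mul]
    exact associated_mul_unit_left _ _ (u.isUnit.map (mapRingHom (algebraMap K L)))

theorem pairing_irreducible [Algebra K L] [PerfectField K] (P Q : K[X]) (hP : Irreducible P)
    (hQ : Irreducible Q) (hPm : P.Monic) (hQm : Q.Monic) :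
    pairing (normalizedFactors (P.map (algebraMap K L))) (normalizedFactors (Q.map (algebraMap K L))) =
      if P = Q then P.natDegree else 0 := by
  set s := normalizedFactors (P.map (algebraMap K L)) with hs
  split_ifs with h
  · subst h
    have hnd : s.Nodup := (squarefree_iff_nodup_normalizedFactors (map_ne_zero hP.ne_zero)).1
      ((PerfectField.separable_of_irreducible hP).map).squarefree
    have hprod : s.prod.natDegree = P.natDegree := by
      rw [Polynomial.natDegree_eq_of_degree_eq (degree_eq_degree_of_associated
        (prod_normalizedFactors (map_ne_zero hP.ne_zero))), natDegree_map]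
    rw [natDegree_multiset_prod _ (fun h => (irreducible_of_normalized_factor 0 h).ne_zero rfl)] at hprod
    rw [← hprod, pairing]
    congr 1
    refine Multiset.map_congr rfl fun R hR => ?_
    rw [Multiset.count_eq_one_of_mem hnd hR, one_mul]
  · have hcop : IsCoprime (P.map (algebraMap K L)) (Q.map (algebraMap K L)) := by
      refine IsCoprime.map ?_ (mapRingHom (algebraMap K L))
      exact hP.coprime_iff_not_dvd.2 fun hd =>
        h (eq_of_monic_of_associated hPm hQm (hP.associated_of_dvd hQ hd))
    rw [pairing]
    refine Multiset.sum_eq_zero fun n hn => ?_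
    obtain ⟨R, hR, rfl⟩ := Multiset.mem_map.1 hn
    have hR' := irreducible_of_normalized_factor R hR
    have : R ∉ normalizedFactors (Q.map (algebraMap K L)) := fun hR2 =>
      hR'.not_isUnit (hcop.isUnit_of_dvd' (dvd_of_mem_normalizedFactors hR) (dvd_of_mem_normalizedFactors hR2))
    rw [Multiset.count_eq_zero.2 this, zero_mul]

theorem pairing_map [Algebra K L] [PerfectField K] (f₁ f₂ : K[X]) (h₁ : f₁ ≠ 0) (h₂ : f₂ ≠ 0) :
    pairing (normalizedFactors (f₁.map (algebraMap K L))) (normalizedFactors (f₂.map (algebraMap K L))) =
      pairing (normalizedFactors f₁) (normalizedFactors f₂) := by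
  rw [factors_map f₁ h₁, factors_map f₂ h₂, pairing_bind_left]
  conv_rhs => rw [pairing]
  congr 1
  refine Multiset.map_congr rfl fun P hP => ?_
  rw [pairing_bind_right]
  have hm : ∀ Q : K[X], ∀ {f : K[X]}, Q ∈ normalizedFactors f → Q.Monic := fun Q f hQ => by
    rw [← normalize_normalized_factor Q hQ]
    exact monic_normalize (irreducible_of_normalized_factor Q hQ).ne_zero
  rw [Multiset.map_congr rfl (fun Q hQ => pairing_irreducible P Q (irreducible_of_normalized_factor P hP)
    (irreducible_of_normalized_factor Q hQ) (hm P hP) (hm Q hQ))]
  induction normalizedFactors f₂ using Multiset.induction_on with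
  | empty => simp
  | cons a s ih =>
    rw [Multiset.map_cons, Multiset.sum_cons, ih, Multiset.count_cons]
    split_ifs with h <;> ring

end Groth.Agent.H4.FactorPairing
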