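import Mathlib.RingTheory.Flat.Tensor
import Mathlib.RingTheory.Nakayama
import Mathlib.RingTheory.TensorProduct.Finite
import Mathlib.LinearAlgebra.TensorProduct.RightExactness
import Mathlib.RingTheory.LocalRing.MaximalIdeal.Basic
import Mathlib.RingTheory.Noetherian.Basic
import Mathlib.Algebra.Regular.SMul

/-! Flatness of a local ring from flatness of the quotient by a regular element. -/

set_option autoImplicit false

universe u

open TensorProduct

namespace Groth.Agent.H4.FlatCartier

theorem flat_of_flat_quotient_span {A B : Type u} [CommRing A] [CommRing B] [Algebra A B]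
    [IsNoetherianRing B] [IsLocalRing B] (f : B) (hf : f ∈ IsLocalRing.maximalIdeal B)
    (hreg : f ∈ nonZeroDivisors B) [Module.Flat A (B ⧸ Ideal.span {f})] : Module.Flat A B := by
  rw [Module.Flat.iff_lTensor_injective]
  intro I hI
  haveI : Module.Finite A I := Module.Finite.iff_fg.mpr hI
  let φ : B ⊗[A] I →ₗ[B] B ⊗[A] A := (Submodule.subtype I).baseChange B
  haveI : IsNoetherian B (B ⊗[A] I) := isNoetherian_of_isNoetherianRing_of_finite _ _
  have hK : LinearMap.ker φ ≤ Ideal.span {f} • LinearMap.ker φ := by
    intro x hx
    let q : B →ₗ[A] B ⧸ Ideal.span {f} := (Ideal.Quotient.mkₐ A (Ideal.span {f})).toLinearMap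
    let m : B →ₗ[A] B := LinearMap.mulLeft A f
    have hex : Function.Exact m q := fun y => by
      refine (Ideal.Quotient.eq_zero_iff_mem (I := Ideal.span {f})).trans ?_
      rw [Ideal.mem_span_singleton', Set.mem_range]
      exact exists_congr fun c => by rw [mul_comm]; rfl
    have h0 : LinearMap.lTensor (B ⧸ Ideal.span {f}) (Submodule.subtype I) (q.rTensor I x) = 0 := by
      rw [← LinearMap.comp_apply, LinearMap.lTensor_comp_rTensor, ← LinearMap.rTensor_comp_lTensor,
        LinearMap.comp_apply, show (Submodule.subtype I).lTensor B x = φ x from rfl,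
        LinearMap.mem_ker.mp hx, map_zero]
    have h1 : q.rTensor I x = 0 :=
      Module.Flat.lTensor_preserves_injective_linearMap (M := B ⧸ Ideal.span {f}) (Submodule.subtype I)
        Subtype.val_injective (by rw [h0, map_zero])
    obtain ⟨y, hy⟩ := (rTensor_exact I hex Ideal.Quotient.mk_surjective x).mp h1
    have hy' : f • y = x := by
      rw [← hy]
      clear hy
      induction y using TensorProduct.induction_on with
      | zero => simp
      | tmul b i => rfl
      | add u v hu hv => rw [smul_add, map_add, hu, hv]
    rw [← hy']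
    refine Submodule.smul_mem_smul (Ideal.mem_span_singleton_self f) ?_
    rw [LinearMap.mem_ker] at hx ⊢
    rw [← hy', map_smul] at hx
    let e : B ⊗[A] A ≃ₗ[B] B := AlgebraTensorModule.rid A B B
    have := congrArg e hx
    rw [map_smul, map_zero, smul_eq_mul] at this
    exact e.map_eq_zero_iff.mp ((mul_left_mem_nonZeroDivisors_eq_zero_iff hreg).mp this)
  have hbot : LinearMap.ker φ = ⊥ :=
    Submodule.eq_bot_of_le_smul_of_le_jacobson_bot (Ideal.span {f}) _ (IsNoetherian.noetherian _) hK
      (((Ideal.span_singleton_le_iff_mem _).mpr hf).trans (IsLocalRing.jacobson_eq_maximalIdeal ⊥ bot_ne_top).ge)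
  exact fun a b h => LinearMap.ker_eq_bot.mp hbot h

end Groth.Agent.H4.FlatCartier
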