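import Mathlib.FieldTheory.Relrank
import Mathlib.FieldTheory.IntermediateField.Adjoin.Basic
import Mathlib.FieldTheory.Perfect
import Mathlib.Algebra.CharP.Algebra
import Mathlib.RingTheory.AlgebraicIndependent.TranscendenceBasis
import Mathlib.Algebra.MvPolynomial.Expand

/-! Degree of a function field over the image of an iterate of Frobenius. -/

namespace Groth.Agent.H4.FrobDegree

open MvPolynomial

variable {k K : Type*} [Field k] [Field K] [Algebra k K] {r : ℕ} (s : Fin r → K) (q : ℕ)

/-- The monomials with exponents below `q`. -/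
noncomputable def mono (a : Fin r → Fin q) : K := ∏ i, s i ^ (a i : ℕ)

theorem residue_inj (hq : 0 < q) (a b : Fin r → Fin q) (m m' : Fin r →₀ ℕ)
    (h : ∀ i, q * m i + (a i : ℕ) = q * m' i + (b i : ℕ)) : a = b ∧ m = m' := by
  have key : ∀ i, (a i : ℕ) = b i ∧ m i = m' i := fun i => by
    have h1 := congrArg (· % q) (h i)
    simp only [Nat.mul_add_mod, Nat.mod_eq_of_lt (a i).2, Nat.mod_eq_of_lt (b i).2] at h1
    have h2 := h i
    rw [h1] at h2
    exact ⟨h1, Nat.eq_of_mul_eq_mul_left hq (Nat.add_right_cancel h2)⟩
  exact ⟨funext fun i => Fin.ext (key i).1, Finsupp.ext fun i => (key i).2⟩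

theorem li_poly (hs : AlgebraicIndependent k s) (hq : 0 < q) (c : (Fin r → Fin q) → MvPolynomial (Fin r) k)
    (h : ∑ a, aeval (fun i => s i ^ q) (c a) * mono s q a = 0) : ∀ a, c a = 0 := by
  classical
  let e : (Fin r → Fin q) → (Fin r →₀ ℕ) := fun a => Finsupp.equivFunOnFinite.symm fun i => (a i : ℕ)
  have hexp : ∀ c : MvPolynomial (Fin r) k, aeval (fun i => s i ^ q) c = aeval s (expand q c) := by
    intro c
    induction c using MvPolynomial.induction_on with
    | C t => simp [expand_C]
    | add u w hu hw => simp [hu, hw]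
    | mul_X u i hu => simp [hu, expand_X]
  have hmono : ∀ a, mono s q a = aeval s (monomial (e a) (1 : k)) := fun a => by
    rw [aeval_monomial, map_one, one_mul, Finsupp.prod_fintype _ _ (by simp)]
    rfl
  set P := ∑ a, expand q (c a) * monomial (e a) (1 : k) with hP
  have hP0 : P = 0 := by
    apply hs.eq_zero_of_aeval_eq_zero
    rw [hP, map_sum, ← h]
    exact Finset.sum_congr rfl fun a _ => by rw [map_mul, hexp, hmono]
  intro a
  ext m
  rw [coeff_zero]
  have := congrArg (coeff (q • m + e a)) hP0
  rw [hP, coeff_sum, coeff_zero] at this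
  rw [← this, Finset.sum_eq_single a]
  · rw [coeff_mul_monomial, mul_one, coeff_expand_smul _ hq.ne']
  · intro b _ hba
    rw [coeff_mul_monomial', mul_one]
    split_ifs with hle
    · by_cases hdiv : ∀ i, q ∣ (q • m + e a - e b) i
      swap
      · push Not at hdiv
        obtain ⟨i, hi⟩ := hdiv
        exact coeff_expand_of_not_dvd _ hi
      exfalso
      apply hba
      set m' : Fin r →₀ ℕ := Finsupp.equivFunOnFinite.symm fun i => (q • m + e a - e b) i / q
      have hm' : q • m' = q • m + e a - e b := by
        ext i
        simp only [m', Finsupp.smul_apply, smul_eq_mul, Finsupp.equivFunOnFinite_symm_apply_apply]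
        exact Nat.mul_div_cancel' (hdiv i)
      refine (residue_inj q hq b a m' m fun i => ?_).1
      have := congrArg (fun f : Fin r →₀ ℕ => f i) hm'
      simp only [Finsupp.smul_apply, smul_eq_mul, Finsupp.tsub_apply, Finsupp.add_apply] at this
      have hlei := hle i
      simp only [Finsupp.add_apply, Finsupp.smul_apply, smul_eq_mul, e,
        Finsupp.equivFunOnFinite_symm_apply_apply] at hlei this ⊢
      omega
    · rfl
  · simp

theorem li_adjoin (hs : AlgebraicIndependent k s) (hq : 0 < q) :
    LinearIndependent (IntermediateField.adjoin k (Set.range fun i => s i ^ q)) (mono s q) := by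
  classical
  rw [Fintype.linearIndependent_iff]
  intro c hc
  choose num den hnd using fun a => (IntermediateField.mem_adjoin_range_iff k _ _).1 (c a).2
  set D : K := ∏ a ∈ Finset.univ.filter (fun a => aeval (fun i => s i ^ q) (den a) ≠ (0 : K)),
    aeval (fun i => s i ^ q) (den a) with hD
  set d : MvPolynomial (Fin r) k :=
    ∏ a ∈ Finset.univ.filter (fun a => aeval (fun i => s i ^ q) (den a) ≠ (0 : K)), den a with hd
  have hD0 : D ≠ 0 := Finset.prod_ne_zero_iff.2 fun a ha => (Finset.mem_filter.1 ha).2
  have hex : ∀ a, ∃ p : MvPolynomial (Fin r) k, aeval (fun i => s i ^ q) p = D * (c a : K) := by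
    intro a
    by_cases h0 : aeval (fun i => s i ^ q) (den a) = (0 : K)
    · exact ⟨0, by rw [hnd a, h0, div_zero, mul_zero, map_zero]⟩
    · refine ⟨num a * ∏ b ∈ (Finset.univ.filter
        (fun a => aeval (fun i => s i ^ q) (den a) ≠ (0 : K))).erase a, den b, ?_⟩
      rw [map_mul, map_prod, hnd a, hD,
        ← Finset.mul_prod_erase _ _ (Finset.mem_filter.2 ⟨Finset.mem_univ a, h0⟩)]
      field_simp
  choose p hp using hex
  have hz := li_poly s q hs hq p (by
    simp only [hp, mul_assoc, ← Finset.mul_sum]
    rw [show (∑ a, (c a : K) * mono s q a) = 0 by simpa [IntermediateField.smul_def] using hc, mul_zero])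
  intro a
  have := hp a
  rw [hz a, map_zero, zero_eq_mul] at this
  exact Subtype.ext (this.resolve_left hD0)

theorem span_eq (hq : 0 < q) :
    Submodule.span (IntermediateField.adjoin k (Set.range fun i => s i ^ q)) (Set.range (mono s q)) =
      (IntermediateField.adjoin (IntermediateField.adjoin k (Set.range fun i => s i ^ q))
        (Set.range s)).toSubalgebra.toSubmodule := by
  classical
  set F' := IntermediateField.adjoin k (Set.range fun i => s i ^ q)
  refine le_antisymm (Submodule.span_le.2 ?_) ?_
  · rintro _ ⟨a, rfl⟩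
    show mono s q a ∈ IntermediateField.adjoin F' (Set.range s)
    exact prod_mem fun i _ => pow_mem (IntermediateField.subset_adjoin _ _ (Set.mem_range_self i)) _
  have halg : ∀ x ∈ Set.range s, IsAlgebraic F' x := by
    rintro _ ⟨i, rfl⟩
    refine IsAlgebraic.of_pow hq ?_
    exact isAlgebraic_algebraMap (⟨s i ^ q, IntermediateField.subset_adjoin _ _ ⟨i, rfl⟩⟩ : F')
  rw [IntermediateField.adjoin_toSubalgebra_of_isAlgebraic halg, Algebra.adjoin_eq_span]
  refine Submodule.span_le.2 ?_
  intro x hx
  obtain ⟨n, rfl⟩ : ∃ n : Fin r → ℕ, ∏ i, s i ^ n i = x := by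
    induction hx using Submonoid.closure_induction with
    | mem y hy => obtain ⟨i, rfl⟩ := hy; exact ⟨Pi.single i 1, by
        rw [Finset.prod_eq_single i] <;> simp +contextual⟩
    | one => exact ⟨0, by simp⟩
    | mul u w _ _ hu hw =>
      obtain ⟨n, rfl⟩ := hu; obtain ⟨m, rfl⟩ := hw
      exact ⟨n + m, by simp [pow_add, Finset.prod_mul_distrib]⟩
  have h : ∏ i, s i ^ n i = (∏ i, (s i ^ q) ^ (n i / q)) * mono s q (fun i => ⟨n i % q, Nat.mod_lt _ hq⟩) := by
    rw [mono, ← Finset.prod_mul_distrib]
    exact Finset.prod_congr rfl fun i _ => by rw [← pow_mul, ← pow_add, Nat.div_add_mod]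
  rw [h]
  exact Submodule.smul_mem (Submodule.span F' (Set.range (mono s q)))
    (⟨∏ i, (s i ^ q) ^ (n i / q), prod_mem fun i _ => pow_mem
      (IntermediateField.subset_adjoin _ _ (Set.mem_range_self i)) _⟩ : F')
    (Submodule.subset_span (Set.mem_range_self fun i => (⟨n i % q, Nat.mod_lt _ hq⟩ : Fin q)))

theorem finrank_adjoin (hs : AlgebraicIndependent k s) (hq : 0 < q) :
    IntermediateField.relfinrank (IntermediateField.adjoin k (Set.range fun i => s i ^ q))
      (IntermediateField.adjoin k (Set.range s)) = q ^ r := by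
  classical
  set F' := IntermediateField.adjoin k (Set.range fun i => s i ^ q)
  have hle : F' ≤ IntermediateField.adjoin k (Set.range s) := IntermediateField.adjoin_le_iff.2 (by
    rintro _ ⟨i, rfl⟩
    exact pow_mem (IntermediateField.subset_adjoin _ _ (Set.mem_range_self i)) q)
  rw [IntermediateField.relfinrank_eq_finrank_of_le hle]
  have he : IntermediateField.extendScalars hle = IntermediateField.adjoin F' (Set.range s) := by
    apply IntermediateField.restrictScalars_injective k
    rw [IntermediateField.extendScalars_restrictScalars, IntermediateField.restrictScalars_adjoin]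
    refine le_antisymm (IntermediateField.adjoin.mono _ _ _ Set.subset_union_right) ?_
    exact IntermediateField.adjoin_le_iff.2 (Set.union_subset hle (IntermediateField.subset_adjoin _ _))
  rw [he]
  have := finrank_span_eq_card (li_adjoin s q hs hq)
  rw [span_eq s q hq] at this
  simpa using this

theorem main (p : ℕ) [Fact p.Prime] [CharP K p] [PerfectField k] (t : Finset K)
    (ht : IntermediateField.adjoin k (t : Set K) = ⊤) (hs : IsTranscendenceBasis k s) (e : ℕ) :
    Module.finrank (IntermediateField.adjoin k (Set.range fun x : K => x ^ p ^ e)) K = (p ^ e) ^ r := by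
  haveI : CharP k p := (RingHom.charP_iff (algebraMap k K) (algebraMap k K).injective p).2 inferInstance
  haveI : ExpChar K p := ExpChar.prime Fact.out
  haveI : ExpChar k p := ExpChar.prime Fact.out
  haveI : PerfectRing k p := PerfectField.toPerfectRing p
  have hq : 0 < p ^ e := pow_pos (Fact.out : p.Prime).pos e
  let φ := iterateFrobenius K p e
  set F := IntermediateField.adjoin k (Set.range s) with hF
  set F' := IntermediateField.adjoin k (Set.range fun i => s i ^ (p ^ e)) with hF'
  set L := IntermediateField.adjoin k (Set.range fun x : K => x ^ p ^ e) with hL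
  have hk : ∀ c : k, ∃ c' : k, algebraMap k K c = φ (algebraMap k K c') := fun c => by
    obtain ⟨c', rfl⟩ := (bijective_iterateFrobenius k p e).2 c
    exact ⟨c', by simp [φ, iterateFrobenius_def]⟩
  have himg : ∀ S : Set K, (IntermediateField.adjoin k S).toSubfield.map φ =
      (IntermediateField.adjoin k ((fun x : K => x ^ p ^ e) '' S)).toSubfield := by
    intro S
    rw [IntermediateField.adjoin_toSubfield, IntermediateField.adjoin_toSubfield]
    refine Eq.trans (RingHom.map_field_closure φ _) ?_
    rw [Set.image_union]
    congr 2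
    · ext x
      constructor
      · rintro ⟨_, ⟨c, rfl⟩, rfl⟩; exact ⟨c ^ p ^ e, by simp [φ, iterateFrobenius_def]⟩
      · rintro ⟨c, rfl⟩
        obtain ⟨c', hc'⟩ := hk c
        exact ⟨_, ⟨c', rfl⟩, hc'.symm⟩
  have hLeq : L.toSubfield = (⊤ : Subfield K).map φ := by
    rw [← IntermediateField.top_toSubfield (F := k), ← IntermediateField.adjoin_univ k K, himg,
      Set.image_univ]
  have hF'eq : F'.toSubfield = F.toSubfield.map φ := by
    rw [himg, ← Set.range_comp]; rfl
  haveI : Algebra.IsAlgebraic F K := hs.isAlgebraic_field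
  haveI : FiniteDimensional F K := by
    have h1 : IntermediateField.adjoin F (t : Set K) = ⊤ := by
      apply IntermediateField.restrictScalars_injective k
      rw [IntermediateField.restrictScalars_top, eq_top_iff, ← ht]
      refine IntermediateField.adjoin_le_iff.2 fun x hx => ?_
      exact IntermediateField.subset_adjoin F _ hx
    haveI := IntermediateField.finiteDimensional_adjoin (K := F) (S := (t : Set K))
      (fun x _ => (Algebra.IsAlgebraic.isAlgebraic x).isIntegral)
    rw [h1] at this
    exact IntermediateField.topEquiv.toLinearEquiv.finiteDimensional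
  have hle1 : F' ≤ F := IntermediateField.adjoin_le_iff.2 (by
    rintro _ ⟨i, rfl⟩; exact pow_mem (IntermediateField.subset_adjoin _ _ (Set.mem_range_self i)) _)
  have hle2 : F' ≤ L := IntermediateField.adjoin.mono _ _ _ (by
    rintro _ ⟨i, rfl⟩; exact ⟨s i, rfl⟩)
  have h1 := IntermediateField.relfinrank_mul_finrank_top hle1
  have h2 := IntermediateField.relfinrank_mul_finrank_top hle2
  have h3 : IntermediateField.relfinrank F' L = Module.finrank F K := by
    show Subfield.relfinrank F'.toSubfield L.toSubfield = _
    rw [hF'eq, hLeq, Subfield.relfinrank_map_map, Subfield.relfinrank_top_right]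
    rfl
  rw [finrank_adjoin s (p ^ e) hs.1 hq] at h1
  rw [h3] at h2
  have hpos : 0 < Module.finrank F K := Module.finrank_pos
  apply Nat.eq_of_mul_eq_mul_left hpos
  rw [h2, ← h1, mul_comm]

end Groth.Agent.H4.FrobDegree
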