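import Groth.Agent.H4.PthDual
import Groth.Agent.H4.NPowUnram
import Groth.Agent.H4.WeilExt
import Groth.Agent.H4.AVHom
import Groth.Agent.H4.MulIso
import Mathlib.AlgebraicGeometry.Birational.RationalMap
import Mathlib.FieldTheory.Finite.Basic

/-! Multiplication by the order of a finite field factors through the Frobenius endomorphism. -/

set_option autoImplicit false
set_option linter.style.haveILetI false

universe u

open CategoryTheory CategoryTheory.Limits MonoidalCategory CartesianMonoidalCategory MonObj AlgebraicGeometry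
open Groth.Agent.Lib.LieS.Points
open IsLocalRing (closedPoint)

namespace Groth.Agent.H4.FrobFactor

/-- In characteristic `p`, the `p`-th power of a dual-number point depends only on its reduction. -/
theorem pow_char_eq {S : Scheme.{u}} {G : Over S} [GrpObj G] [IsCommMonObj G] {B : Type u} [CommRing B]
    (p : ℕ) [CharP B p] {f : Spec (CommRingCat.of B) ⟶ S} (v w : _root_.LieS.dpt B f ⟶ G)
    (h : _root_.LieS.zeroSec B f ≫ v = _root_.LieS.zeroSec B f ≫ w) : v ^ p = w ^ p := by
  have hu : _root_.LieS.zeroSec B f ≫ (v / w) = 1 := by rw [GrpObj.comp_div, h, div_self']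
  have e0 : ((p : DualNumber B) * DualNumber.eps) = 0 := by
    rw [← map_natCast (algebraMap B (DualNumber B)) p, CharP.cast_eq_zero, map_zero, zero_mul]
  have hcc : ((p : DualNumber B) * DualNumber.eps) * ((p : DualNumber B) * DualNumber.eps) = 0 := by
    rw [e0, zero_mul]
  have h1 := NPowUnram.ev_natCast hu p hcc
  rw [ev_zero hu _ _ hcc e0, div_pow] at h1
  exact div_eq_one.1 h1.symm

section Frob

variable {X : Scheme.{u}} (π : X ⟶ X) (hπb : π.base = 𝟙 _) (hπle : ∀ U : X.Opens, U ≤ π ⁻¹ᵁ U)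
  {q : ℕ} (hπapp : ∀ (U : X.Opens) (s : Γ(X, U)), (π.appLE U U (hπle U)).hom s = s ^ q)

include hπb hπapp

/-- The Frobenius is natural in field-valued points. -/
theorem point_comp {K : Type u} [Field K] (p r : ℕ) [Fact p.Prime] [CharP K p] (hq : q = p ^ r)
    (φ : Spec (CommRingCat.of K) ⟶ X) :
    φ ≫ π = Spec.map (CommRingCat.ofHom (iterateFrobenius K p r)) ≫ φ := by
  let y := φ (closedPoint K)
  let α := Scheme.stalkClosedPointTo φ
  have hy : π y = y := congr($hπb y)
  have e : y ⤳ π y := specializes_of_eq hy.symm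
  have key : π.stalkMap y ≫ α =
      X.presheaf.stalkSpecializes e ≫ α ≫ CommRingCat.ofHom (iterateFrobenius K p r) := by
    refine TopCat.Presheaf.stalk_hom_ext _ fun U hU => ?_
    have hyU : y ∈ U := hy ▸ hU
    rw [TopCat.Presheaf.germ_stalkSpecializes_assoc, Scheme.Hom.germ_stalkMap_assoc]
    ext s
    simp only [CommRingCat.hom_comp, RingHom.comp_apply, CommRingCat.hom_ofHom, iterateFrobenius_def]
    rw [← map_pow, ← map_pow, ← hq, ← hπapp U s, Scheme.Hom.appLE, CommRingCat.hom_comp,
      RingHom.comp_apply]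
    congr 1
    exact (TopCat.Presheaf.germ_res_apply _ (homOfLE (hπle U)) y hyU _).symm
  conv_lhs => rw [← Scheme.Spec_stalkClosedPointTo_fromSpecStalk φ]
  conv_rhs => rw [← Scheme.Spec_stalkClosedPointTo_fromSpecStalk φ]
  rw [Category.assoc, ← Scheme.SpecMap_stalkMap_fromSpecStalk π, ← Spec.map_comp_assoc, key,
    ← Scheme.SpecMap_stalkSpecializes_fromSpecStalk e]
  simp only [Spec.map_comp, Category.assoc]
  rfl

end Frob

variable {k : Type u} [Field k] (X : Over (Spec (CommRingCat.of k))) [GrpObj X] [IsCommMonObj X]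
  [IsProper X.hom] [GeometricallyIntegral X.hom]

/-- Along a monic field-valued point, the map induced by multiplication by `p` has image in the
`p`-th powers. -/
theorem exists_pow_eq (p : ℕ) [hp : Fact p.Prime] [CharP k p] [PerfectRing k p] {K : Type u} [Field K]
    [CharP K p] (gen : Spec (CommRingCat.of K) ⟶ X.left) [Mono gen] (α : K →+* K)
    (hα : gen ≫ ((𝟙 X : X ⟶ X) ^ p).left = Spec.map (CommRingCat.ofHom α) ≫ gen) (x : K) :
    ∃ y : K, y ^ p = α x := by
  haveI : ExpChar K p := ExpChar.prime hp.out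
  haveI : ExpChar k p := ExpChar.prime hp.out
  by_contra hx
  push Not at hx
  obtain ⟨τ, hτ, hτx⟩ := PthDual.exists_dual (K := K) p hx
  obtain ⟨cst, hcst⟩ : ∃ cst : k →+* K, gen ≫ X.hom = Spec.map (CommRingCat.ofHom cst) :=
    ⟨(Spec.preimage (gen ≫ X.hom)).hom, (Spec.map_preimage _).symm⟩
  let b := gen ≫ X.hom
  have hτcst : τ.comp cst = (algebraMap K (DualNumber K)).comp cst := by
    refine RingHom.ext fun c => ?_
    obtain ⟨c, rfl⟩ := (PerfectRing.bijective_frobenius (R := k) (p := p)).2 c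
    simp only [RingHom.comp_apply, frobenius_def, map_pow]
    haveI : CharP (DualNumber K) p :=
      charP_of_injective_ringHom (f := algebraMap K (DualNumber K)) (RingHom.injective _) p
    haveI : ExpChar (DualNumber K) p := ExpChar.prime hp.out
    have e : τ (cst c) = algebraMap K (DualNumber K) (cst c) + TrivSqZeroExt.inr (τ (cst c)).snd := by
      ext
      · simp [hτ, TrivSqZeroExt.algebraMap_eq_inl']
      · simp [TrivSqZeroExt.algebraMap_eq_inl']
    rw [e, add_pow_char]
    obtain ⟨j, hj⟩ : ∃ j, p = 2 + j := ⟨p - 2, by have := hp.out.two_le; omega⟩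
    rw [show (TrivSqZeroExt.inr (τ (cst c)).snd : DualNumber K) ^ p = 0 by
      rw [hj, pow_add, pow_two, TrivSqZeroExt.inr_mul_inr, zero_mul], add_zero]
  let mk : (K →+* DualNumber K) → (Spec (CommRingCat.of (DualNumber K)) ⟶ X.left) :=
    fun σ => Spec.map (CommRingCat.ofHom σ) ≫ gen
  let v : _root_.LieS.dpt K b ⟶ X := Over.homMk (mk τ) (by
    show mk τ ≫ X.hom = Spec.map (CommRingCat.ofHom (algebraMap K (DualNumber K))) ≫ b
    simp only [mk, b, Category.assoc, hcst, ← Spec.map_comp, ← CommRingCat.ofHom_comp, hτcst])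
  let w : _root_.LieS.dpt K b ⟶ X := Over.homMk (mk (algebraMap K (DualNumber K))) (by
    show mk _ ≫ X.hom = Spec.map (CommRingCat.ofHom (algebraMap K (DualNumber K))) ≫ b
    simp only [mk, b, Category.assoc])
  have hvw : _root_.LieS.zeroSec K b ≫ v = _root_.LieS.zeroSec K b ≫ w := by
    apply Over.OverMorphism.ext
    show Spec.map (CommRingCat.ofHom (TrivSqZeroExt.fstHom K K K).toRingHom) ≫ mk τ =
      Spec.map (CommRingCat.ofHom (TrivSqZeroExt.fstHom K K K).toRingHom) ≫ mk (algebraMap K (DualNumber K))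
    simp only [mk, ← Spec.map_comp_assoc, ← CommRingCat.ofHom_comp]
    congr 3
    exact RingHom.ext fun y => (hτ y).trans rfl
  have h2 := pow_char_eq p v w hvw
  rw [← Category.comp_id v, ← Category.comp_id w, ← MonObj.comp_pow, ← MonObj.comp_pow] at h2
  have h3 : (Spec.map (CommRingCat.ofHom τ) ≫ gen) ≫ ((𝟙 X : X ⟶ X) ^ p).left =
      (Spec.map (CommRingCat.ofHom (algebraMap K (DualNumber K))) ≫ gen) ≫ ((𝟙 X : X ⟶ X) ^ p).left :=
    congrArg Over.Hom.left h2
  rw [Category.assoc, Category.assoc, hα, ← Spec.map_comp_assoc, ← Spec.map_comp_assoc, cancel_mono] at h3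
  have h4 := congrArg (fun g : CommRingCat.of K ⟶ CommRingCat.of (DualNumber K) => (g.hom x).snd)
    (Spec.map_injective h3)
  simp only [CommRingCat.hom_comp, RingHom.comp_apply, CommRingCat.hom_ofHom,
    TrivSqZeroExt.algebraMap_eq_inl', TrivSqZeroExt.snd_inl] at h4
  exact one_ne_zero (hτx.symm.trans h4)

/-- A monic field-valued point mapped to itself by multiplication by `p`, followed by multiplication
by `p ^ r`, factors through the `p ^ r`-th power map. -/
theorem exists_root (p : ℕ) [hp : Fact p.Prime] [CharP k p] [PerfectRing k p] {K : Type u} [Field K]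
    [CharP K p] (gen : Spec (CommRingCat.of K) ⟶ X.left) [Mono gen] (α : K →+* K)
    (hα : gen ≫ ((𝟙 X : X ⟶ X) ^ p).left = Spec.map (CommRingCat.ofHom α) ≫ gen) (r : ℕ) :
    ∃ φ : Spec (CommRingCat.of K) ⟶ X.left,
      gen ≫ ((𝟙 X : X ⟶ X) ^ (p ^ r)).left =
        Spec.map (CommRingCat.ofHom (iterateFrobenius K p r)) ≫ φ := by
  haveI : ExpChar K p := ExpChar.prime hp.out
  choose βf hβ using exists_pow_eq X p gen α hα
  let β : K →+* K :=
    { toFun := βf
      map_one' := frobenius_inj K p (by simp [frobenius_def, hβ])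
      map_mul' := fun a b => frobenius_inj K p (by simp [frobenius_def, mul_pow, hβ])
      map_zero' := frobenius_inj K p (by simp [frobenius_def, hβ, zero_pow hp.out.ne_zero])
      map_add' := fun a b => frobenius_inj K p (by simp [frobenius_def, add_pow_char, hβ]) }
  induction r with
  | zero =>
    refine ⟨gen, ?_⟩
    rw [pow_zero, pow_one, Over.id_left, Category.comp_id, iterateFrobenius_zero]
    simp
  | succ r ih =>
    obtain ⟨φ, hφ⟩ := ih
    refine ⟨Spec.map (CommRingCat.ofHom β) ≫ φ, ?_⟩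
    have e : ((𝟙 X : X ⟶ X) ^ (p ^ (r + 1))) = (𝟙 X ^ p) ≫ (𝟙 X ^ (p ^ r)) := by
      rw [MonObj.comp_pow, Category.comp_id, ← pow_mul, pow_succ']
    rw [e, Over.comp_left, ← Category.assoc, hα, Category.assoc, hφ, ← Spec.map_comp_assoc,
      ← Spec.map_comp_assoc]
    congr 2
    ext x
    simp only [CommRingCat.hom_comp, RingHom.comp_apply, CommRingCat.hom_ofHom, iterateFrobenius_def,
      map_pow]
    show α x ^ p ^ r = βf x ^ p ^ (r + 1)
    rw [pow_succ', pow_mul, hβ]

/-- Over a finite field of order `q` multiplication by `q` factors through the Frobenius on both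
sides. -/
theorem exists_factor [Finite k] (πX : X ⟶ X) [IsMonHom πX] (hπb : πX.left.base = 𝟙 _)
    (hπle : ∀ U : X.left.Opens, U ≤ πX.left ⁻¹ᵁ U)
    (hπapp : ∀ (U : X.left.Opens) (s : Γ(X.left, U)),
      (πX.left.appLE U U (hπle U)).hom s = s ^ Nat.card k) :
    ∃ (v : X ⟶ X) (_ : IsMonHom v), πX ≫ v = (𝟙 X) ^ Nat.card k ∧ v ≫ πX = (𝟙 X) ^ Nat.card k := by
  haveI : IsIntegral X.left := GeometricallyIntegral.isIntegral_of_subsingleton X.hom
  haveI : Smooth X.hom := by
    letI : GrpObj (Over.mk X.hom) := (show GrpObj X from inferInstance)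
    exact smooth_of_grpObj X.hom
  cases nonempty_fintype k
  obtain ⟨p, hc⟩ := CharP.exists k
  haveI hp : Fact p.Prime := ⟨CharP.char_is_prime k p⟩
  obtain ⟨r, -, hr⟩ := FiniteField.card k p
  have hq : Nat.card k = p ^ (r : ℕ) := by rw [Nat.card_eq_fintype_card, hr]
  let K : Type u := X.left.functionField
  let gen : Spec (CommRingCat.of K) ⟶ X.left := X.left.fromSpecStalk (genericPoint X.left)
  haveI : Mono gen := inferInstanceAs (Mono (X.left.fromSpecStalk (genericPoint X.left)))
  obtain ⟨cst, hcst⟩ : ∃ cst : k →+* K, gen ≫ X.hom = Spec.map (CommRingCat.ofHom cst) :=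
    ⟨(Spec.preimage (gen ≫ X.hom)).hom, (Spec.map_preimage _).symm⟩
  haveI : CharP K p := charP_of_injective_ringHom cst.injective p
  haveI : ExpChar K p := ExpChar.prime hp.out
  let N := ((𝟙 X : X ⟶ X) ^ p).left
  obtain ⟨-, -, hsurj⟩ := MulIso.nat X hp.out.pos
  have hN : N (genericPoint X.left) = genericPoint X.left := by
    obtain ⟨g', hg'⟩ := N.surjective (genericPoint X.left)
    refine (Specializes.antisymm ((genericPoint_spec X.left).specializes trivial) ?_).eq.symm
    nth_rw 2 [← hg']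
    exact ((genericPoint_spec X.left).specializes trivial).map N.continuous
  let α : K →+* K :=
    (X.left.presheaf.stalkSpecializes (specializes_of_eq hN) ≫ N.stalkMap (genericPoint X.left)).hom
  have hα : gen ≫ N = Spec.map (CommRingCat.ofHom α) ≫ gen := by
    show X.left.fromSpecStalk _ ≫ N = Spec.map (_ ≫ _) ≫ X.left.fromSpecStalk _
    rw [Spec.map_comp, Category.assoc, Scheme.SpecMap_stalkSpecializes_fromSpecStalk,
      Scheme.SpecMap_stalkMap_fromSpecStalk]
  obtain ⟨φ, hφ⟩ := exists_root X p gen α hα r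
  have hfix : Spec.map (CommRingCat.ofHom (iterateFrobenius K p r)) ≫ gen ≫ X.hom = gen ≫ X.hom := by
    rw [hcst, ← Spec.map_comp, ← CommRingCat.ofHom_comp]
    congr 2
    refine RingHom.ext fun c => ?_
    simp only [RingHom.comp_apply, iterateFrobenius_def, ← map_pow, ← hr, FiniteField.pow_card]
  have hφX : φ ≫ X.hom = gen ≫ X.hom := by
    obtain ⟨δ, hδ⟩ : ∃ δ : CommRingCat.of k ⟶ CommRingCat.of K, φ ≫ X.hom = Spec.map δ :=
      ⟨Spec.preimage (φ ≫ X.hom), (Spec.map_preimage _).symm⟩
    have h1 : gen ≫ X.hom = Spec.map (CommRingCat.ofHom (iterateFrobenius K p r)) ≫ φ ≫ X.hom := by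
      rw [← Category.assoc, ← hφ, Category.assoc, Over.w]
    rw [← hfix] at h1
    rw [hδ, hcst, ← Spec.map_comp, ← Spec.map_comp] at h1
    rw [hδ, hcst]
    congr 1
    ext c
    exact iterateFrobenius_inj K p r
      (congrArg (fun g : CommRingCat.of k ⟶ CommRingCat.of K => g.hom c) (Spec.map_injective h1)).symm
  let f := Scheme.PartialMap.ofFromSpecStalk X.hom X.hom φ hφX
  haveI : Nonempty f.domain.toScheme :=
    ⟨⟨genericPoint X.left, Scheme.PartialMap.mem_domain_ofFromSpecStalk X.hom X.hom φ hφX⟩⟩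
  obtain ⟨g, hg, hgU⟩ := WeilExt.exists_extension (X := X) (A := X) f.domain
    ⟨genericPoint X.left, Scheme.PartialMap.mem_domain_ofFromSpecStalk X.hom X.hom φ hφX⟩ f.hom
    (Scheme.PartialMap.ofFromSpecStalk_comp X.hom X.hom φ hφX)
  have hgen : gen ≫ g = φ := by
    conv_rhs => rw [← Scheme.PartialMap.fromSpecStalkOfMem_ofFromSpecStalk X.hom X.hom φ hφX]
    rw [Scheme.PartialMap.fromSpecStalkOfMem, ← hgU, ← Category.assoc,
      Scheme.Opens.fromSpecStalkOfMem_ι]
  let v : X ⟶ X := Over.homMk g hg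
  haveI : IsDominant gen := by
    refine ⟨dense_iff_closure_eq.2 (Set.eq_univ_of_univ_subset ?_)⟩
    rw [← (genericPoint_spec X.left).def]
    refine closure_mono (Set.singleton_subset_iff.2 ?_)
    exact ⟨closedPoint K, Scheme.fromSpecStalk_closedPoint⟩
  have hext : ∀ a b : X ⟶ X, gen ≫ a.left = gen ≫ b.left → a = b := fun a b h =>
    Over.OverMorphism.ext (ext_of_isDominant_of_isSeparated X.hom (by rw [Over.w, Over.w]) gen h)
  have hcomm : πX ≫ v = v ≫ πX := by
    refine hext _ _ ?_
    rw [Over.comp_left, Over.comp_left, ← Category.assoc, ← Category.assoc]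
    show (gen ≫ πX.left) ≫ g = (gen ≫ g) ≫ πX.left
    rw [point_comp πX.left hπb hπle hπapp p r hq gen, Category.assoc, hgen,
      point_comp πX.left hπb hπle hπapp p r hq φ]
  have hmul : πX ≫ v = (𝟙 X) ^ Nat.card k := by
    refine hext _ _ ?_
    rw [Over.comp_left, ← Category.assoc]
    show (gen ≫ πX.left) ≫ g = _
    rw [point_comp πX.left hπb hπle hπapp p r hq gen, Category.assoc, hgen, hq, hφ]
  have hv : IsMonHom v := by
    refine AVHom.isMonHom_of_pointed v ?_
    conv_lhs => rw [← IsMonHom.one_hom (f := πX), Category.assoc, hmul, MonObj.comp_pow,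
      Category.comp_id, MonObj.one_eq_one, one_pow]
    exact (MonObj.one_eq_one (M := X)).symm
  exact ⟨v, hv, hmul, hcomm ▸ hmul⟩

end Groth.Agent.H4.FrobFactor
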