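import Mathlib.AlgebraicGeometry.Morphisms.FiniteType
import Mathlib.AlgebraicGeometry.Morphisms.QuasiCompact
import Mathlib.AlgebraicGeometry.Stalk
import Mathlib.Algebra.CharP.Frobenius
import Mathlib.RingTheory.Localization.Away.Basic
import Mathlib.FieldTheory.Finite.Basic

/-! An endomorphism of a scheme of finite type over an algebraic extension `k` of `𝔽_p`
has only finite orbits on `k`-points: everything is defined over a finite subfield. -/

set_option autoImplicit false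

universe u

open CategoryTheory AlgebraicGeometry Opposite

namespace Groth.Agent.H4.FrobPoints

variable {k : Type u} [Field k] {X Y : Scheme.{u}}

/-- Evaluation of a section at a `k`-valued point. -/
noncomputable def ev (P : Spec (CommRingCat.of k) ⟶ X) (U : X.Opens) (h : ⊤ ≤ P ⁻¹ᵁ U) :
    Γ(X, U) →+* k :=
  ((Scheme.ΓSpecIso (CommRingCat.of k)).hom.hom).comp (P.appLE U ⊤ h).hom

theorem top_le_of_mem (P : Spec (CommRingCat.of k) ⟶ X) (U : X.Opens)
    (h : P (IsLocalRing.closedPoint k) ∈ U) : ⊤ ≤ P ⁻¹ᵁ U := by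
  intro z _
  rw [Subsingleton.elim (α := PrimeSpectrum k) z (IsLocalRing.closedPoint k)]
  exact h

theorem ev_res (P : Spec (CommRingCat.of k) ⟶ X) {U V : X.Opens} (i : V ≤ U) (h : ⊤ ≤ P ⁻¹ᵁ V)
    (f : Γ(X, U)) :
    ev P V h (X.presheaf.map (homOfLE i).op f) =
      ev P U (h.trans (P.preimage_mono i)) f := by
  simp only [ev, RingHom.coe_comp, Function.comp_apply, ← CommRingCat.comp_apply,
    ← Category.assoc, Scheme.Hom.map_appLE]

theorem ev_comp (P : Spec (CommRingCat.of k) ⟶ X) (τ : X ⟶ Y) (U : X.Opens) (V : Y.Opens)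
    (i : U ≤ τ ⁻¹ᵁ V) (h : ⊤ ≤ P ⁻¹ᵁ U) (f : Γ(Y, V)) :
    ev P U h (τ.appLE V U i f) = ev (P ≫ τ) V (h.trans (P.preimage_mono i)) f := by
  simp only [ev, RingHom.coe_comp, Function.comp_apply, ← CommRingCat.comp_apply,
    Scheme.Hom.appLE_comp_appLE]

/-- The constants on an open set. -/
noncomputable def const (π : X ⟶ Spec (CommRingCat.of k)) (U : X.Opens) : k →+* Γ(X, U) :=
  (π.appLE ⊤ U le_top).hom.comp (Scheme.ΓSpecIso (CommRingCat.of k)).inv.hom

theorem ev_const (π : X ⟶ Spec (CommRingCat.of k)) (P : Spec (CommRingCat.of k) ⟶ X)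
    (hP : P ≫ π = 𝟙 _) (U : X.Opens) (h : ⊤ ≤ P ⁻¹ᵁ U) (c : k) : ev P U h (const π U c) = c := by
  have := ev_comp P π U ⊤ le_top h ((Scheme.ΓSpecIso (CommRingCat.of k)).inv c)
  refine this.trans ?_
  have key : ∀ (Q : Spec (CommRingCat.of k) ⟶ Spec (CommRingCat.of k)), Q = 𝟙 _ →
      ∀ (hh : ⊤ ≤ Q ⁻¹ᵁ ⊤) (y : k), ev Q ⊤ hh ((Scheme.ΓSpecIso (CommRingCat.of k)).inv y) = y := by
    rintro Q rfl hh y
    have hid : Scheme.Hom.appLE (𝟙 (Spec (CommRingCat.of k))) ⊤ ⊤ hh = 𝟙 _ := by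
      simp only [Scheme.Hom.appLE, Scheme.Hom.id_app, Category.id_comp]
      rw [show (homOfLE hh).op = 𝟙 _ from Subsingleton.elim _ _]
      exact (Spec (CommRingCat.of k)).presheaf.map_id _
    show (Scheme.ΓSpecIso (CommRingCat.of k)).hom (Scheme.Hom.appLE _ ⊤ ⊤ hh
      ((Scheme.ΓSpecIso (CommRingCat.of k)).inv y)) = y
    rw [hid]
    exact (Scheme.ΓSpecIso (CommRingCat.of k)).inv_hom_id_apply y
  exact key _ hP _ c

theorem point_ext {U : X.Opens} (hU : IsAffineOpen U) {P Q : Spec (CommRingCat.of k) ⟶ X}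
    (hP : ⊤ ≤ P ⁻¹ᵁ U) (hQ : ⊤ ≤ Q ⁻¹ᵁ U) (h : ∀ f, ev P U hP f = ev Q U hQ f) : P = Q := by
  have ht : IsAffineOpen (⊤ : (Spec (CommRingCat.of k)).Opens) := isAffineOpen_top _
  haveI : IsIso ht.fromSpec := by rw [IsAffineOpen.fromSpec_top]; infer_instance
  have he : P.appLE U ⊤ hP = Q.appLE U ⊤ hQ := by
    ext f
    exact (Scheme.ΓSpecIso (CommRingCat.of k)).commRingCatIsoToRingEquiv.injective (h f)
  rw [← cancel_epi ht.fromSpec, ← hU.SpecMap_appLE_fromSpec P ht hP,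
    ← hU.SpecMap_appLE_fromSpec Q ht hQ, he]

variable (p : ℕ) [Fact p.Prime] [CharP k p]

theorem iterateFrobenius_eq_self {x : k} {n M : ℕ} (hn : x ^ p ^ n = x) (hM : n ∣ M) :
    iterateFrobenius k p M x = x := by
  rw [coe_iterateFrobenius]
  refine Function.IsPeriodicPt.trans_dvd (f := frobenius k p) ?_ hM
  show (frobenius k p)^[n] x = x
  rw [iterate_frobenius, hn]

theorem finite_fixed (M : ℕ) (hM : 0 < M) : {x : k | iterateFrobenius k p M x = x}.Finite := by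
  classical
  refine ((Polynomial.X ^ (p ^ M) - Polynomial.X : Polynomial k).roots.toFinset.finite_toSet).subset
    fun x hx => ?_
  have hp := (Fact.out : p.Prime).one_lt
  have hx' : iterateFrobenius k p M x = x := hx
  rw [iterateFrobenius_def] at hx'
  simp only [Finset.mem_coe, Multiset.mem_toFinset]
  refine (Polynomial.mem_roots
    (FiniteField.X_pow_card_sub_X_ne_zero k (Nat.one_lt_pow hM.ne' hp))).2 ?_
  simp [hx']

/-- Rationality of the coordinates `s` at a point. -/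
def Rat (M : ℕ) (P : Spec (CommRingCat.of k) ⟶ X) (U : X.Opens) (h : ⊤ ≤ P ⁻¹ᵁ U)
    (s : Finset Γ(X, U)) : Prop :=
  ∀ x ∈ s, iterateFrobenius k p M (ev P U h x) = ev P U h x

theorem exists_period (halg : ∀ x : k, ∃ n : ℕ, 0 < n ∧ x ^ (p ^ n) = x)
    (π : X ⟶ Spec (CommRingCat.of k)) (U : X.Opens) (s : Finset Γ(X, U))
    (hs : Subring.closure (Set.range (const π U) ∪ ↑s) = ⊤) (f : Γ(X, U)) :
    ∃ M₀, 0 < M₀ ∧ ∀ M, M₀ ∣ M → ∀ (P : Spec (CommRingCat.of k) ⟶ X), P ≫ π = 𝟙 _ →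
      ∀ (h : ⊤ ≤ P ⁻¹ᵁ U), Rat p M P U h s →
        iterateFrobenius k p M (ev P U h f) = ev P U h f := by
  have hf : f ∈ Subring.closure (Set.range (const π U) ∪ ↑s) := hs ▸ trivial
  induction hf using Subring.closure_induction with
  | mem x hx =>
    rcases hx with ⟨c, rfl⟩ | hx
    · obtain ⟨n, hn, hc⟩ := halg c
      exact ⟨n, hn, fun M hM P hP h _ => by rw [ev_const π P hP]; exact iterateFrobenius_eq_self p hc hM⟩
    · exact ⟨1, one_pos, fun M _ P _ h hr => hr x hx⟩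
  | zero => exact ⟨1, one_pos, fun M _ P _ h _ => by simp⟩
  | one => exact ⟨1, one_pos, fun M _ P _ h _ => by simp⟩
  | add x y _ _ hx hy =>
    obtain ⟨a, ha, hxa⟩ := hx
    obtain ⟨b, hb, hyb⟩ := hy
    refine ⟨a * b, Nat.mul_pos ha hb, fun M hM P hP h hr => ?_⟩
    rw [map_add, map_add, hxa M (dvd_of_mul_right_dvd hM) P hP h hr,
      hyb M (dvd_of_mul_left_dvd hM) P hP h hr]
  | neg x _ hx =>
    obtain ⟨a, ha, hxa⟩ := hx
    exact ⟨a, ha, fun M hM P hP h hr => by rw [map_neg, map_neg, hxa M hM P hP h hr]⟩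
  | mul x y _ _ hx hy =>
    obtain ⟨a, ha, hxa⟩ := hx
    obtain ⟨b, hb, hyb⟩ := hy
    refine ⟨a * b, Nat.mul_pos ha hb, fun M hM P hP h hr => ?_⟩
    rw [map_mul, map_mul, hxa M (dvd_of_mul_right_dvd hM) P hP h hr,
      hyb M (dvd_of_mul_left_dvd hM) P hP h hr]

theorem exists_gens (π : X ⟶ Spec (CommRingCat.of k)) [LocallyOfFiniteType π] {U : X.Opens}
    (hU : IsAffineOpen U) :
    ∃ s : Finset Γ(X, U), Subring.closure (Set.range (const π U) ∪ ↑s) = ⊤ := by
  have h : (const π U).FiniteType :=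
    RingHom.FiniteType.comp (LocallyOfFiniteType.finiteType_appLE π (isAffineOpen_top _) hU le_top)
      (RingHom.FiniteType.of_surjective _
        (Scheme.ΓSpecIso (CommRingCat.of k)).commRingCatIsoToRingEquiv.symm.surjective)
  algebraize [const π U]
  obtain ⟨s, hs⟩ := Algebra.FiniteType.out (R := k) (A := Γ(X, U))
  refine ⟨s, ?_⟩
  have := congrArg Subalgebra.toSubring hs
  rwa [Algebra.adjoin_eq_ring_closure] at this

/-- The orbit of a `k`-point under an endomorphism is finite. -/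
theorem finite_orbit (halg : ∀ x : k, ∃ n : ℕ, 0 < n ∧ x ^ (p ^ n) = x)
    (π : X ⟶ Spec (CommRingCat.of k)) [LocallyOfFiniteType π] [CompactSpace X]
    (τ : X ⟶ X) (P : ℕ → (Spec (CommRingCat.of k) ⟶ X)) (hP : ∀ n, P n ≫ π = 𝟙 _)
    (hτ : ∀ n, P (n + 1) = P n ≫ τ) : (Set.range P).Finite := by
  classical
  choose V hV hxV using fun x : X =>
    exists_isAffineOpen_mem_and_subset (X := X) (x := x) (U := ⊤) trivial
  obtain ⟨t, ht⟩ := (isCompact_univ (X := X)).elim_finite_subcover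
    (fun x => ((V x : X.Opens) : Set X)) (fun x => (V x).2)
    (fun x _ => Set.mem_iUnion.2 ⟨x, (hxV x).1⟩)
  have hcov : ∀ z, ∃ i : t, z ∈ V i := fun z => by
    obtain ⟨y, hy, hzy⟩ := Set.mem_iUnion₂.1 (ht (Set.mem_univ z))
    exact ⟨⟨y, hy⟩, hzy⟩
  choose s hs using fun i : t => exists_gens π (hV i)
  -- charts of `τ`
  have hloc : ∀ (i : t) (z : V i), ∃ (j : t) (g : Γ(X, V i)),
      z.1 ∈ X.basicOpen g ∧ X.basicOpen g ≤ τ ⁻¹ᵁ V j := by
    intro i z
    obtain ⟨j, hj⟩ := hcov (τ z.1)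
    obtain ⟨g, hg, hzg⟩ := (hV i).exists_basicOpen_le (V := τ ⁻¹ᵁ V j) ⟨z.1, hj⟩ z.2
    exact ⟨j, g, hzg, hg⟩
  choose j g hzg hg using hloc
  have hsub : ∀ i : t, ∃ w : Finset (V i), ∀ z : V i, ∃ z' ∈ w, z.1 ∈ X.basicOpen (g i z') := by
    intro i
    obtain ⟨w, hw⟩ := (hV i).isCompact.elim_finite_subcover
      (fun z => ((X.basicOpen (g i z) : X.Opens) : Set X)) (fun z => (X.basicOpen (g i z)).2)
      (fun z hz => Set.mem_iUnion.2 ⟨⟨z, hz⟩, hzg i ⟨z, hz⟩⟩)
    exact ⟨w, fun z => by obtain ⟨a, ha, hza⟩ := Set.mem_iUnion₂.1 (hw z.2); exact ⟨a, ha, hza⟩⟩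
  choose w hw using hsub
  have hnum : ∀ (i : t) (z : V i) (x : s (j i z)), ∃ (N : ℕ) (num : Γ(X, V i)),
      τ.appLE (V (j i z)) (X.basicOpen (g i z)) (hg i z) x.1 *
        X.presheaf.map (homOfLE (X.basicOpen_le (g i z))).op (g i z) ^ N =
        X.presheaf.map (homOfLE (X.basicOpen_le (g i z))).op num := by
    intro i z x
    have := (hV i).isLocalization_basicOpen (g i z)
    obtain ⟨⟨num, d⟩, hnd⟩ := IsLocalization.surj (M := Submonoid.powers (g i z))
      (τ.appLE (V (j i z)) (X.basicOpen (g i z)) (hg i z) x.1)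
    obtain ⟨N, hN⟩ := d.2
    refine ⟨N, num, ?_⟩
    rw [← map_pow, show g i z ^ N = d.1 from hN]
    exact hnd
  choose N num hnum using hnum
  choose Mg hMg0 hMg using fun (i : t) (z : V i) => exists_period p halg π (V i) (s i) (hs i) (g i z)
  choose Mn hMn0 hMn using fun (i : t) (z : V i) (x : s (j i z)) =>
    exists_period p halg π (V i) (s i) (hs i) (num i z x)
  obtain ⟨i₀, hi₀⟩ := hcov (P 0 (IsLocalRing.closedPoint k))
  choose M0 hM00 hM0 using fun x : s i₀ => halg (ev (P 0) (V i₀) (top_le_of_mem _ _ hi₀) x.1)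
  set M := (∏ x, M0 x) * ∏ i : t, ∏ z : w i, Mg i z.1 * ∏ x, Mn i z.1 x with hMdef
  have hM : 0 < M := Nat.mul_pos (Finset.prod_pos fun _ _ => hM00 _)
    (Finset.prod_pos fun i _ => Finset.prod_pos fun z _ =>
      Nat.mul_pos (hMg0 _ _) (Finset.prod_pos fun _ _ => hMn0 _ _ _))
  have hdiv : ∀ (i : t) (z : w i), Mg i z.1 * ∏ x, Mn i z.1 x ∣ M := fun i z =>
    (Finset.dvd_prod_of_mem (fun z : w i => Mg i z.1 * ∏ x, Mn i z.1 x) (Finset.mem_univ z)).trans
      ((Finset.dvd_prod_of_mem (fun i : t => ∏ z : w i, Mg i z.1 * ∏ x, Mn i z.1 x)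
        (Finset.mem_univ i)).trans (dvd_mul_left _ _))
  -- every point of the orbit is rational in some chart
  have key : ∀ n, ∃ (i : t) (h : ⊤ ≤ P n ⁻¹ᵁ V i), Rat p M (P n) (V i) h (s i) := by
    intro n
    induction n with
    | zero =>
      exact ⟨i₀, top_le_of_mem _ _ hi₀, fun x hx => iterateFrobenius_eq_self p (hM0 ⟨x, hx⟩)
        ((Finset.dvd_prod_of_mem M0 (Finset.mem_univ _)).trans (dvd_mul_right _ _))⟩
    | succ n ih =>
      obtain ⟨i, h, hr⟩ := ih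
      have hmem : P n (IsLocalRing.closedPoint k) ∈ V i := h trivial
      obtain ⟨z, hz, hzD⟩ := hw i ⟨_, hmem⟩
      have hD : ⊤ ≤ P n ⁻¹ᵁ X.basicOpen (g i z) := top_le_of_mem _ _ hzD
      rw [hτ n]
      refine ⟨j i z, hD.trans ((P n).preimage_mono (hg i z)), fun x hx => ?_⟩
      have e1 := congrArg (ev (P n) (X.basicOpen (g i z)) hD) (hnum i z ⟨x, hx⟩)
      rw [map_mul, map_pow, ev_res, ev_res, ev_comp] at e1
      have hdg := (dvd_mul_right _ _).trans (hdiv i ⟨z, hz⟩)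
      have hdn := ((Finset.dvd_prod_of_mem (fun x => Mn i z x) (Finset.mem_univ ⟨x, hx⟩)).trans
        (dvd_mul_left _ _)).trans (hdiv i ⟨z, hz⟩)
      have e2 := hMg i z M hdg (P n) (hP n) _ hr
      have e3 := hMn i z ⟨x, hx⟩ M hdn (P n) (hP n) _ hr
      have hne : ev (P n) (V i) h (g i z) ≠ 0 := by
        rw [← ev_res (P n) (X.basicOpen_le (g i z)) hD]
        haveI := (hV i).isLocalization_basicOpen (g i z)
        exact (IsLocalization.map_units Γ(X, X.basicOpen (g i z))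
          (⟨g i z, Submonoid.mem_powers _⟩ : Submonoid.powers (g i z))).map (ev (P n) (X.basicOpen (g i z)) hD) |>.ne_zero
      refine mul_right_cancel₀ (pow_ne_zero (N i z ⟨x, hx⟩) hne) ?_
      conv_rhs => rw [e1, ← e3, ← e1]
      rw [map_mul, map_pow, e2]
  haveI : Finite {x : k | iterateFrobenius k p M x = x} := (finite_fixed p M hM).to_subtype
  have hfin : ∀ i : t, {Q : Spec (CommRingCat.of k) ⟶ X | Q ≫ π = 𝟙 _ ∧
      ∃ h : ⊤ ≤ Q ⁻¹ᵁ V i, Rat p M Q (V i) h (s i)}.Finite := by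
    intro i
    rw [← Set.finite_coe_iff]
    refine Finite.of_injective (β := s i → {x : k | iterateFrobenius k p M x = x})
      (fun Q x => ⟨ev Q.1 _ Q.2.2.1 x.1, Q.2.2.2 x.1 x.2⟩) fun Q R hQR => ?_
    refine Subtype.ext (point_ext (hV i) Q.2.2.1 R.2.2.1 fun f => ?_)
    have hf : f ∈ Subring.closure (Set.range (const π (V i)) ∪ ↑(s i)) := (hs i).symm ▸ trivial
    induction hf using Subring.closure_induction with
    | mem x hx =>
      rcases hx with ⟨c, rfl⟩ | hx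
      · rw [ev_const π _ Q.2.1, ev_const π _ R.2.1]
      · exact congrArg Subtype.val (congrFun hQR ⟨x, hx⟩)
    | zero => simp
    | one => simp
    | add x y _ _ hx hy => simp [hx, hy]
    | neg x _ hx => simp [hx]
    | mul x y _ _ hx hy => simp [hx, hy]
  refine (Set.finite_iUnion hfin).subset ?_
  rintro _ ⟨n, rfl⟩
  obtain ⟨i, h, hr⟩ := key n
  exact Set.mem_iUnion.2 ⟨i, hP n, h, hr⟩

end Groth.Agent.H4.FrobPoints
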