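import Groth.Prelude.Def_Coh

/-! Degree zero cohomology of the structure sheaf as global functions. -/

set_option autoImplicit false

universe u

open CategoryTheory Limits AlgebraicGeometry Opposite TopologicalSpace

namespace Groth.Agent.H4.HH0

/-- If `H^0(X, O_X)` is one-dimensional then every global function is constant. -/
theorem appTop_surjective (k : Type u) [Field k] (X : Scheme.{u}) [X.Over (Spec (CommRingCat.of k))]
    (h0 : Module.finrank k (Coh.HH X (Coh.structureModule X) 0) = 1) :
    Function.Surjective (X ↘ Spec (CommRingCat.of k)).appTop.hom := by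
  intro c
  let e : Coh.HH X (Coh.structureModule X) 0 ≃+ Γ(X, ⊤) :=
    Sheaf.H.equiv₀ (Coh.toAb (Coh.structureModule X)) (isTerminalTop (α := X.Opens))
  have hmul : ∀ (a : k) (d : Γ(X, ⊤)), e (a • e.symm d) =
      (X ↘ Spec (CommRingCat.of k)).appTop.hom ((Scheme.ΓSpecIso (CommRingCat.of k)).inv.hom a) * d := by
    intro a d
    change e (Sheaf.H.map (Coh.smulAb _ (Coh.toGlobal (X ↘ Spec (CommRingCat.of k)) a)) 0 (e.symm d)) = _
    refine (Sheaf.H.equiv₀_naturality _ _ _).symm.trans ?_
    refine (congrArg _ (e.apply_symm_apply d)).trans ?_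
    refine (Coh.smulAb_app _ _ _ _).trans ?_
    refine congrArg (· * d) ?_
    exact congrArg (fun φ : X.ringCatSheaf.obj.obj (op ⊤) ⟶ _ => φ.hom _) (X.ringCatSheaf.obj.map_id _)
  by_cases hone : (1 : Γ(X, ⊤)) = 0
  · exact ⟨0, by rw [map_zero, ← mul_one c, hone, mul_zero]⟩
  have hx : e.symm (1 : Γ(X, ⊤)) ≠ 0 := fun h => hone (by
    have := congrArg e h
    rwa [AddEquiv.apply_symm_apply, map_zero] at this)
  obtain ⟨a, ha⟩ := (finrank_eq_one_iff_of_nonzero' _ hx).1 h0 (e.symm c)
  refine ⟨(Scheme.ΓSpecIso (CommRingCat.of k)).inv.hom a, ?_⟩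
  have := congrArg e ha
  rw [hmul, AddEquiv.apply_symm_apply] at this
  exact (mul_one _).symm.trans this

/-- A morphism with image in an affine open, from a scheme with only constant functions, is constant. -/
theorem eq_const_of_range_subset {X Y : Scheme.{u}} {κ : Type u} [Field κ]
    (π : X ⟶ Spec (CommRingCat.of κ)) (hπ : Function.Surjective π.appTop.hom)
    (s : Spec (CommRingCat.of κ) ⟶ X) (hs : s ≫ π = 𝟙 _) (f : X ⟶ Y)
    {U : Y.Opens} (hU : IsAffineOpen U) (hf : Set.range f ⊆ (U : Set Y)) :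
    f = π ≫ s ≫ f := by
  haveI : IsAffine (U : Scheme.{u}) := hU
  have hf' : Set.range f ⊆ Set.range U.ι := by simpa using hf
  set g := IsOpenImmersion.lift U.ι f hf' with hg
  have hgι : g ≫ U.ι = f := IsOpenImmersion.lift_fac _ _ _
  have key : g = π ≫ s ≫ g := by
    apply ext_of_isAffine
    rw [Scheme.Hom.comp_appTop, Scheme.Hom.comp_appTop]
    ext a
    obtain ⟨b, hb⟩ := hπ (g.appTop.hom a)
    have e : π.appTop ≫ s.appTop = 𝟙 _ := by rw [← Scheme.Hom.comp_appTop, hs]; simp
    have := congr($(e).hom b)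
    simp only [CommRingCat.comp_apply, CommRingCat.id_apply] at this ⊢
    rw [← hb]
    exact congrArg _ this.symm
  rw [← hgι]
  conv_lhs => rw [key]
  simp only [Category.assoc]

end Groth.Agent.H4.HH0
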