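import Mathlib.RingTheory.HopfAlgebra.Convolution
import Mathlib.RingTheory.Ideal.Cotangent
import Mathlib.RingTheory.Derivation.Basic

/-! Derivations of a commutative Hopf algebra and linear forms on the cotangent space at the unit. -/

set_option autoImplicit false

universe u v w

open TensorProduct Coalgebra

namespace Groth.Agent.H4.HopfDer

variable {R : Type u} {A : Type v} {M : Type w} [CommRing R] [CommRing A] [HopfAlgebra R A]
  [AddCommGroup M] [Module R M] [Module A M] [IsScalarTower R A M]

variable (R A M) in
/-- `a ⊗ m ↦ a • m`. -/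
noncomputable def act : A ⊗[R] M →ₗ[R] M :=
  ((LinearMap.id (R := R) (M := M)).liftBaseChange A).restrictScalars R

theorem act_tmul (a : A) (m : M) : act R A M (a ⊗ₜ[R] m) = a • m := by
  simp [act]

/-- Convolution of a map to `A` with a map to `M`. -/
noncomputable def star (f : A →ₗ[R] A) (g : A →ₗ[R] M) : A →ₗ[R] M :=
  act R A M ∘ₗ TensorProduct.map f g ∘ₗ (comul (R := R) (A := A))

/-- `η ∘ ε`. -/
noncomputable def unitCounit (R : Type u) (A : Type v) [CommRing R] [CommRing A] [HopfAlgebra R A] :
    A →ₗ[R] A := Algebra.linearMap R A ∘ₗ counit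

theorem unitCounit_apply (a : A) : unitCounit R A a = algebraMap R A (counit (R := R) a) := rfl

theorem act_map_assoc (f g : A →ₗ[R] A) (h : A →ₗ[R] M) (w : A ⊗[R] A ⊗[R] A) :
    act R A M (TensorProduct.map f (act R A M ∘ₗ TensorProduct.map g h) (TensorProduct.assoc R A A A w)) =
      act R A M (TensorProduct.map (act R A A ∘ₗ TensorProduct.map f g) h w) := by
  induction w with
  | zero => simp
  | add x y hx hy => simp only [map_add, hx, hy]
  | tmul w c =>
    induction w with
    | zero => simp
    | add x y hx hy => simp only [TensorProduct.add_tmul, map_add, hx, hy]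
    | tmul a b => simp [act_tmul, smul_smul]

theorem star_assoc (f g : A →ₗ[R] A) (h : A →ₗ[R] M) : star f (star g h) = star (star f g) h := by
  ext a
  have h1 := act_map_assoc f g h ((comul (R := R) (A := A)).rTensor A (comul a))
  rw [coassoc_apply] at h1
  simp only [star, LinearMap.comp_apply]
  have e1 : ∀ z : A ⊗[R] A,
      TensorProduct.map f (act R A M ∘ₗ TensorProduct.map g h ∘ₗ comul) z =
        TensorProduct.map f (act R A M ∘ₗ TensorProduct.map g h) ((comul (R := R) (A := A)).lTensor A z) := by
    intro z
    induction z with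
    | zero => simp
    | add x y hx hy => simp only [map_add, hx, hy]
    | tmul p q => simp
  have e2 : ∀ z : A ⊗[R] A,
      TensorProduct.map (act R A A ∘ₗ TensorProduct.map f g ∘ₗ comul) h z =
        TensorProduct.map (act R A A ∘ₗ TensorProduct.map f g) h ((comul (R := R) (A := A)).rTensor A z) := by
    intro z
    induction z with
    | zero => simp
    | add x y hx hy => simp only [map_add, hx, hy]
    | tmul p q => simp
  rw [e1, e2]
  exact h1

theorem unit_star (h : A →ₗ[R] M) : star (unitCounit R A) h = h := by
  ext a
  have e : ∀ z : A ⊗[R] A, act R A M (TensorProduct.map (unitCounit R A) h z) =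
      h (TensorProduct.lid R A ((counit (R := R) (A := A)).rTensor A z)) := by
    intro z
    induction z with
    | zero => simp
    | add x y hx hy => simp only [map_add, hx, hy]
    | tmul p q => simp [act_tmul, unitCounit_apply]
  simp only [star, LinearMap.comp_apply]
  rw [e, rTensor_counit_comul]
  simp

theorem star_unit (f : A →ₗ[R] A) : star f (unitCounit R A) = f := by
  ext a
  have e : ∀ z : A ⊗[R] A, act R A A (TensorProduct.map f (unitCounit R A) z) =
      f (TensorProduct.rid R A ((counit (R := R) (A := A)).lTensor A z)) := by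
    intro z
    induction z with
    | zero => simp
    | add x y hx hy => simp only [map_add, hx, hy]
    | tmul p q =>
      simp only [TensorProduct.map_tmul, act_tmul, unitCounit_apply, LinearMap.lTensor_tmul,
        TensorProduct.rid_tmul, map_smul, smul_eq_mul]
      rw [Algebra.smul_def, mul_comm]
  simp only [star, LinearMap.comp_apply]
  rw [e, lTensor_counit_comul]
  simp

theorem antipode_star_id : star (HopfAlgebra.antipode R) (LinearMap.id : A →ₗ[R] A) = unitCounit R A := by
  ext a
  have e : ∀ z : A ⊗[R] A, act R A A (TensorProduct.map (HopfAlgebra.antipode R) LinearMap.id z) =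
      LinearMap.mul' R A ((HopfAlgebra.antipode R).rTensor A z) := by
    intro z
    induction z with
    | zero => simp
    | add x y hx hy => simp only [map_add, hx, hy]
    | tmul p q => simp [act_tmul]
  simp only [star, LinearMap.comp_apply]
  rw [e, HopfAlgebra.mul_antipode_rTensor_comul_apply]
  rfl

theorem id_star_antipode : star LinearMap.id (HopfAlgebra.antipode R : A →ₗ[R] A) = unitCounit R A := by
  ext a
  have e : ∀ z : A ⊗[R] A, act R A A (TensorProduct.map LinearMap.id (HopfAlgebra.antipode R) z) =
      LinearMap.mul' R A ((HopfAlgebra.antipode R).lTensor A z) := by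
    intro z
    induction z with
    | zero => simp
    | add x y hx hy => simp only [map_add, hx, hy]
    | tmul p q => simp [act_tmul]
  simp only [star, LinearMap.comp_apply]
  rw [e, HopfAlgebra.mul_antipode_lTensor_comul_apply]
  rfl

/-- A twisted Leibniz rule is preserved by convolution. -/
theorem star_leibniz (f u : A →ₗ[R] A) (g : A →ₗ[R] M) (hf : ∀ a b, f (a * b) = f a * f b)
    (hg : ∀ a b, g (a * b) = u a • g b + u b • g a) (a b : A) :
    star f g (a * b) = star f u a • star f g b + star f u b • star f g a := by
  simp only [star, LinearMap.comp_apply, Bialgebra.comul_mul]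
  generalize comul (R := R) a = x
  generalize comul (R := R) b = y
  induction x with
  | zero => simp
  | add x x' hx hx' => simp only [add_mul, map_add, hx, hx', add_smul, smul_add]; abel
  | tmul p q =>
    induction y with
    | zero => simp
    | add y y' hy hy' => simp only [mul_add, map_add, hy, hy', add_smul, smul_add]; abel
    | tmul r s =>
      simp only [Algebra.TensorProduct.tmul_mul_tmul, TensorProduct.map_tmul, act_tmul, hf, hg,
        smul_add, smul_smul, smul_eq_mul]
      congr 1 <;> ring_nf

variable (R A) in
/-- The augmentation ideal. -/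
abbrev aug : Ideal A := RingHom.ker (Bialgebra.counitAlgHom R A)

section Pi

variable (π : A →ₗ[R] (aug R A).Cotangent)
  (hπI : ∀ x : aug R A, π (x : A) = (aug R A).toCotangent x) (hπ1 : π 1 = 0)

theorem sub_counit_mem (a : A) : a - algebraMap R A (counit (R := R) a) ∈ aug R A := by
  rw [RingHom.mem_ker, map_sub, AlgHom.commutes]
  simp

include hπI hπ1 in
theorem pi_apply (a : A) : π a = (aug R A).toCotangent ⟨_, sub_counit_mem a⟩ := by
  rw [← hπI, map_sub, Algebra.algebraMap_eq_smul_one, map_smul, hπ1, smul_zero, sub_zero]

include hπI hπ1 in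
theorem pi_surjective : Function.Surjective π := fun x => by
  obtain ⟨y, rfl⟩ := (aug R A).toCotangent_surjective x
  exact ⟨y, hπI y⟩

include hπI hπ1 in
theorem pi_mul (a b : A) :
    π (a * b) = counit (R := R) a • π b + counit (R := R) b • π a := by
  have e : a * b = (a - algebraMap R A (counit (R := R) a)) * (b - algebraMap R A (counit (R := R) b)) +
      counit (R := R) a • b + counit (R := R) b • a - (counit (R := R) a * counit (R := R) b) • (1 : A) := by
    simp only [Algebra.smul_def, map_mul]
    ring
  have h0 : π ((a - algebraMap R A (counit (R := R) a)) * (b - algebraMap R A (counit (R := R) b))) = 0 := by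
    rw [hπI ⟨_, Ideal.mul_mem_left _ _ (sub_counit_mem b)⟩, Ideal.toCotangent_eq_zero, pow_two]
    exact Ideal.mul_mem_mul (sub_counit_mem a) (sub_counit_mem b)
  conv_lhs => rw [e]
  simp only [map_sub, map_add, map_smul, h0, hπ1, smul_zero, zero_add, sub_zero]

include hπI hπ1 in
theorem leibniz_of_form (l : (aug R A).Cotangent →ₗ[R] M) (a b : A) :
    star LinearMap.id (l ∘ₗ π) (a * b) =
      a • star LinearMap.id (l ∘ₗ π) b + b • star LinearMap.id (l ∘ₗ π) a := by
  have h := star_leibniz LinearMap.id (unitCounit R A) (l ∘ₗ π) (fun _ _ => rfl) (fun x y => by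
    simp only [LinearMap.comp_apply, pi_mul π hπI hπ1, map_add, map_smul, unitCounit_apply, algebraMap_smul]) a b
  rwa [star_unit] at h

include hπI hπ1 in
theorem form_injective {l l' : (aug R A).Cotangent →ₗ[R] M}
    (h : star LinearMap.id (l ∘ₗ π) = star LinearMap.id (l' ∘ₗ π)) : l = l' := by
  have h' := congrArg (star (HopfAlgebra.antipode R)) h
  rw [star_assoc, star_assoc, antipode_star_id, unit_star, unit_star] at h'
  ext x
  obtain ⟨a, rfl⟩ := pi_surjective π hπI hπ1 x
  exact LinearMap.congr_fun h' a

/-- The antipode is multiplicative. -/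
theorem antipode_mul (a b : A) :
    HopfAlgebra.antipode R (a * b) = HopfAlgebra.antipode R a * HopfAlgebra.antipode R b :=
  HopfAlgebra.antipode_mul_distrib a b

include hπI hπ1 in
theorem exists_form (D : Derivation R A M) :
    ∃ l : (aug R A).Cotangent →ₗ[R] M, star LinearMap.id (l ∘ₗ π) = D.toLinearMap := by
  set d : A →ₗ[R] M := star (HopfAlgebra.antipode R) D.toLinearMap with hd
  have hdmul : ∀ a b, d (a * b) = counit (R := R) a • d b + counit (R := R) b • d a := fun a b => by
    have := star_leibniz (HopfAlgebra.antipode R) LinearMap.id D.toLinearMap antipode_mul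
      (fun x y => D.leibniz x y) a b
    simpa only [antipode_star_id, unitCounit_apply, algebraMap_smul] using this
  have hd1 : d 1 = 0 := by
    have := hdmul 1 1
    simp only [_root_.mul_one, Bialgebra.counit_one, one_smul] at this
    exact left_eq_add.1 this
  have hker : LinearMap.ker π ≤ LinearMap.ker d := by
    intro a ha
    rw [LinearMap.mem_ker, pi_apply π hπI hπ1, Ideal.toCotangent_eq_zero] at ha
    change a - algebraMap R A (counit (R := R) a) ∈ aug R A ^ 2 at ha
    have h2 : ∀ y ∈ aug R A ^ 2, d y = 0 := by
      intro y hy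
      rw [pow_two] at hy
      refine Submodule.mul_induction_on hy (fun p hp q hq => ?_) fun p q hp hq => by rw [map_add, hp, hq, add_zero]
      rw [hdmul, show counit (R := R) p = 0 from hp, show counit (R := R) q = 0 from hq, zero_smul, zero_smul, add_zero]
    rw [LinearMap.mem_ker]
    have := h2 _ ha
    rwa [map_sub, Algebra.algebraMap_eq_smul_one, map_smul, hd1, smul_zero, sub_zero] at this
  let q := (LinearMap.quotKerEquivOfSurjective π (pi_surjective π hπI hπ1))
  refine ⟨(LinearMap.ker π).liftQ d hker ∘ₗ q.symm.toLinearMap, ?_⟩
  have : (LinearMap.ker π).liftQ d hker ∘ₗ q.symm.toLinearMap ∘ₗ π = d := by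
    ext a
    have : q.symm (π a) = Submodule.Quotient.mk a := by
      rw [LinearEquiv.symm_apply_eq]; rfl
    simp [this]
  rw [LinearMap.comp_assoc, this, hd, star_assoc, id_star_antipode, unit_star]

end Pi

end Groth.Agent.H4.HopfDer
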