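import Groth.Agent.H4.RatExt
import Groth.Agent.Lib.CartierDescent.Stalk
import Groth.Agent.Lib.Regular.UFD
import Groth.Agent.Lib.Cyc.SmoothReg
import Groth.Agent.Lib.GrpSch.SmoothReduced
import Mathlib.AlgebraicGeometry.EffectiveEpi
import Mathlib.AlgebraicGeometry.Geometrically.Integral
import Mathlib.CategoryTheory.Monoidal.Cartesian.Grp
import Mathlib.CategoryTheory.Monoidal.Cartesian.Over

/-!
# Indeterminacy of rational maps into group schemes is of pure codimension one
-/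

set_option autoImplicit false
universe u

open CategoryTheory CategoryTheory.Limits AlgebraicGeometry TopologicalSpace MonoidalCategory
  CartesianMonoidalCategory MonObj
open Groth.Agent.H26.SectionExtend
open Groth.Agent.Lib.CDivInt.Factorial Groth.Agent.Lib.CartierDescent

namespace Groth.Agent.H4.Indet

section General

variable {P : Scheme.{u}}

lemma fromSpecStalkOfMem_homOfLE {N N' : P.Opens} (h : N ≤ N') {p : P} (hp : p ∈ N) :
    N.fromSpecStalkOfMem p hp ≫ P.homOfLE h = N'.fromSpecStalkOfMem p (h hp) := by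
  rw [← cancel_mono N'.ι, Category.assoc, Scheme.homOfLE_ι, Scheme.Opens.fromSpecStalkOfMem_ι,
    Scheme.Opens.fromSpecStalkOfMem_ι]

lemma specMap_fromSpecStalkOfMem {N : P.Opens} {p z : P} (h : z ⤳ p) (hp : p ∈ N) :
    Spec.map (P.presheaf.stalkSpecializes h) ≫ N.fromSpecStalkOfMem p hp =
      N.fromSpecStalkOfMem z (h.mem_open N.2 hp) := by
  rw [← cancel_mono N.ι, Category.assoc, Scheme.Opens.fromSpecStalkOfMem_ι,
    Scheme.SpecMap_stalkSpecializes_fromSpecStalk, Scheme.Opens.fromSpecStalkOfMem_ι]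

lemma fromSpecStalkOfMem_apply {N : P.Opens} {p : P} (hp : p ∈ N) :
    N.fromSpecStalkOfMem p hp (IsLocalRing.closedPoint _) = ⟨p, hp⟩ := by
  apply Subtype.ext
  change (N.fromSpecStalkOfMem p hp ≫ N.ι) (IsLocalRing.closedPoint _) = p
  rw [Scheme.Opens.fromSpecStalkOfMem_ι, Scheme.fromSpecStalk_closedPoint]

variable [IsIntegral P]

lemma gp_mem {N : P.Opens} {p : P} (hp : p ∈ N) : genericPoint P ∈ N :=
  ((genericPoint_spec P).specializes trivial).mem_open N.2 hp

lemma isDominant_fromSpecStalkOfMem {N : P.Opens} (hη : genericPoint P ∈ N) :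
    IsDominant (N.fromSpecStalkOfMem (genericPoint P) hη) := by
  rw [isDominant_iff]
  intro w
  have h1 : (⟨genericPoint P, hη⟩ : (N : Scheme.{u})) ⤳ w :=
    N.ι.isEmbedding.isInducing.specializes_iff.mp ((genericPoint_spec P).specializes trivial)
  refine closure_mono ?_ (specializes_iff_mem_closure.mp h1)
  rintro _ rfl
  exact ⟨_, fromSpecStalkOfMem_apply hη⟩

lemma eq_of_generic {G S : Scheme.{u}} (s : G ⟶ S) [IsSeparated s] {N : P.Opens}
    (hη : genericPoint P ∈ N) {g g' : (N : Scheme.{u}) ⟶ G} (hg : g ≫ s = g' ≫ s)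
    (h : N.fromSpecStalkOfMem (genericPoint P) hη ≫ g =
      N.fromSpecStalkOfMem (genericPoint P) hη ≫ g') : g = g' := by
  have := isDominant_fromSpecStalkOfMem hη
  exact ext_of_isDominant_of_isSeparated s hg _ h

/-- A morphism near `p` gives that the generic point of a morphism sends the local ring of the
image into the local ring at `p`. -/
lemma range_subset {G : Scheme.{u}} {N : P.Opens} {p : P} (hp : p ∈ N)
    (h : (N : Scheme.{u}) ⟶ G) {e : G} (he : h ⟨p, hp⟩ = e)
    (θ : G.presheaf.stalk e ⟶ P.functionField)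
    (hθ : Spec.map θ ≫ G.fromSpecStalk e = N.fromSpecStalkOfMem (genericPoint P) (gp_mem hp) ≫ h)
    (w : G.presheaf.stalk e) :
    ∃ a : P.presheaf.stalk p, algebraMap (P.presheaf.stalk p) P.functionField a = θ w := by
  subst he
  let b := N.fromSpecStalkOfMem p hp ≫ h
  have hb : b (IsLocalRing.closedPoint _) = h ⟨p, hp⟩ := by
    simp only [b, Scheme.Hom.comp_apply, fromSpecStalkOfMem_apply]
  let ψ : G.presheaf.stalk (h ⟨p, hp⟩) ⟶ P.presheaf.stalk p :=
    G.presheaf.stalkSpecializes (Inseparable.of_eq hb).specializes ≫ Scheme.stalkClosedPointTo b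
  have hsp : genericPoint P ⤳ p := (genericPoint_spec P).specializes trivial
  have : θ = ψ ≫ P.presheaf.stalkSpecializes hsp := by
    apply Spec.map_injective
    rw [← cancel_mono (G.fromSpecStalk _), hθ, Spec.map_comp, Category.assoc, Spec.map_comp,
      Category.assoc, Scheme.SpecMap_stalkSpecializes_fromSpecStalk,
      Scheme.Spec_stalkClosedPointTo_fromSpecStalk]
    simp only [b]
    rw [← specMap_fromSpecStalkOfMem hsp hp, Category.assoc]
  exact ⟨ψ w, by rw [this]; rfl⟩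

end General

section Group

variable {K : Type u} [Field K] {X G : Over (Spec (CommRingCat.of K))}

/-- an open of `X` over the base -/
noncomputable abbrev sub (W : X.left.Opens) : Over (Spec (CommRingCat.of K)) := Over.mk (W.ι ≫ X.hom)

lemma left_eq_of_agree {U V : X.left.Opens} {f : sub U ⟶ G} {g : sub V ⟶ G}
    (h : X.left.homOfLE (inf_le_right : U ⊓ V ≤ V) ≫ g.left =
      X.left.homOfLE (inf_le_left : U ⊓ V ≤ U) ≫ f.left)
    {T : Over (Spec (CommRingCat.of K))} (t : T ⟶ sub U) (t' : T ⟶ sub V)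
    (ht : t.left ≫ U.ι = t'.left ≫ V.ι) : t ≫ f = t' ≫ g := by
  have hr : ∀ z, (t.left ≫ U.ι) z ∈ U ⊓ V := fun z =>
    ⟨(t.left z).2, by rw [ht]; exact (t'.left z).2⟩
  obtain ⟨c, hc⟩ := exists_lift_opens (t.left ≫ U.ι) (U ⊓ V) hr
  apply Over.OverMorphism.ext
  have h1 : c ≫ X.left.homOfLE (inf_le_left : U ⊓ V ≤ U) = t.left := by
    rw [← cancel_mono U.ι, Category.assoc, Scheme.homOfLE_ι, hc]
  have h2 : c ≫ X.left.homOfLE (inf_le_right : U ⊓ V ≤ V) = t'.left := by
    rw [← cancel_mono V.ι, Category.assoc, Scheme.homOfLE_ι, hc, ht]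
  rw [Over.comp_left, Over.comp_left, ← h1, ← h2, Category.assoc, Category.assoc, h]

variable (X) in
/-- the square -/
noncomputable abbrev sq : Scheme.{u} := pullback X.hom X.hom

variable (X) in
/-- its structure map -/
noncomputable abbrev sqHom : sq X ⟶ Spec (CommRingCat.of K) := pullback.fst X.hom X.hom ≫ X.hom

/-- an open of the square over the base -/
noncomputable abbrev subP (N : (sq X).Opens) : Over (Spec (CommRingCat.of K)) := Over.mk (N.ι ≫ sqHom X)

/-- first projection on an open -/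
noncomputable def prA {N : (sq X).Opens} {U : X.left.Opens} (h : N ≤ pullback.fst X.hom X.hom ⁻¹ᵁ U) :
    subP N ⟶ sub U :=
  Over.homMk ((pullback.fst X.hom X.hom).resLE U N h) (by
    change _ ≫ U.ι ≫ X.hom = N.ι ≫ pullback.fst X.hom X.hom ≫ X.hom
    rw [Scheme.Hom.resLE_comp_ι_assoc])

/-- second projection on an open -/
noncomputable def prB {N : (sq X).Opens} {U : X.left.Opens} (h : N ≤ pullback.snd X.hom X.hom ⁻¹ᵁ U) :
    subP N ⟶ sub U :=
  Over.homMk ((pullback.snd X.hom X.hom).resLE U N h) (by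
    change _ ≫ U.ι ≫ X.hom = N.ι ≫ pullback.fst X.hom X.hom ≫ X.hom
    rw [Scheme.Hom.resLE_comp_ι_assoc, pullback.condition])

lemma prA_ι {N : (sq X).Opens} {U : X.left.Opens} (h : N ≤ pullback.fst X.hom X.hom ⁻¹ᵁ U) :
    (prA h).left ≫ U.ι = N.ι ≫ pullback.fst X.hom X.hom := Scheme.Hom.resLE_comp_ι _ _

lemma prB_ι {N : (sq X).Opens} {U : X.left.Opens} (h : N ≤ pullback.snd X.hom X.hom ⁻¹ᵁ U) :
    (prB h).left ≫ U.ι = N.ι ≫ pullback.snd X.hom X.hom := Scheme.Hom.resLE_comp_ι _ _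

/-- the inclusion of opens -/
noncomputable def incl {N N' : (sq X).Opens} (h : N ≤ N') : subP N ⟶ subP N' :=
  Over.homMk ((sq X).homOfLE h) (by simp)

/-- the diagonal -/
noncomputable abbrev diag (X : Over (Spec (CommRingCat.of K))) : X.left ⟶ sq X :=
  pullback.diagonal X.hom

variable [GrpObj G]

/-- the difference map -/
noncomputable def diff {U V : X.left.Opens} (f : sub U ⟶ G) (g : sub V ⟶ G) :
    subP (pullback.fst X.hom X.hom ⁻¹ᵁ U ⊓ pullback.snd X.hom X.hom ⁻¹ᵁ V) ⟶ G :=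
  (prA inf_le_left ≫ f) * (prB inf_le_right ≫ g)⁻¹

variable [IsSeparated X.hom]

lemma diff_diag {U : X.left.Opens} (f : sub U ⟶ G) {p : X.left} (hp : p ∈ U)
    (hp' : diag X p ∈ pullback.fst X.hom X.hom ⁻¹ᵁ U ⊓ pullback.snd X.hom X.hom ⁻¹ᵁ U) :
    (diff f f).left ⟨diag X p, hp'⟩ = η[G].left (IsLocalRing.closedPoint K) := by
  set N := pullback.fst X.hom X.hom ⁻¹ᵁ U ⊓ pullback.snd X.hom X.hom ⁻¹ᵁ U
  obtain ⟨j, hj⟩ := exists_lift_opens (U.ι ≫ diag X) N fun z => by
    refine ⟨?_, ?_⟩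
    · change pullback.fst X.hom X.hom ((U.ι ≫ diag X) z) ∈ U
      rw [← Scheme.Hom.comp_apply, Category.assoc, pullback.diagonal_fst, Category.comp_id]
      exact z.2
    · change pullback.snd X.hom X.hom ((U.ι ≫ diag X) z) ∈ U
      rw [← Scheme.Hom.comp_apply, Category.assoc, pullback.diagonal_snd, Category.comp_id]
      exact z.2
  let J : sub U ⟶ subP N := Over.homMk j (by
    change j ≫ N.ι ≫ pullback.fst X.hom X.hom ≫ X.hom = U.ι ≫ X.hom
    rw [reassoc_of% hj, pullback.diagonal_fst_assoc])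
  have hA : J ≫ prA (inf_le_left : N ≤ _) = 𝟙 (sub U) := by
    apply Over.OverMorphism.ext
    rw [← cancel_mono U.ι]
    change (j ≫ (prA inf_le_left).left) ≫ U.ι = _
    rw [Category.assoc, prA_ι, reassoc_of% hj, pullback.diagonal_fst]
    simp
  have hB : J ≫ prB (inf_le_right : N ≤ _) = 𝟙 (sub U) := by
    apply Over.OverMorphism.ext
    rw [← cancel_mono U.ι]
    change (j ≫ (prB inf_le_right).left) ≫ U.ι = _
    rw [Category.assoc, prB_ι, reassoc_of% hj, pullback.diagonal_snd]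
    simp
  have h1 : J ≫ diff f f = toUnit _ ≫ η[G] := by
    rw [diff, MonObj.comp_mul, GrpObj.comp_inv, reassoc_of% hA, reassoc_of% hB, mul_inv_cancel,
      Hom.one_def]
  have h2 : j ⟨p, hp⟩ = ⟨diag X p, hp'⟩ := by
    apply Subtype.ext
    change (j ≫ N.ι) _ = _
    rw [hj]
    rfl
  have h3 := congr(($h1).left ⟨p, hp⟩)
  rw [Over.comp_left, Scheme.Hom.comp_apply, Over.comp_left, Scheme.Hom.comp_apply] at h3
  change (diff f f).left (j ⟨p, hp⟩) = η[G].left _ at h3
  rw [h2] at h3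
  rw [h3]
  exact congrArg η[G].left (Subsingleton.elim (α := PrimeSpectrum K) _ _)

variable [Smooth X.hom] [GeometricallyIntegral X.hom] [QuasiCompact X.hom]
variable [IsSeparated G.hom] [LocallyOfFiniteType G.hom]

omit [GrpObj G] [IsSeparated X.hom] [Smooth X.hom] [GeometricallyIntegral X.hom] [QuasiCompact X.hom]
  [IsSeparated G.hom] [LocallyOfFiniteType G.hom] in
/-- morphisms from the generic point agree -/
lemma gen_hom (N : (sq X).Opens) (h : subP N ⟶ G) : h.left ≫ G.hom = N.ι ≫ sqHom X := Over.w h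

/-- descent along the first projection -/
lemma descend {U : X.left.Opens} (f : sub U ⟶ G) (hU : (U : Set X.left).Nonempty)
    [IsIntegral X.left] [IsIntegral (sq X)] (M : (sq X).Opens)
    (h : subP M ⟶ G) (hgen : genericPoint (sq X) ∈ M)
    (hM : genericPoint (sq X) ∈ pullback.fst X.hom X.hom ⁻¹ᵁ U)
    (heq : M.fromSpecStalkOfMem _ hgen ≫ h.left =
      (pullback.fst X.hom X.hom ⁻¹ᵁ U).fromSpecStalkOfMem _ hM ≫
        (pullback.fst X.hom X.hom).resLE U _ le_rfl ≫ f.left)
    (x : X.left) (ξ : sq X) (hξ : ξ ∈ M) (hξx : pullback.fst X.hom X.hom ξ = x) :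
    ∃ (V : X.left.Opens) (g : (V : Scheme.{u}) ⟶ G.left), x ∈ V ∧ g ≫ G.hom = V.ι ≫ X.hom ∧
      X.left.homOfLE (inf_le_right : U ⊓ V ≤ V) ≫ g =
        X.left.homOfLE (inf_le_left : U ⊓ V ≤ U) ≫ f.left := by
  set fs := pullback.fst X.hom X.hom
  obtain ⟨_, ⟨V', hV', rfl⟩, hxV', -⟩ := X.left.isBasis_affineOpens.exists_subset_of_mem_open
    (Set.mem_univ x) isOpen_univ
  obtain ⟨_, ⟨M', hM', rfl⟩, hξM', hM'sub⟩ := (sq X).isBasis_affineOpens.exists_subset_of_mem_open
    (show ξ ∈ M ⊓ fs ⁻¹ᵁ V' from ⟨hξ, show fs ξ ∈ V' by rw [hξx]; exact hxV'⟩) (M ⊓ fs ⁻¹ᵁ V').2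
  obtain ⟨r, hr, hxr⟩ := hV'.exists_basicOpen_le (V := ⟨fs '' (M' : Set (sq X)), fs.isOpenMap _ M'.2⟩)
    ⟨x, ξ, hξM', hξx⟩ hxV'
  set V'' : X.left.Opens := X.left.basicOpen r with hV''def
  set M'' : (sq X).Opens := M' ⊓ fs ⁻¹ᵁ V''
  have hM''aff : IsAffineOpen M'' := by
    have := hM'.basicOpen ((fs.appLE V' M' (fun z hz => (hM'sub hz).2)) r)
    rwa [Scheme.basicOpen_appLE] at this
  have hM''M : M'' ≤ M := fun z hz => (hM'sub hz.1).1
  let π : (M'' : Scheme.{u}) ⟶ V'' := fs.resLE V'' M'' inf_le_right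
  have hπι : π ≫ V''.ι = M''.ι ≫ fs := Scheme.Hom.resLE_comp_ι _ _
  haveI : Smooth π := IsZariskiLocalAtSource.resLE (P := @Smooth) _ inferInstance
  haveI : Surjective π := ⟨fun v => by
    obtain ⟨m, hm, hmv⟩ := hr v.2
    have hm'' : m ∈ M'' := ⟨hm, show fs m ∈ V'' by rw [hmv]; exact v.2⟩
    refine ⟨⟨m, hm''⟩, Subtype.ext ?_⟩
    change (π ≫ V''.ι) ⟨m, hm''⟩ = v.1
    rw [hπι]
    exact hmv⟩
  haveI : IsAffine (M'' : Scheme.{u}) := hM''aff
  haveI : IsAffine (V'' : Scheme.{u}) := hV'.basicOpen r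
  haveI : Nonempty (V'' : Scheme.{u}) := ⟨⟨x, hxr⟩⟩
  haveI : IsIntegral (V'' : Scheme.{u}) := isIntegral_of_isOpenImmersion V''.ι
  let hM'' : (M'' : Scheme.{u}) ⟶ G.left := (sq X).homOfLE hM''M ≫ h.left
  have hover : hM'' ≫ G.hom = π ≫ V''.ι ≫ X.hom := by
    rw [reassoc_of% hπι]
    simp only [hM'', Category.assoc, Over.w h]
    exact Scheme.homOfLE_ι_assoc _ _ _
  let T : (V'' : Scheme.{u}).Opens := V''.ι ⁻¹ᵁ U
  haveI hTd : Dense (T : Set (V'' : Scheme.{u})) := by
    refine T.2.dense ?_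
    have h2 : genericPoint X.left ∈ U := by
      obtain ⟨u₀, hu₀⟩ := hU
      exact gp_mem hu₀
    exact ⟨⟨genericPoint X.left, gp_mem (show x ∈ V'' from hxr)⟩, h2⟩
  have hkey : ∀ {Z : Scheme.{u}} (c : Z ⟶ (M'' : Scheme.{u})) (t : Z ⟶ (U : Scheme.{u})),
      t ≫ U.ι = c ≫ π ≫ V''.ι → c ≫ hM'' = t ≫ f.left := by
    intro Z c t ht
    set O : (sq X).Opens := M'' ⊓ fs ⁻¹ᵁ U
    have hgenO : genericPoint (sq X) ∈ O := ⟨gp_mem (show ξ ∈ M'' from
      ⟨hξM', show fs ξ ∈ V'' by rw [hξx]; exact hxr⟩), hM⟩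
    have e1 : (sq X).homOfLE (inf_le_left.trans hM''M : O ≤ M) ≫ h.left =
        fs.resLE U O inf_le_right ≫ f.left := by
      refine eq_of_generic G.hom hgenO ?_ ?_
      · rw [Category.assoc, Category.assoc, Over.w h, Over.w f]
        change _ ≫ M.ι ≫ fs ≫ X.hom = _ ≫ U.ι ≫ X.hom
        rw [Scheme.homOfLE_ι_assoc, Scheme.Hom.resLE_comp_ι_assoc]
      · rw [← Category.assoc, fromSpecStalkOfMem_homOfLE, heq,
          ← fromSpecStalkOfMem_homOfLE (inf_le_right : O ≤ fs ⁻¹ᵁ U) hgenO]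
        simp only [Category.assoc]
        congr 1
        rw [← Category.assoc]
        congr 1
        rw [← cancel_mono U.ι]
        simp [Scheme.Hom.resLE_comp_ι, Scheme.Hom.resLE_comp_ι_assoc, fs]
        rfl
    obtain ⟨l, hl⟩ := exists_lift_opens (c ≫ M''.ι) O fun z => ⟨(c z).2, by
      change fs ((c ≫ M''.ι) z) ∈ U
      rw [← Scheme.Hom.comp_apply, Category.assoc, ← hπι, ← ht]
      exact (t z).2⟩
    have l1 : l ≫ (sq X).homOfLE (inf_le_left : O ≤ M'') = c := by
      rw [← cancel_mono M''.ι, Category.assoc, Scheme.homOfLE_ι, hl]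
    have l2 : l ≫ fs.resLE U O inf_le_right = t := by
      rw [← cancel_mono U.ι, Category.assoc, Scheme.Hom.resLE_comp_ι, reassoc_of% hl, ht, hπι]
    simp only [hM'']
    rw [← l1, ← l2, Category.assoc, Category.assoc, ← e1, Scheme.homOfLE_homOfLE_assoc]
  have hw : pullback.fst π π ≫ hM'' = pullback.snd π π ≫ hM'' := by
    haveI : Smooth (pullback.fst π π ≫ π) := inferInstance
    haveI : Smooth ((pullback.fst π π ≫ π) ≫ V''.ι ≫ X.hom) := inferInstance
    haveI : IsReduced (pullback π π) :=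
      Groth.Agent.Lib.GrpSch.isReduced_of_smooth_field ((pullback.fst π π ≫ π) ≫ V''.ι ≫ X.hom)
    let ρ := pullback.fst π π ≫ π
    haveI : IsDominant (ρ ⁻¹ᵁ T).ι := Opens.isDominant_ι (hTd.preimage ρ.isOpenMap)
    refine ext_of_isDominant_of_isSeparated G.hom ?_ (ρ ⁻¹ᵁ T).ι ?_
    · rw [Category.assoc, hover, Category.assoc, hover, pullback.condition_assoc]
    · let t : (ρ ⁻¹ᵁ T : Scheme.{u}) ⟶ U := ρ.resLE T _ le_rfl ≫ V''.ι.resLE U T le_rfl
      have ht : t ≫ U.ι = (ρ ⁻¹ᵁ T).ι ≫ ρ ≫ V''.ι := by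
        simp only [t, Category.assoc, Scheme.Hom.resLE_comp_ι, Scheme.Hom.resLE_comp_ι_assoc]
      rw [← Category.assoc, hkey _ t (by rw [ht]; simp only [ρ, Category.assoc]),
        ← Category.assoc, hkey _ t (by rw [ht]; simp only [ρ, Category.assoc, pullback.condition_assoc])]
  haveI := isRegularEpi_of_flat_of_surjective_of_isAffine π
  obtain ⟨g, hg⟩ := IsRegularEpi.exists_of_isKernelPair π (IsPullback.of_hasPullback π π) hM'' hw
  refine ⟨V'', g, hxr, ?_, ?_⟩
  · rw [← cancel_epi π, reassoc_of% hg, hover]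
  · set W : X.left.Opens := U ⊓ V''
    let T' : (V'' : Scheme.{u}).Opens := V''.ι ⁻¹ᵁ U
    let a : (π ⁻¹ᵁ T' : Scheme.{u}) ⟶ W := π.resLE T' _ le_rfl ≫ V''.ι.resLE W T'
      (fun z hz => ⟨hz, z.2⟩)
    haveI : IsDominant a := by
      rw [isDominant_iff]
      refine Function.Surjective.denseRange fun w => ?_
      obtain ⟨m, hm⟩ := Surjective.surj (f := π) ⟨w.1, w.2.2⟩
      refine ⟨⟨m, show V''.ι (π m) ∈ U by rw [hm]; exact w.2.1⟩, Subtype.ext ?_⟩
      change (a ≫ W.ι) _ = w.1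
      simp only [a, Category.assoc, Scheme.Hom.resLE_comp_ι, Scheme.Hom.resLE_comp_ι_assoc]
      change V''.ι (π m) = w.1
      rw [hm]; rfl
    haveI : IsReduced (W : Scheme.{u}) := isReduced_of_isOpenImmersion W.ι
    have hfG : f.left ≫ G.hom = U.ι ≫ X.hom := Over.w f
    have hgG : g ≫ G.hom = V''.ι ≫ X.hom := by rw [← cancel_epi π, reassoc_of% hg, hover]
    refine ext_of_isDominant_of_isSeparated G.hom ?_ a ?_
    · simp only [Category.assoc, hfG, hgG, Scheme.homOfLE_ι_assoc]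
    · have e : a ≫ X.left.homOfLE (inf_le_right : W ≤ V'') = (π ⁻¹ᵁ T').ι ≫ π := by
        rw [← cancel_mono V''.ι]
        simp only [a, Category.assoc, Scheme.homOfLE_ι, Scheme.Hom.resLE_comp_ι,
          Scheme.Hom.resLE_comp_ι_assoc]
      rw [reassoc_of% e, hg]
      rw [hkey _ (a ≫ X.left.homOfLE (inf_le_left : W ≤ U)) (by
        rw [← reassoc_of% e]; simp only [Category.assoc, Scheme.homOfLE_ι]), Category.assoc]

/-- the generic point of the square, in an open -/
noncomputable def gen [IsIntegral (sq X)] {N : (sq X).Opens} (h : genericPoint (sq X) ∈ N) :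
    Over.mk ((sq X).fromSpecStalk (genericPoint (sq X)) ≫ sqHom X) ⟶ subP N :=
  Over.homMk (N.fromSpecStalkOfMem _ h) (by
    change _ ≫ N.ι ≫ sqHom X = _
    rw [Scheme.Opens.fromSpecStalkOfMem_ι_assoc]
    rfl)

omit [GrpObj G] [IsSeparated X.hom] [Smooth X.hom] [GeometricallyIntegral X.hom] [QuasiCompact X.hom]
  [IsSeparated G.hom] [LocallyOfFiniteType G.hom] in
lemma gen_incl [IsIntegral (sq X)] {N N' : (sq X).Opens} (hle : N ≤ N')
    (h : genericPoint (sq X) ∈ N) : gen h ≫ incl hle = gen (hle h) :=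
  Over.OverMorphism.ext (fromSpecStalkOfMem_homOfLE hle h)

omit [GrpObj G] [IsSeparated X.hom] [Smooth X.hom] [GeometricallyIntegral X.hom] [QuasiCompact X.hom]
  [IsSeparated G.hom] [LocallyOfFiniteType G.hom] in
lemma gen_prA_ι [IsIntegral (sq X)] {N : (sq X).Opens} {U : X.left.Opens}
    (hle : N ≤ pullback.fst X.hom X.hom ⁻¹ᵁ U) (h : genericPoint (sq X) ∈ N) :
    (gen h ≫ prA hle).left ≫ U.ι =
      (sq X).fromSpecStalk (genericPoint (sq X)) ≫ pullback.fst X.hom X.hom := by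
  rw [Over.comp_left, Category.assoc, prA_ι]
  exact Scheme.Opens.fromSpecStalkOfMem_ι_assoc _ _ _ _

omit [GrpObj G] [IsSeparated X.hom] [Smooth X.hom] [GeometricallyIntegral X.hom] [QuasiCompact X.hom]
  [IsSeparated G.hom] [LocallyOfFiniteType G.hom] in
lemma gen_prB_ι [IsIntegral (sq X)] {N : (sq X).Opens} {U : X.left.Opens}
    (hle : N ≤ pullback.snd X.hom X.hom ⁻¹ᵁ U) (h : genericPoint (sq X) ∈ N) :
    (gen h ≫ prB hle).left ≫ U.ι =
      (sq X).fromSpecStalk (genericPoint (sq X)) ≫ pullback.snd X.hom X.hom := by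
  rw [Over.comp_left, Category.assoc, prB_ι]
  exact Scheme.Opens.fromSpecStalkOfMem_ι_assoc _ _ _ _

lemma height_span_prime {R : Type u} [CommRing R] [IsDomain R] [IsNoetherianRing R] {q : R}
    (hq : Prime q) : (Ideal.span {q}).height = 1 := by
  haveI : (Ideal.span {q}).IsPrime := (Ideal.span_singleton_prime hq.ne_zero).mpr hq
  refine le_antisymm ?_ (Order.one_le_iff_ne_zero.mpr fun e =>
    (Ideal.span_singleton_eq_bot.not.mpr hq.ne_zero) (Ideal.height_eq_zero_iff_eq_bot.mp e))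
  exact Ideal.height_le_one_of_isPrincipal_of_mem_minimalPrimes (Ideal.span {q}) _
    (by simp [Ideal.minimalPrimes_eq_subsingleton_self])

set_option maxHeartbeats 1600000 in
/-- A rational map to a group scheme undefined at a point is undefined at a codimension one
generization of it. -/
theorem exists_codimOne (U : X.left.Opens) (hU : (U : Set X.left).Nonempty)
    (f : (U : Scheme.{u}) ⟶ G.left) (hf : f ≫ G.hom = U.ι ≫ X.hom) (x : X.left)
    (hx : ∀ (V : X.left.Opens) (g : (V : Scheme.{u}) ⟶ G.left), x ∈ V → g ≫ G.hom = V.ι ≫ X.hom →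
      X.left.homOfLE (inf_le_right : U ⊓ V ≤ V) ≫ g ≠ X.left.homOfLE (inf_le_left : U ⊓ V ≤ U) ≫ f) :
    ∃ y : X.left, x ∈ closure ({y} : Set X.left) ∧ ringKrullDim (X.left.presheaf.stalk y) = 1 ∧
      ∀ (V : X.left.Opens) (g : (V : Scheme.{u}) ⟶ G.left), y ∈ V → g ≫ G.hom = V.ι ≫ X.hom →
      X.left.homOfLE (inf_le_right : U ⊓ V ≤ V) ≫ g ≠ X.left.homOfLE (inf_le_left : U ⊓ V ≤ U) ≫ f := by
  classical
  haveI : IsLocallyNoetherian X.left := LocallyOfFiniteType.isLocallyNoetherian X.hom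
  haveI : IsIntegral X.left := GeometricallyIntegral.isIntegral_of_subsingleton X.hom
  haveI : UniversallyOpen X.hom := UniversallyOpen.of_flat X.hom
  haveI : IsIntegral (sq X) := inferInstance
  haveI : Smooth (sqHom X) := inferInstance
  haveI : IsLocallyNoetherian (sq X) := LocallyOfFiniteType.isLocallyNoetherian (sqHom X)
  let F : sub U ⟶ G := Over.homMk f hf
  set fs := pullback.fst X.hom X.hom with hfs
  set sn := pullback.snd X.hom X.hom with hsn
  set N₀ : (sq X).Opens := fs ⁻¹ᵁ U ⊓ sn ⁻¹ᵁ U with hN₀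
  set ζ := genericPoint (sq X) with hζ
  have hmem : ∀ {V : X.left.Opens} {p : X.left}, p ∈ V →
      diag X p ∈ fs ⁻¹ᵁ V ⊓ sn ⁻¹ᵁ V := by
    intro V p hp
    refine ⟨?_, ?_⟩
    · change fs (diag X p) ∈ V
      rw [← Scheme.Hom.comp_apply, pullback.diagonal_fst]
      exact hp
    · change sn (diag X p) ∈ V
      rw [← Scheme.Hom.comp_apply, pullback.diagonal_snd]
      exact hp
  have hξU : genericPoint X.left ∈ U := by obtain ⟨u₀, hu₀⟩ := hU; exact gp_mem hu₀
  have hδ := hmem hξU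
  have hζN : ζ ∈ N₀ := gp_mem hδ
  let e : G.left := η[G].left (IsLocalRing.closedPoint K)
  let Φ₀ := diff F F
  have heδ : Φ₀.left ⟨_, hδ⟩ = e := diff_diag F hξU hδ
  let b₀ := N₀.fromSpecStalkOfMem ζ hζN ≫ Φ₀.left
  have hb₀ : b₀ (IsLocalRing.closedPoint _) ⤳ e := by
    rw [← heδ]
    simp only [b₀, Scheme.Hom.comp_apply, fromSpecStalkOfMem_apply]
    exact (N₀.ι.isEmbedding.isInducing.specializes_iff.mp
      ((genericPoint_spec (sq X)).specializes trivial)).map Φ₀.left.continuous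
  let θ : G.left.presheaf.stalk e ⟶ (sq X).functionField :=
    G.left.presheaf.stalkSpecializes hb₀ ≫ Scheme.stalkClosedPointTo b₀
  have hθ : Spec.map θ ≫ G.left.fromSpecStalk e = b₀ := by
    simp only [θ]
    rw [Spec.map_comp, Category.assoc, Scheme.SpecMap_stalkSpecializes_fromSpecStalk,
      Scheme.Spec_stalkClosedPointTo_fromSpecStalk]
  -- the difference map of any extension has the same generic value
  have hreg : ∀ (V : X.left.Opens) (g : (V : Scheme.{u}) ⟶ G.left), g ≫ G.hom = V.ι ≫ X.hom →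
      X.left.homOfLE (inf_le_right : U ⊓ V ≤ V) ≫ g = X.left.homOfLE (inf_le_left : U ⊓ V ≤ U) ≫ f →
      ∀ p ∈ V, ∀ w, ∃ a, algebraMap ((sq X).presheaf.stalk (diag X p)) (sq X).functionField a = θ w := by
    intro V g hg hfg p hp w
    let Gm : sub V ⟶ G := Over.homMk g hg
    have hp' := hmem hp
    refine range_subset hp' (diff Gm Gm).left (diff_diag Gm hp hp') θ ?_ w
    rw [hθ]
    have hζ₁ : ζ ∈ fs ⁻¹ᵁ V ⊓ sn ⁻¹ᵁ V := gp_mem hp'
    have hA : gen hζN ≫ prA inf_le_left ≫ F = gen hζ₁ ≫ prA inf_le_left ≫ Gm :=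
      ((Category.assoc _ _ _).symm.trans (left_eq_of_agree (f := F) (g := Gm) hfg
        (gen hζN ≫ prA inf_le_left) (gen hζ₁ ≫ prA inf_le_left) (by rw [gen_prA_ι, gen_prA_ι]))).trans
        (Category.assoc _ _ _)
    have hB : gen hζN ≫ prB inf_le_right ≫ F = gen hζ₁ ≫ prB inf_le_right ≫ Gm :=
      ((Category.assoc _ _ _).symm.trans (left_eq_of_agree (f := F) (g := Gm) hfg
        (gen hζN ≫ prB inf_le_right) (gen hζ₁ ≫ prB inf_le_right) (by rw [gen_prB_ι, gen_prB_ι]))).trans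
        (Category.assoc _ _ _)
    have key : gen hζN ≫ diff F F = gen hζ₁ ≫ diff Gm Gm := by
      rw [diff, diff, MonObj.comp_mul, MonObj.comp_mul, GrpObj.comp_inv, GrpObj.comp_inv, hA, hB]
    exact congr(($key).left)
  set O := (sq X).presheaf.stalk (diag X x) with hO
  haveI hOreg : IsRegularLocalRing ((sq X).presheaf.stalk (diag X x)) :=
    Groth.Agent.Lib.Cyc.SmoothReg.isRegularLocalRing_stalk (sqHom X) _
  haveI : UniqueFactorizationMonoid ((sq X).presheaf.stalk (diag X x)) :=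
    Groth.Agent.Lib.Regular.UFD.uniqueFactorizationMonoid _
  by_cases hall : ∀ w, ∃ a, algebraMap ((sq X).presheaf.stalk (diag X x)) (sq X).functionField a = θ w
  · -- defined at `x`
    exfalso
    choose ψ hψ using hall
    have hinj : Function.Injective
        (algebraMap ((sq X).presheaf.stalk (diag X x)) (sq X).functionField) := IsFractionRing.injective _ _
    let ψ' : G.left.presheaf.stalk e →+* (sq X).presheaf.stalk (diag X x) :=
      { toFun := ψ
        map_one' := hinj (by rw [hψ, map_one, map_one])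
        map_mul' := fun a c => hinj (by rw [map_mul, hψ, hψ, hψ, map_mul])
        map_zero' := hinj (by rw [hψ, map_zero, map_zero])
        map_add' := fun a c => hinj (by rw [map_add, hψ, hψ, hψ, map_add]) }
    have hsp : ζ ⤳ diag X x := (genericPoint_spec (sq X)).specializes trivial
    obtain ⟨ψh, hψh⟩ : ∃ ψh : G.left.presheaf.stalk e ⟶ (sq X).presheaf.stalk (diag X x),
        ψh ≫ (sq X).presheaf.stalkSpecializes hsp = θ :=
      ⟨CommRingCat.ofHom ψ', CommRingCat.hom_ext (RingHom.ext hψ)⟩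
    let φ := Spec.map ψh ≫ G.left.fromSpecStalk e
    have hφζ : Spec.map ((sq X).presheaf.stalkSpecializes hsp) ≫ φ = b₀ := by
      simp only [φ]
      rw [← Category.assoc, ← Spec.map_comp, hψh, hθ]
    have hφover : φ ≫ G.hom = (sq X).fromSpecStalk (diag X x) ≫ sqHom X := by
      haveI : IsDominant (Spec.map ((sq X).presheaf.stalkSpecializes hsp)) := by
        rw [isDominant_iff, denseRange_iff_closure_range]
        exact (PrimeSpectrum.denseRange_comap_iff_ker_le_nilRadical _).mpr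
          (le_of_eq_of_le ((RingHom.injective_iff_ker_eq_bot _).mp
            (show Function.Injective ((sq X).presheaf.stalkSpecializes hsp).hom from hinj)) bot_le)
          |>.closure_range
      refine ext_of_isDominant (Spec.map ((sq X).presheaf.stalkSpecializes hsp)) ?_
      rw [reassoc_of% hφζ, Scheme.SpecMap_stalkSpecializes_fromSpecStalk_assoc]
      simp only [b₀, Category.assoc, Over.w Φ₀]
      exact Scheme.Opens.fromSpecStalkOfMem_ι_assoc _ _ _ _
    obtain ⟨M, hdM, Φ, hΦ, hΦw⟩ := spread_out_of_isGermInjective' (sqHom X) G.hom φ hφover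
    let M₀ : (sq X).Opens := M ⊓ sn ⁻¹ᵁ U
    have hζM : ζ ∈ M₀ := ⟨gp_mem hdM, hζN.2⟩
    let h : subP M₀ ⟶ G := (incl inf_le_left ≫ (Over.homMk Φ hΦw : subP M ⟶ G)) *
      (prB inf_le_right ≫ F)
    have hgen : gen hζM ≫ h = gen (show ζ ∈ fs ⁻¹ᵁ U from hζN.1) ≫ prA le_rfl ≫ F := by
      have h1 : gen hζM ≫ incl inf_le_left ≫ (Over.homMk Φ hΦw : subP M ⟶ G) =
          gen hζN ≫ diff F F := by
        rw [reassoc_of% (gen_incl (inf_le_left : M₀ ≤ M) hζM)]
        apply Over.OverMorphism.ext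
        change M.fromSpecStalkOfMem ζ _ ≫ Φ = b₀
        rw [← hφζ, hΦ, ← Category.assoc, specMap_fromSpecStalkOfMem]
      have h2 : gen hζN ≫ prB inf_le_right = gen hζM ≫ (prB inf_le_right : subP M₀ ⟶ sub U) := by
        apply Over.OverMorphism.ext
        rw [← cancel_mono U.ι, gen_prB_ι, gen_prB_ι]
      have h3 : gen hζN ≫ prA inf_le_left =
          gen (show ζ ∈ fs ⁻¹ᵁ U from hζN.1) ≫ prA (le_refl (fs ⁻¹ᵁ U)) := by
        apply Over.OverMorphism.ext
        rw [← cancel_mono U.ι, gen_prA_ι, gen_prA_ι]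
      simp only [h]
      rw [MonObj.comp_mul, h1, diff, MonObj.comp_mul, GrpObj.comp_inv, reassoc_of% h2, reassoc_of% h3,
        inv_mul_cancel_right]
    obtain ⟨ξ, hξM, hξx⟩ : ∃ ξ ∈ M₀, fs ξ = x := by
      obtain ⟨u₀, hu₀⟩ := hU
      obtain ⟨q, hq1, hq2⟩ := Scheme.Pullback.exists_preimage_pullback (f := X.hom) (g := X.hom) x u₀
        (Subsingleton.elim (α := PrimeSpectrum K) _ _)
      have hd : fs (diag X x) = x := by rw [← Scheme.Hom.comp_apply, pullback.diagonal_fst]; rfl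
      obtain ⟨d', hd'⟩ : diag X x ∈ Set.range (fs.fiberι x) := by
        rw [Scheme.Hom.range_fiberι]; exact hd
      obtain ⟨q', hq'⟩ : q ∈ Set.range (fs.fiberι x) := by
        rw [Scheme.Hom.range_fiberι]; exact hq1
      obtain ⟨z, -, hz⟩ := (PreirreducibleSpace.isPreirreducible_univ (X := fs.fiber x))
        (fs.fiberι x ⁻¹ᵁ M) (fs.fiberι x ⁻¹ᵁ (sn ⁻¹ᵁ U)) (fs.fiberι x ⁻¹ᵁ M).2
        (fs.fiberι x ⁻¹ᵁ (sn ⁻¹ᵁ U)).2
        ⟨d', trivial, show fs.fiberι x d' ∈ M by rw [hd']; exact hdM⟩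
        ⟨q', trivial, show sn (fs.fiberι x q') ∈ U by rw [hq', hq2]; exact hu₀⟩
      refine ⟨fs.fiberι x z, hz, ?_⟩
      have : fs.fiberι x z ∈ Set.range (fs.fiberι x) := Set.mem_range_self z
      rwa [Scheme.Hom.range_fiberι] at this
    obtain ⟨V, g, hxV, hgw, hgeq⟩ := descend F hU M₀ h hζM hζN.1 congr(($hgen).left) x ξ hξM hξx
    exact hx V g hxV hgw hgeq
  · -- the polar divisor meets the diagonal in codimension one
    push Not at hall
    obtain ⟨w, hw⟩ := hall
    obtain ⟨a, ⟨b, hb0⟩, hrel, hmk⟩ :=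
      IsFractionRing.exists_reduced_fraction ((sq X).presheaf.stalk (diag X x)) (K := (sq X).functionField) (θ w)
    have hb : ¬ IsUnit b := fun hu => by
      obtain ⟨v, rfl⟩ := hu
      refine hw (a * ↑v⁻¹) ?_
      rw [← hmk, IsLocalization.eq_mk'_iff_mul_eq, ← map_mul, _root_.mul_assoc, Units.inv_mul, _root_.mul_one]
    obtain ⟨π, hπi, hπb⟩ := WfDvdMonoid.exists_irreducible_factor hb (nonZeroDivisors.ne_zero hb0)
    have hπ : Prime π := UniqueFactorizationMonoid.irreducible_iff_prime.mp hπi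
    have hπa : ¬ π ∣ a := fun h => hπi.not_isUnit (hrel h hπb)
    have key : ∀ {z : sq X} (h : z ⤳ diag X x),
        (∃ a', algebraMap ((sq X).presheaf.stalk z) (sq X).functionField a' = θ w) →
        π ∉ primeOf h := by
      intro z h ⟨a', ha'⟩ hπm
      letI := ((sq X).presheaf.stalkSpecializes h).hom.toAlgebra
      haveI := isLocalization_stalkSpecializes h
      obtain ⟨⟨r, c⟩, hrc⟩ := IsLocalization.surj (primeOf h).primeCompl a'
      have hcomp : ∀ t, algebraMap ((sq X).presheaf.stalk z) (sq X).functionField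
          (algebraMap ((sq X).presheaf.stalk (diag X x)) ((sq X).presheaf.stalk z) t) =
          algebraMap ((sq X).presheaf.stalk (diag X x)) (sq X).functionField t := fun t =>
        stalkSpecializes_comp_apply ((genericPoint_spec (sq X)).specializes trivial) h t
      have h1 := congrArg (algebraMap ((sq X).presheaf.stalk z) (sq X).functionField) hrc
      rw [map_mul, ha', hcomp, hcomp, ← hmk] at h1
      have h2 : a * c.1 = r * b := by
        apply IsFractionRing.injective ((sq X).presheaf.stalk (diag X x)) (sq X).functionField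
        rw [map_mul, map_mul, ← h1, mul_right_comm, IsLocalization.mk'_spec]
      have h3 : π ∣ a * c.1 := h2 ▸ dvd_mul_of_dvd_right hπb r
      obtain ⟨k, hk⟩ := (hπ.dvd_or_dvd h3).resolve_left hπa
      exact c.2 (hk ▸ (primeOf h).mul_mem_right k hπm)
    haveI : IsRegularLocalRing (X.left.presheaf.stalk x) :=
      Groth.Agent.Lib.Cyc.SmoothReg.isRegularLocalRing_stalk X.hom _
    haveI : UniqueFactorizationMonoid (X.left.presheaf.stalk x) :=
      Groth.Agent.Lib.Regular.UFD.uniqueFactorizationMonoid _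
    have hgx : genericPoint X.left ⤳ x := (genericPoint_spec X.left).specializes trivial
    set σ := ((diag X).stalkMap x).hom with hσ
    have hσπ : σ π ≠ 0 := by
      intro h0
      refine key (hgx.map (diag X).continuous) (hreg U f hf rfl _ hξU w) ?_
      rw [← comap_primeOf (diag X) hgx, Ideal.mem_comap, ← hσ, h0]
      exact zero_mem _
    have hσu : ¬ IsUnit (σ π) := fun h => hπi.not_isUnit (isUnit_of_map_unit σ π h)
    obtain ⟨q, hqi, hq⟩ := WfDvdMonoid.exists_irreducible_factor hσu hσπ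
    have hqp : Prime q := UniqueFactorizationMonoid.irreducible_iff_prime.mp hqi
    haveI : (Ideal.span {q}).IsPrime := (Ideal.span_singleton_prime hqp.ne_zero).mpr hqp
    obtain ⟨y, hy, hyq⟩ := exists_primeOf_eq x (Ideal.span {q})
    refine ⟨y, specializes_iff_mem_closure.mp hy, ?_, fun V g hyV hg hfg => ?_⟩
    · rw [← height_primeOf hy, hyq, height_span_prime hqp]
      rfl
    · refine key (hy.map (diag X).continuous) (hreg V g hg hfg _ hyV w) ?_
      rw [← comap_primeOf (diag X) hy, Ideal.mem_comap, hyq, ← hσ, Ideal.mem_span_singleton]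
      exact hq

end Group

end Groth.Agent.H4.Indet
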