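import Groth.Agent.H4.FrobFactor

/-! In characteristic `p` the kernels of multiplication by `p ^ m` contain every infinitesimal
neighbourhood of the origin; hence a closed subscheme containing them all is the whole variety. -/

set_option autoImplicit false
set_option linter.style.haveILetI false

universe u

open CategoryTheory CategoryTheory.Limits MonoidalCategory CartesianMonoidalCategory MonObj AlgebraicGeometry
open IsLocalRing (closedPoint maximalIdeal)

namespace Groth.Agent.H4.InfTorsion

noncomputable section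

variable {k : Type u} [Field k] (X : Over (Spec (CommRingCat.of k))) [GrpObj X] [IsCommMonObj X]
  [IsProper X.hom] [GeometricallyIntegral X.hom]

/-- The origin. -/
abbrev org : X.left := η[X].left (closedPoint k)

/-- The local ring at the origin. -/
abbrev O : Type u := X.left.presheaf.stalk (org X)

/-- A point with values in an algebra over the local ring at the origin. -/
abbrev pt {R : Type u} [CommRing R] (q : O X →+* R) : Spec (CommRingCat.of R) ⟶ X.left :=
  Spec.map (CommRingCat.ofHom q) ≫ X.left.fromSpecStalk (org X)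

theorem pt_ext {R : Type u} [CommRing R] {q q' : O X →+* R} (h : pt X q = pt X q') : q = q' := by
  have := Spec.map_injective ((cancel_mono (X.left.fromSpecStalk (org X))).1 h)
  exact congrArg CommRingCat.Hom.hom this

/-- The constants in the local ring at the origin. -/
def cs : k →+* O X := (Spec.preimage (X.left.fromSpecStalk (org X) ≫ X.hom)).hom

theorem fromSpecStalk_hom :
    X.left.fromSpecStalk (org X) ≫ X.hom = Spec.map (CommRingCat.ofHom (cs X)) :=
  (Spec.map_preimage _).symm

/-- Evaluation at the origin. -/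
def ev : O X →+* k := (Scheme.stalkClosedPointTo η[X].left).hom

theorem pt_ev : pt X (ev X) = η[X].left := Scheme.Spec_stalkClosedPointTo_fromSpecStalk _

theorem ev_cs (c : k) : ev X (cs X c) = c := by
  have h : pt X (ev X) ≫ X.hom = 𝟙 (Spec (CommRingCat.of k)) := by rw [pt_ev]; exact Over.w η[X]
  rw [Category.assoc, fromSpecStalk_hom, ← Spec.map_comp, ← Spec.map_id] at h
  exact DFunLike.congr_fun (congrArg CommRingCat.Hom.hom (Spec.map_injective h)) c

theorem mem_max (a : O X) : a - cs X (ev X a) ∈ maximalIdeal (O X) := by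
  refine fun hu => ?_
  have h := hu.map (ev X)
  rw [map_sub, ev_cs, sub_self] at h
  exact not_isUnit_zero h

theorem ev_eq_zero {a : O X} (h : a ∈ maximalIdeal (O X)) : ev X a = 0 := by
  by_contra hne
  have h1 := mem_max X a
  have h2 : cs X (ev X a) ∈ maximalIdeal (O X) := by
    have := Ideal.sub_mem _ h h1
    rwa [sub_sub_cancel] at this
  exact h2 ((isUnit_iff_ne_zero.2 hne).map (cs X))

/-- Multiplication by `p` maps the maximal ideal at the origin into its square, in characteristic
`p`. -/
theorem exists_stalk_pow (p : ℕ) [hp : Fact p.Prime] [CharP k p] :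
    ∃ φ : O X →+* O X,
      X.left.fromSpecStalk (org X) ≫ ((𝟙 X : X ⟶ X) ^ p).left = pt X φ ∧
      ∀ a ∈ maximalIdeal (O X), φ a ∈ maximalIdeal (O X) ^ 2 := by
  set N := ((𝟙 X : X ⟶ X) ^ p) with hNdef
  have hη : η[X] ≫ N = η[X] := by
    rw [hNdef, MonObj.comp_pow, Category.comp_id, MonObj.one_eq_one, one_pow]
  have he : N.left (org X) = org X := by
    conv_rhs => rw [org, ← hη]
    rfl
  let φ : O X →+* O X :=
    (X.left.presheaf.stalkSpecializes (specializes_of_eq he) ≫ N.left.stalkMap (org X)).hom
  have hφ : X.left.fromSpecStalk (org X) ≫ N.left = pt X φ := by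
    show _ = Spec.map (_ ≫ _) ≫ _
    rw [Spec.map_comp, Category.assoc, Scheme.SpecMap_stalkSpecializes_fromSpecStalk,
      Scheme.SpecMap_stalkMap_fromSpecStalk]
  refine ⟨φ, hφ, fun a ha => ?_⟩
  have hev : (ev X).comp φ = ev X := by
    refine pt_ext X ?_
    rw [pt, CommRingCat.ofHom_comp, Spec.map_comp, Category.assoc, ← pt, ← hφ, ← Category.assoc, ← pt,
      pt_ev, ← Over.comp_left, hη]
  by_contra hne
  letI : Algebra k (O X) := (cs X).toAlgebra
  obtain ⟨ℓ, hℓ⟩ : ∃ ℓ : Module.Dual k (O X ⧸ (maximalIdeal (O X) ^ 2)),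
      ℓ (Ideal.Quotient.mk _ (φ a)) ≠ 0 := by
    by_contra hall
    push Not at hall
    exact hne (Ideal.Quotient.eq_zero_iff_mem.1 ((Module.forall_dual_apply_eq_zero_iff k _).1 hall))
  let D : O X → k := fun b => ℓ (Ideal.Quotient.mk _ (b - cs X (ev X b)))
  have hsmul : ∀ (c : k) (b : O X), ℓ (Ideal.Quotient.mk _ (cs X c * b)) = c * ℓ (Ideal.Quotient.mk _ b) := by
    intro c b
    exact ℓ.map_smul c (Ideal.Quotient.mk _ b)
  have hmul : ∀ b c : O X, D (b * c) = ev X b * D c + ev X c * D b := by
    intro b c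
    simp only [D]
    rw [← hsmul, ← hsmul, ← map_add, ← map_add]
    congr 1
    rw [Ideal.Quotient.eq, map_mul, map_mul, pow_two]
    convert Ideal.mul_mem_mul (mem_max X b) (mem_max X c) using 1
    ring
  let τ : O X →+* DualNumber k :=
    { toFun := fun b => TrivSqZeroExt.inl (ev X b) + TrivSqZeroExt.inr (D b)
      map_one' := by ext <;> simp [D]
      map_mul' := fun b c => by
        ext
        · simp
        · simp [hmul, TrivSqZeroExt.snd_mul]; ring
      map_zero' := by ext <;> simp [D]
      map_add' := fun b c => by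
        ext
        · simp
        · simp only [D, map_add, TrivSqZeroExt.snd_add, TrivSqZeroExt.snd_inl, TrivSqZeroExt.snd_inr,
            zero_add]
          rw [← map_add ℓ, ← map_add (Ideal.Quotient.mk _)]
          congr 2
          ring }
  let τ₀ : O X →+* DualNumber k := (algebraMap k (DualNumber k)).comp (ev X)
  let b : Spec (CommRingCat.of k) ⟶ Spec (CommRingCat.of k) := 𝟙 _
  have hw : ∀ σ : O X →+* DualNumber k, σ.comp (cs X) = algebraMap k (DualNumber k) →
      pt X σ ≫ X.hom = Spec.map (CommRingCat.ofHom (algebraMap k (DualNumber k))) ≫ b := by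
    intro σ hσ
    rw [Category.assoc, fromSpecStalk_hom, ← Spec.map_comp, ← CommRingCat.ofHom_comp, hσ, Category.comp_id]
  let v : _root_.LieS.dpt k b ⟶ X := Over.homMk (pt X τ) (hw τ (RingHom.ext fun c => by
    ext <;> simp [τ, D, ev_cs, TrivSqZeroExt.algebraMap_eq_inl']))
  let w : _root_.LieS.dpt k b ⟶ X := Over.homMk (pt X τ₀) (hw τ₀ (RingHom.ext fun c => by
    simp [τ₀, ev_cs]))
  have hvw : _root_.LieS.zeroSec k b ≫ v = _root_.LieS.zeroSec k b ≫ w := by
    apply Over.OverMorphism.ext
    show Spec.map (CommRingCat.ofHom (TrivSqZeroExt.fstHom k k k).toRingHom) ≫ pt X τ =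
      Spec.map (CommRingCat.ofHom (TrivSqZeroExt.fstHom k k k).toRingHom) ≫ pt X τ₀
    simp only [pt, ← Spec.map_comp_assoc, ← CommRingCat.ofHom_comp]
    congr 3
    exact RingHom.ext fun c => by simp [τ, τ₀, TrivSqZeroExt.algebraMap_eq_inl']
  have h2 := FrobFactor.pow_char_eq p v w hvw
  rw [← Category.comp_id v, ← Category.comp_id w, ← MonObj.comp_pow, ← MonObj.comp_pow] at h2
  have h3 : pt X τ ≫ N.left = pt X τ₀ ≫ N.left := congrArg Over.Hom.left h2
  have h4 : pt X (τ.comp φ) = pt X (τ₀.comp φ) := by
    simp only [pt, CommRingCat.ofHom_comp, Spec.map_comp, Category.assoc] at h3 ⊢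
    rwa [hφ] at h3
  have h5 := congrArg (fun g : O X →+* DualNumber k => (g a).snd) (pt_ext X h4)
  simp only [τ, τ₀, D, RingHom.comp_apply, RingHom.coe_mk, MonoidHom.coe_mk, OneHom.coe_mk,
    TrivSqZeroExt.snd_add, TrivSqZeroExt.snd_inl, TrivSqZeroExt.snd_inr,
    TrivSqZeroExt.algebraMap_eq_inl', zero_add] at h5
  rw [show ev X (φ a) = 0 from (DFunLike.congr_fun hev a).trans (ev_eq_zero X ha), map_zero,
    sub_zero] at h5
  exact hℓ (h5.trans rfl)

/-- The `N`-th infinitesimal neighbourhood of the origin is killed by `p ^ m` for `N ≤ 2 ^ m`. -/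
theorem nbhd_killed (p : ℕ) [hp : Fact p.Prime] [CharP k p] (m : ℕ) :
    ∀ N, N ≤ 2 ^ m → pt X (Ideal.Quotient.mk (maximalIdeal (O X) ^ N)) ≫ ((𝟙 X : X ⟶ X) ^ (p ^ m)).left =
      (pt X (Ideal.Quotient.mk (maximalIdeal (O X) ^ N)) ≫ X.hom) ≫ η[X].left := by
  obtain ⟨φ, hφ, hφ2⟩ := exists_stalk_pow X p
  induction m with
  | zero =>
    intro N hN
    rw [pow_zero, pow_one, Over.id_left, Category.comp_id, ← pt_ev]
    simp only [Category.assoc]
    rw [← Category.assoc (X.left.fromSpecStalk (org X)), fromSpecStalk_hom, ← Spec.map_comp_assoc,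
      ← Spec.map_comp_assoc]
    congr 1
    refine RingHom.ext fun a => ?_
    simp only [CommRingCat.hom_comp, RingHom.comp_apply, CommRingCat.hom_ofHom]
    exact Ideal.Quotient.eq.2 (Ideal.pow_le_pow_right hN (by rw [pow_zero, pow_one]; exact mem_max X a))
  | succ m ih =>
    intro N hN
    let N' := 2 ^ m
    have hle : maximalIdeal (O X) ^ N' ≤ (maximalIdeal (O X) ^ N).comap φ := by
      rw [← Ideal.map_le_iff_le_comap, Ideal.map_pow]
      refine le_trans (Ideal.pow_right_mono ((Ideal.map_le_iff_le_comap).2 fun a ha => Ideal.mem_comap.2 (hφ2 a ha)) N') ?_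
      rw [← pow_mul]
      exact Ideal.pow_le_pow_right (by rw [← pow_succ']; exact hN)
    let φ' := Ideal.quotientMap _ φ hle
    have e : ((𝟙 X : X ⟶ X) ^ (p ^ (m + 1))) = (𝟙 X ^ p) ≫ (𝟙 X ^ (p ^ m)) := by
      rw [MonObj.comp_pow, Category.comp_id, ← pow_mul, pow_succ']
    have e2 : pt X (Ideal.Quotient.mk (maximalIdeal (O X) ^ N)) ≫ ((𝟙 X : X ⟶ X) ^ p).left =
        Spec.map (CommRingCat.ofHom φ') ≫ pt X (Ideal.Quotient.mk (maximalIdeal (O X) ^ N')) := by
      simp only [pt, Category.assoc, hφ, ← Spec.map_comp_assoc, ← CommRingCat.ofHom_comp]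
      congr 3
    rw [e, Over.comp_left, ← Category.assoc, e2, Category.assoc, ih N' le_rfl, ← Category.assoc,
      ← Category.assoc, ← e2, Category.assoc _ _ X.hom, Over.w]

/-- A closed subscheme through which all kernels of multiplication by powers of the characteristic
factor is everything. -/
theorem surjective_of_factor (p : ℕ) [hp : Fact p.Prime] [CharP k p] {Z : Scheme.{u}}
    (c : Z ⟶ X.left) [IsClosedImmersion c]
    (hc : ∀ m : ℕ, 0 < m →
      ∃ t : pullback η[X].left ((𝟙 X ^ (p ^ m)).left) ⟶ Z,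
        t ≫ c = pullback.snd η[X].left ((𝟙 X ^ (p ^ m)).left)) :
    Surjective c := by
  haveI : IsIntegral X.left := GeometricallyIntegral.isIntegral_of_subsingleton X.hom
  haveI : IsLocallyNoetherian X.left := LocallyOfFiniteType.isLocallyNoetherian X.hom
  obtain ⟨_, ⟨U, hU, rfl⟩, heU, -⟩ :=
    X.left.isBasis_affineOpens.exists_subset_of_mem_open (Set.mem_univ (org X)) isOpen_univ
  have key : ∀ f : Γ(X.left, U), c.app U f = 0 → f = 0 := by
    intro f hf
    haveI : Nonempty U := ⟨⟨org X, heU⟩⟩
    apply germ_injective_of_isIntegral X.left (org X) heU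
    rw [map_zero]
    have hinter := Ideal.iInf_pow_eq_bot_of_isLocalRing (R := O X) (I := maximalIdeal (O X))
      (IsLocalRing.maximalIdeal.isMaximal _).ne_top
    have hmem : X.left.presheaf.germ U (org X) heU f ∈ ⨅ i : ℕ, maximalIdeal (O X) ^ i := by
      refine Ideal.mem_iInf.2 fun N => ?_
      rcases Nat.eq_zero_or_pos N with rfl | hN
      · simp
      obtain ⟨t, ht⟩ := hc N hN
      let R := O X ⧸ maximalIdeal (O X) ^ N
      haveI : Nontrivial R := Ideal.Quotient.nontrivial_iff.2
        (ne_top_of_le_ne_top (IsLocalRing.maximalIdeal.isMaximal (O X)).ne_top (Ideal.pow_le_self hN.ne'))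
      let q : O X →+* R := Ideal.Quotient.mk _
      haveI : IsLocalRing R := IsLocalRing.of_surjective' q Ideal.Quotient.mk_surjective
      haveI : IsLocalHom (CommRingCat.ofHom q).hom :=
        IsLocalHom.of_surjective q Ideal.Quotient.mk_surjective
      let l := pullback.lift (pt X q ≫ X.hom) (pt X q) (nbhd_killed X p N N Nat.lt_two_pow_self.le).symm
      have hl : (l ≫ t) ≫ c = pt X q := by rw [Category.assoc, ht, pullback.lift_snd]
      have hU' : (pt X q) (closedPoint R) ∈ U := by
        show (X.left.fromSpecStalk (org X)) ((Spec.map (CommRingCat.ofHom q)) _) ∈ U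
        erw [Spec_closedPoint, Scheme.fromSpecStalk_closedPoint]
        exact heU
      have h0 : (Scheme.stalkClosedPointTo (pt X q)).hom
          (X.left.presheaf.germ U _ hU' f) = 0 := by
        have aux : ∀ (s : Spec (CommRingCat.of R) ⟶ Z) (j : Spec (CommRingCat.of R) ⟶ X.left), s ≫ c = j →
            ∀ h : j (closedPoint R) ∈ U,
              (Scheme.stalkClosedPointTo j).hom (X.left.presheaf.germ U _ h f) = 0 := by
          rintro s _ rfl h
          rw [Scheme.stalkClosedPointTo_comp]
          show (Scheme.stalkClosedPointTo s).hom ((c.stalkMap _).hom _) = 0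
          erw [Scheme.Hom.germ_stalkMap_apply c U _ h f]
          rw [hf, map_zero, map_zero]
        exact aux _ _ hl hU'
      have h1 := congrArg (fun g => g.hom f) (Scheme.germ_stalkClosedPointTo_Spec_fromSpecStalk
        (CommRingCat.ofHom q) U hU')
      exact Ideal.Quotient.eq_zero_iff_mem.1 (h1.symm.trans h0)
    rw [hinter] at hmem
    exact hmem
  have hsupp : (U : Set X.left) ⊆ Set.range c := by
    intro x hx
    have hI : c.ker.ideal ⟨U, hU⟩ = ⊥ := by
      rw [Scheme.Hom.ker_apply, eq_bot_iff]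
      exact fun f hf => key f hf
    have h := c.ker.coe_support_inter ⟨U, hU⟩
    rw [hI, Scheme.Hom.support_ker,
      c.isClosedEmbedding.isClosed_range.closure_eq] at h
    refine (h.ge ⟨?_, hx⟩).1
    rw [Scheme.mem_zeroLocus_iff]
    intro g hg
    rw [show g = 0 from hg, Scheme.basicOpen_zero]
    exact id
  refine ⟨Set.range_eq_univ.1 (Set.eq_univ_of_univ_subset ?_)⟩
  rw [← (genericPoint_spec X.left).def]
  refine closure_minimal (Set.singleton_subset_iff.2 (hsupp ?_)) c.isClosedEmbedding.isClosed_range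
  exact ((genericPoint_spec X.left).specializes trivial).mem_open U.2 heU

end

end Groth.Agent.H4.InfTorsion
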