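import Groth.Agent.H3.PicCalc
import Groth.Agent.H52.AmpleNondeg
import Groth.Agent.Lib.GrpSch.BaseChange
import Groth.Agent.H4.GeomInt
import Mathlib.AlgebraicGeometry.Morphisms.QuasiFinite

/-! `K(L)` of a relatively ample invertible module on an abelian scheme is finite. -/

set_option autoImplicit false
set_option linter.style.haveILetI false

universe u

open CategoryTheory CategoryTheory.Limits MonoidalCategory CartesianMonoidalCategory AlgebraicGeometry
open scoped MonObj GrpObj
open Groth.Agent.Lib Groth.Agent.H3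

namespace Groth.Agent.H4.KLFinite

noncomputable section

local instance (Y : Scheme.{u}) : PicGrp.Law Y := Groth.Agent.Lib.TensorMod.Invertible.law Y

variable {S : Scheme.{u}} (A : Over S) [GrpObj A] {Ω : Type u} [Field Ω]
  (b : Spec (CommRingCat.of Ω) ⟶ S)

/-- A point as a section of the base change. -/
def toBC (a : Over.mk b ⟶ A) : 𝟙_ (Over (Spec (CommRingCat.of Ω))) ⟶ (Over.pullback b).obj A :=
  Over.homMk (pullback.lift a.left (𝟙 _) ((Over.w a).trans (Category.id_comp _).symm)) (pullback.lift_snd _ _ _)

omit [GrpObj A] in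
theorem toBC_injective : Function.Injective (toBC A b) := fun a a' h => by
  apply Over.OverMorphism.ext
  have h2 := congrArg (fun q => q ≫ pullback.fst A.hom b) (congrArg Over.Hom.left h)
  simpa only [toBC, Over.homMk_left, pullback.lift_fst] using h2

theorem transl_left (a : Over.mk b ⟶ A) :
    letI : GrpObj ((Over.pullback b).obj A) := Functor.grpObjObj (F := Over.pullback b)
    ((𝟙 ((Over.pullback b).obj A) : (Over.pullback b).obj A ⟶ (Over.pullback b).obj A) *
        (toUnit _ ≫ toBC A b a)).left ≫ pullback.fst A.hom b =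
      (ThetaGrp.transl A a ≫ fst A (Over.mk b)).left := by
  letI : GrpObj ((Over.pullback b).obj A) := Functor.grpObjObj (F := Over.pullback b)
  let F := Over.pullback b
  let δ : 𝟙_ (Over (Spec (CommRingCat.of Ω))) ⟶ F.obj (Over.mk b) :=
    Over.homMk (pullback.lift (𝟙 _) (𝟙 _) rfl) (pullback.lift_snd _ _ _)
  have hδ : δ ≫ F.map a = toBC A b a := by
    apply Over.OverMorphism.ext
    apply pullback.hom_ext
    · rw [Over.comp_left, Category.assoc]
      refine (congrArg (fun q => δ.left ≫ q) (GrpSch.bc_map_proj b a)).trans ?_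
      show pullback.lift (𝟙 _) (𝟙 _) _ ≫ pullback.fst _ _ ≫ a.left = pullback.lift a.left (𝟙 _) _ ≫ pullback.fst _ _
      rw [pullback.lift_fst_assoc, pullback.lift_fst, Category.id_comp]
    · exact (Over.w (δ ≫ F.map a)).trans (pullback.lift_snd _ _ _).symm
  let σ : F.obj A ⟶ F.obj (A ⊗ Over.mk b) :=
    lift (𝟙 (F.obj A)) (toUnit _ ≫ δ) ≫ Functor.LaxMonoidal.μ F A (Over.mk b)
  have h1 : σ ≫ F.map (fst A (Over.mk b)) = 𝟙 _ := by
    simp [σ]
  have h2 : σ ≫ F.map (snd A (Over.mk b)) = toUnit _ ≫ δ := by
    simp [σ]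
  have hσ : σ ≫ F.map (ThetaGrp.transl A a ≫ fst A (Over.mk b)) = 𝟙 _ * (toUnit _ ≫ toBC A b a) := by
    rw [ThetaGrp.transl_fst, Functor.map_mul, MonObj.comp_mul, h1, F.map_comp, reassoc_of% h2, hδ]
  have h3 : σ.left ≫ GrpSch.bcProj b (A ⊗ Over.mk b) = 𝟙 (pullback A.hom b) := by
    apply pullback.hom_ext
    · refine (Category.assoc _ _ _).trans (Eq.trans ?_ (Category.id_comp _).symm)
      exact ((congrArg (fun q => σ.left ≫ q) (GrpSch.bc_map_proj b (fst A (Over.mk b))).symm).trans
        ((Category.assoc _ _ _).symm.trans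
          (congrArg (fun q => q ≫ GrpSch.bcProj b A) (congrArg Over.Hom.left h1)))).trans (Category.id_comp _)
    · refine (Category.assoc _ _ _).trans (Eq.trans ?_ (Category.id_comp _).symm)
      refine ((congrArg (fun q => σ.left ≫ q) (GrpSch.bc_map_proj b (snd A (Over.mk b))).symm).trans
        ((Category.assoc _ _ _).symm.trans
          (congrArg (fun q => q ≫ GrpSch.bcProj b (Over.mk b)) (congrArg Over.Hom.left h2)))).trans ?_
      show (((F.obj A).hom) ≫ pullback.lift (𝟙 _) (𝟙 _) _) ≫ pullback.fst _ _ = _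
      rw [Category.assoc, pullback.lift_fst, Category.comp_id]
      rfl
  rw [← hσ, Over.comp_left, Category.assoc]
  refine (congrArg (fun q => σ.left ≫ q) (GrpSch.bc_map_proj b _)).trans ?_
  rw [← Category.assoc, h3]
  exact Category.id_comp _

theorem finite_points [IsAlgClosed Ω] [IsProper A.hom] [Smooth A.hom] [GeometricallyConnected A.hom]
    {L : A.left.Modules} (hL : RelAmple.IsRelAmple A.hom L) :
    {a : Over.mk b ⟶ A | ThetaGrp.IsMumfordTriv A L a}.Finite := by
  letI : GrpObj ((Over.pullback b).obj A) := Functor.grpObjObj (F := Over.pullback b)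
  haveI : IsProper ((Over.pullback b).obj A).hom := inferInstanceAs (IsProper (pullback.snd A.hom b))
  haveI : Smooth ((Over.pullback b).obj A).hom := inferInstanceAs (Smooth (pullback.snd A.hom b))
  haveI : GeometricallyConnected ((Over.pullback b).obj A).hom :=
    inferInstanceAs (GeometricallyConnected (pullback.snd A.hom b))
  haveI := GeomInt.geometricallyIntegral ((Over.pullback b).obj A)
  have hLinv := Ample.RelAmple.isInvertible_of_isRelAmple hL
  let L' : ((Over.pullback b).obj A).left.Modules :=
    (Scheme.Modules.pullback (pullback.fst A.hom b)).obj L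
  have hL' : CohB1.IsAmple L' :=
    (Ample.RelAmple.isRelAmple_iff_isAmple (pullback.snd A.hom b)).1 (Ample.RelAmple.isRelAmple_baseChange A.hom b hL)
  refine ((H52.AmpleNondeg.finite_translationFixing ((Over.pullback b).obj A) L' hL').preimage
    (toBC_injective A b).injOn).subset fun a ha => ?_
  obtain ⟨n, hn⟩ := (PicCalc.mumford_iff A hLinv a).1 ha
  haveI : Subsingleton (Over.mk b).left := inferInstanceAs (Subsingleton (PrimeSpectrum Ω))
  haveI : Nonempty (Over.mk b).left := inferInstanceAs (Nonempty (PrimeSpectrum Ω))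
  unfold PicCalc.TransTriv at hn
  rw [PicCalc.eq_one_of_subsingleton n, map_one, _root_.mul_one] at hn
  obtain ⟨e⟩ := (PicCalc.iso_iff (PicCalc.cl_pullback (ThetaGrp.transl A a ≫ fst A (Over.mk b))
    (a := PicGrp.cls L hLinv) rfl) (PicCalc.cl_pullback (fst A (Over.mk b)) (a := PicGrp.cls L hLinv) rfl)).2 hn
  refine ⟨(Scheme.Modules.pullbackComp _ (pullback.fst A.hom b)).app L ≪≫
    (Scheme.Modules.pullbackCongr (transl_left A b a)).app L ≪≫ e⟩

omit [GrpObj A] in
/-- Finitely many geometric points make a finite fibre. -/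
theorem finite_pullback_of_points [IsAlgClosed Ω] (K : Over S) [LocallyOfFiniteType K.hom]
    (h : Finite (Over.mk b ⟶ K)) : Finite ↥(pullback K.hom b) := by
  let g := pullback.snd K.hom b
  haveI : JacobsonSpace ↥(pullback K.hom b) := LocallyOfFiniteType.jacobsonSpace g
  haveI : Finite {p : Spec (CommRingCat.of Ω) ⟶ pullback K.hom b // p ≫ g = 𝟙 _} := by
    refine Finite.of_injective (β := Over.mk b ⟶ K) (fun p => Over.homMk (p.1 ≫ pullback.fst K.hom b) (by
      show (p.1 ≫ pullback.fst K.hom b) ≫ K.hom = b
      rw [Category.assoc, pullback.condition, reassoc_of% p.2])) fun p q hpq => ?_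
    exact Subtype.ext (pullback.hom_ext (congrArg Over.Hom.left hpq) (p.2.trans q.2.symm))
  have hfin : (closedPoints ↥(pullback K.hom b)).Finite :=
    Set.finite_coe_iff.1 (Finite.of_equiv _ (pointEquivClosedPoint g))
  have hcl : IsClosed (closedPoints ↥(pullback K.hom b)) := by
    rw [← Set.biUnion_of_singleton (closedPoints ↥(pullback K.hom b))]
    exact hfin.isClosed_biUnion fun x hx => hx
  have := hcl.closure_eq.symm.trans closure_closedPoints
  exact Set.finite_univ_iff.1 (this ▸ hfin)

theorem isFinite [IsProper A.hom] [Smooth A.hom] [GeometricallyConnected A.hom] {L : A.left.Modules}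
    (hL : RelAmple.IsRelAmple A.hom L) (K : Over S) (i : K ⟶ A) (hK : ThetaGrp.IsKL A L i) :
    IsFinite K.hom := by
  haveI : IsClosedImmersion i.left := hK.closed
  haveI : IsProper K.hom := by rw [← Over.w i]; infer_instance
  haveI : Mono i := (Over.forget S).mono_of_mono_map (inferInstanceAs (Mono i.left))
  haveI : LocallyQuasiFinite K.hom := by
    refine LocallyQuasiFinite.of_finite_preimage_singleton K.hom fun s => ?_
    let Ω := AlgebraicClosure (S.residueField s)
    let b : Spec (CommRingCat.of Ω) ⟶ S :=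
      Spec.map (CommRingCat.ofHom (algebraMap (S.residueField s) Ω)) ≫ S.fromSpecResidueField s
    haveI : Finite {a : Over.mk b ⟶ A // ThetaGrp.IsMumfordTriv A L a} := (finite_points A b hL).to_subtype
    haveI : Finite (Over.mk b ⟶ K) := Finite.of_injective
      (β := {a : Over.mk b ⟶ A // ThetaGrp.IsMumfordTriv A L a})
      (fun y => ⟨y ≫ i, (hK.univ _ _).2 ⟨y, rfl⟩⟩) fun y y' h => (cancel_mono i).1 (congrArg Subtype.val h)
    haveI := finite_pullback_of_points b K inferInstance
    refine ((Set.finite_univ (α := ↥(pullback K.hom b))).image (pullback.fst K.hom b)).subset fun x hx => ?_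
    obtain ⟨z, hz, -⟩ := Scheme.Pullback.exists_preimage_pullback (f := K.hom) (g := b) x
      (IsLocalRing.closedPoint Ω) (by
        rw [show K.hom x = s from hx, show b (IsLocalRing.closedPoint Ω) = s from
          (Scheme.Hom.comp_apply _ _ _).trans (S.fromSpecResidueField_apply s _)])
    exact ⟨z, trivial, hz⟩
  exact IsFinite.of_isProper_of_locallyQuasiFinite K.hom

end

end Groth.Agent.H4.KLFinite
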