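import Mathlib.RingTheory.NoetherNormalization
import Mathlib.RingTheory.IntegralClosure.GoingDown
import Mathlib.RingTheory.Ideal.GoingUp
import Mathlib.RingTheory.Jacobson.Ring
import Mathlib.RingTheory.Nullstellensatz
import Mathlib.Algebra.MvPolynomial.Funext
import Mathlib.RingTheory.Polynomial.UniqueFactorization
import Mathlib.RingTheory.Polynomial.RationalRoot

/-!
# One-dimensional subvarieties through a point and outside a given closed subset
-/

set_option autoImplicit false
universe u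

open MvPolynomial

namespace Groth.Agent.H4.LineLift

/-- Through a closed point of a variety, and out of a proper closed subset containing it, passes an integral
curve which is finite over the line. -/
theorem exists_curve_quotient (k : Type u) [Field k] [IsAlgClosed k] (R : Type u) [CommRing R] [IsDomain R]
    [Algebra k R] [Algebra.FiniteType k R] (m₀ : Ideal R) [m₀.IsMaximal] (J : Ideal R) (hJ : J ≠ ⊥)
    (hJm : J ≤ m₀) :
    ∃ (P : Ideal R) (τ : MvPolynomial (Fin 1) k →ₐ[k] R ⧸ P) (m₁ : Ideal R),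
      P.IsPrime ∧ P ≤ m₀ ∧ Function.Injective τ ∧ τ.toRingHom.IsIntegral ∧
        m₁.IsMaximal ∧ P ≤ m₁ ∧ ¬ J ≤ m₁ := by
  obtain ⟨s, g, hg, hgi⟩ := exists_integral_inj_algHom_of_fg k R
  letI : Algebra (MvPolynomial (Fin s) k) R := g.toRingHom.toAlgebra
  haveI : Algebra.IsIntegral (MvPolynomial (Fin s) k) R := ⟨hgi⟩
  haveI : FaithfulSMul (MvPolynomial (Fin s) k) R :=
    (faithfulSMul_iff_algebraMap_injective _ _).mpr hg
  obtain ⟨a, haJ, ha0⟩ := Submodule.exists_mem_ne_zero_of_ne_bot
    (Ideal.comap_ne_bot_of_integral_mem (R := MvPolynomial (Fin s) k)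
      (Submodule.exists_mem_ne_zero_of_ne_bot hJ).choose_spec.2
      (Submodule.exists_mem_ne_zero_of_ne_bot hJ).choose_spec.1 (Algebra.IsIntegral.isIntegral _))
  haveI : (m₀.under (MvPolynomial (Fin s) k)).IsMaximal := Ideal.isMaximal_comap_of_isIntegral_of_isMaximal m₀
  obtain ⟨q, hq⟩ := (isMaximal_iff_eq_vanishingIdeal_singleton (σ := Fin s) (K := k) (I := m₀.under (MvPolynomial (Fin s) k))).mp
    (inferInstance : (m₀.under (MvPolynomial (Fin s) k)).IsMaximal)
  have hmem : ∀ f, f ∈ m₀.under (MvPolynomial (Fin s) k) ↔ MvPolynomial.eval q f = 0 := fun f => by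
    rw [hq, mem_vanishingIdeal_singleton_iff, MvPolynomial.aeval_eq_eval]
  have haq : MvPolynomial.eval q a = 0 := (hmem a).mp (Ideal.comap_mono hJm haJ)
  rcases isEmpty_or_nonempty (Fin s) with he | ⟨⟨i⟩⟩
  · exfalso
    obtain ⟨c, rfl⟩ := (MvPolynomial.isEmptyRingEquiv k (Fin s)).symm.surjective a
    simp only [isEmptyRingEquiv_symm_apply, eval_C] at haq
    exact ha0 (by simp [haq])
  obtain ⟨p, hp⟩ : ∃ p, MvPolynomial.eval p (a * (X i - C (q i))) ≠ 0 := by
    by_contra hc
    push Not at hc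
    have h0 : a * (X i - C (q i)) = 0 := MvPolynomial.funext fun x => by rw [hc x, map_zero]
    rcases mul_eq_zero.mp h0 with h | h
    · exact ha0 h
    · have := congrArg (MvPolynomial.eval (fun _ => q i + 1)) h
      simp at this
  rw [map_mul, map_sub, eval_X, eval_C] at hp
  have hpi : p i - q i ≠ 0 := right_ne_zero_of_mul hp
  let ρ : MvPolynomial (Fin s) k →ₐ[k] MvPolynomial (Fin 1) k :=
    aeval fun j => C (q j) + C (p j - q j) * X 0
  let σ : MvPolynomial (Fin 1) k →ₐ[k] MvPolynomial (Fin s) k :=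
    aeval fun _ => C (p i - q i)⁻¹ * (X i - C (q i))
  have hρσ : ρ.comp σ = AlgHom.id k _ := by
    refine MvPolynomial.algHom_ext fun j => ?_
    obtain rfl : j = 0 := Subsingleton.elim _ _
    simp only [ρ, σ, AlgHom.comp_apply, aeval_X, map_mul, map_sub, MvPolynomial.algHom_C,
      MvPolynomial.algebraMap_eq, AlgHom.id_apply, add_sub_cancel_left]
    rw [← mul_assoc, ← map_sub, ← map_mul, inv_mul_cancel₀ hpi, map_one, one_mul]
  have hρσ' : ∀ y, ρ (σ y) = y := fun y => congr($hρσ y)
  let L := RingHom.ker ρ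
  haveI : L.IsPrime := RingHom.ker_isPrime ρ
  have hevρ : ∀ t f, MvPolynomial.eval (fun _ : Fin 1 => t) (ρ f) =
      MvPolynomial.eval (fun j => q j + (p j - q j) * t) f := fun t f => by
    have : (MvPolynomial.aeval (fun _ : Fin 1 => t) : _ →ₐ[k] k).comp ρ =
        MvPolynomial.aeval (fun j => q j + (p j - q j) * t) :=
      MvPolynomial.algHom_ext fun j => by simp [ρ]
    simpa [MvPolynomial.aeval_eq_eval] using congr($this f)
  have hLq : L ≤ m₀.under (MvPolynomial (Fin s) k) := fun f hf => (hmem f).mpr (by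
    have h := hevρ 0 f
    rw [show ρ f = 0 from hf] at h
    simpa using h.symm)
  haveI : m₀.LiesOver (m₀.under (MvPolynomial (Fin s) k)) := ⟨rfl⟩
  obtain ⟨P, hPm, hP, hPL⟩ :=
    Ideal.exists_ideal_le_liesOver_of_le (p := L) (q := m₀.under (MvPolynomial (Fin s) k)) m₀ hLq
  have hPL' : P.comap g.toRingHom = L := hPL.over.symm
  let τ : MvPolynomial (Fin 1) k →ₐ[k] R ⧸ P := ((Ideal.Quotient.mkₐ k P).comp g).comp σ
  have hτρ : ∀ f, τ (ρ f) = Ideal.Quotient.mk P (g f) := fun f => by
    have h : σ (ρ f) - f ∈ L := by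
      rw [RingHom.mem_ker, map_sub, hρσ', sub_self]
    rw [← hPL'] at h
    change Ideal.Quotient.mk P (g (σ (ρ f))) = _
    rw [Ideal.Quotient.eq, ← map_sub]
    exact h
  have hτinj : Function.Injective τ := by
    rw [injective_iff_map_eq_zero]
    intro y hy
    have h : σ y ∈ P.comap g.toRingHom := by
      change g (σ y) ∈ P
      exact Ideal.Quotient.eq_zero_iff_mem.mp hy
    rw [hPL', RingHom.mem_ker, hρσ'] at h
    exact h
  have hτint : τ.toRingHom.IsIntegral := by
    refine RingHom.IsIntegral.tower_top ρ.toRingHom τ.toRingHom ?_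
    have : τ.toRingHom.comp ρ.toRingHom = (Ideal.Quotient.mk P).comp g.toRingHom := RingHom.ext hτρ
    rw [this]
    exact hgi.trans _ _ (RingHom.isIntegral_of_surjective _ Ideal.Quotient.mk_surjective)
  obtain ⟨m₁, hPm₁, hm₁, hm₁M⟩ := Ideal.exists_ideal_over_prime_of_isIntegral
    (MvPolynomial.vanishingIdeal k {p} : Ideal (MvPolynomial (Fin s) k)) P (by
      change P.comap g.toRingHom ≤ _
      rw [hPL']
      intro f hf
      rw [mem_vanishingIdeal_singleton_iff, MvPolynomial.aeval_eq_eval]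
      have h := hevρ 1 f
      rw [show ρ f = 0 from hf] at h
      simpa using h.symm)
  haveI : (MvPolynomial.vanishingIdeal k {p} : Ideal (MvPolynomial (Fin s) k)).IsMaximal :=
    isMaximal_iff_eq_vanishingIdeal_singleton.mpr ⟨p, rfl⟩
  haveI := hm₁
  refine ⟨P, τ, m₁, hP, hPm, hτinj, hτint,
    Ideal.isMaximal_of_isIntegral_of_isMaximal_comap m₁
      ((show m₁.comap (algebraMap (MvPolynomial (Fin s) k) R) = _ from hm₁M) ▸
        (inferInstance : (MvPolynomial.vanishingIdeal k {p} : Ideal (MvPolynomial (Fin s) k)).IsMaximal)), hPm₁, fun hle => ?_⟩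
  have : a ∈ (MvPolynomial.vanishingIdeal k {p} : Ideal (MvPolynomial (Fin s) k)) :=
    hm₁M ▸ hle haJ
  rw [mem_vanishingIdeal_singleton_iff, MvPolynomial.aeval_eq_eval] at this
  exact left_ne_zero_of_mul hp this

end Groth.Agent.H4.LineLift
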