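import Groth.Agent.H63.SubAV
import Groth.Agent.H63.AVTorsPoints

/-! Over an algebraically closed field the torsion points of order a power of a prime different from
the characteristic are dense in an abelian variety. -/

set_option autoImplicit false
set_option linter.style.haveILetI false

universe u

open CategoryTheory CategoryTheory.Limits MonoidalCategory CartesianMonoidalCategory AlgebraicGeometry
open scoped MonObj GrpObj
open Groth.Agent.H63.GrpIrred Groth.Agent.H63.GrpComponent Groth.Agent.H63.GrpConnected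
open IsLocalRing (closedPoint)
open Groth.Agent.Lib

namespace Groth.Agent.H4.TorsionDense

noncomputable section

/-- A group object with a monic homomorphism to a commutative one is commutative. -/
theorem isCommMonObj_of_mono {C : Type*} [Category C] [CartesianMonoidalCategory C] [BraidedCategory C]
    {M G : C} [GrpObj M] [GrpObj G] [IsCommMonObj G] (i : M ⟶ G) [IsMonHom i] [Mono i] :
    IsCommMonObj M where
  mul_comm := by
    rw [← cancel_mono i, Category.assoc, IsMonHom.mul_hom, ← BraidedCategory.braiding_naturality_assoc,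
      IsCommMonObj.mul_comm]

variable {k : Type u} [Field k] [IsAlgClosed k] (A : Over (Spec (CommRingCat.of k))) [GrpObj A]
  [IsProper A.hom] [GeometricallyIntegral A.hom] [IsCommMonObj A]

/-- The point of a rational point. -/
abbrev cp {B : Over (Spec (CommRingCat.of k))} (a : 𝟙_ (Over (Spec (CommRingCat.of k))) ⟶ B) : B.left :=
  a.left (closedPoint k)

omit [IsAlgClosed k] [IsProper A.hom] [GeometricallyIntegral A.hom] [IsCommMonObj A] in
theorem tr_cp (a b : 𝟙_ (Over (Spec (CommRingCat.of k))) ⟶ A) :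
    (H63.AmpleCompl.tr b).left (cp a) = cp (a * b) := by
  show (a ≫ H63.AmpleCompl.tr b).left (closedPoint k) = _
  rw [H63.AmpleCompl.comp_tr, toUnit_unique (toUnit (𝟙_ (Over (Spec (CommRingCat.of k))))) (𝟙 _),
    Category.id_comp]

/-- A closed set containing all closed points is everything. -/
theorem eq_univ_of_closedPoints {X : Type*} [TopologicalSpace X] [JacobsonSpace X] {s : Set X}
    (hs : IsClosed s) (h : ∀ x, IsClosed ({x} : Set X) → x ∈ s) : s = Set.univ := by
  by_contra hne
  obtain ⟨x, hx, hxc⟩ := nonempty_inter_closedPoints (Z := sᶜ)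
    (Set.nonempty_compl.2 hne) hs.isOpen_compl.isLocallyClosed
  exact hx (h x hxc)

/-- Prime-to-characteristic prime power torsion is dense. -/
theorem dense (p : ℕ) [hp : Fact p.Prime] (hpk : (p : k) ≠ 0) {H : Set A.left} (hH : IsClosed H)
    (hT : ∀ (m : ℕ) (a : 𝟙_ (Over (Spec (CommRingCat.of k))) ⟶ A), a ^ (p ^ m) = 1 → cp a ∈ H) :
    H = Set.univ := by
  classical
  let I := 𝟙_ (Over (Spec (CommRingCat.of k)))
  haveI : Subsingleton I.left := inferInstanceAs (Subsingleton (Spec (CommRingCat.of k)))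
  haveI : IsReduced I.left := inferInstanceAs (IsReduced (Spec (CommRingCat.of k)))
  let S : Set A.left := {x | ∃ (m : ℕ) (a : I ⟶ A), a ^ (p ^ m) = 1 ∧ cp a = x}
  let C := closure S
  suffices hC : C = Set.univ from Set.eq_univ_of_univ_subset (hC ▸ closure_minimal
    (fun x ⟨m, a, ha, hax⟩ => hax ▸ hT m a ha) hH)
  have hS : ∀ a b : I ⟶ A, cp a ∈ S → cp b ∈ S → cp (a * b) ∈ S := by
    rintro a b ⟨m, a', ha, hae⟩ ⟨n, b', hb, hbe⟩
    have e : ∀ (u v : I ⟶ A), cp u = cp v → u = v := fun u v h =>
      Over.OverMorphism.ext (ext_of_apply_closedPoint_eq A.hom (Over.w _) (Over.w _) h)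
    rw [← e _ _ hae, ← e _ _ hbe]
    refine ⟨m + n, a' * b', ?_, rfl⟩
    rw [mul_pow, pow_add, pow_mul a', ha, one_pow, one_mul, mul_comm (p ^ m), pow_mul, hb, one_pow]
  have hone : cp (1 : I ⟶ A) ∈ S := ⟨0, 1, one_pow _, rfl⟩
  have hmulC : ∀ a b : I ⟶ A, cp a ∈ C → cp b ∈ C → cp (a * b) ∈ C := by
    have h1 : ∀ a b : I ⟶ A, cp b ∈ S → cp a ∈ C → cp (a * b) ∈ C := by
      intro a b hb ha
      rw [← tr_cp]
      refine map_mem_closure (H63.AmpleCompl.tr b).left.continuous ha ?_
      rintro _ ⟨m, a', ha', rfl⟩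
      rw [tr_cp]
      exact hS a' b ⟨m, a', ha', rfl⟩ hb
    intro a b ha hb
    rw [mul_comm a b, ← tr_cp]
    refine closure_closure.le (map_mem_closure (H63.AmpleCompl.tr a).left.continuous hb ?_)
    rintro _ ⟨m, b', hb', rfl⟩
    rw [tr_cp, mul_comm]
    exact h1 a b' ⟨m, b', hb', rfl⟩ ha
  have hinvC : ∀ a : I ⟶ A, cp a ∈ C → cp a⁻¹ ∈ C := by
    intro a ha
    have e : ∀ b : I ⟶ A, cp b⁻¹ = ι[A].left (cp b) := fun b => by
      rw [Hom.inv_def]
      exact Scheme.Hom.comp_apply _ _ _
    rw [e]
    refine map_mem_closure ι[A].left.continuous ha ?_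
    rintro _ ⟨m, b, hb, rfl⟩
    exact ⟨m, b⁻¹, by rw [inv_pow, hb, inv_one], e b⟩
  -- the reduced subgroup
  let J := Scheme.IdealSheafData.vanishingIdeal (⟨C, isClosed_closure⟩ : TopologicalSpace.Closeds A.left)
  haveI : IsReduced J.subscheme := H75.RedSub.isReduced_vanishingIdeal _
  let M : Over (Spec (CommRingCat.of k)) := Over.mk (J.subschemeι ≫ A.hom)
  let i : M ⟶ A := Over.homMk J.subschemeι rfl
  haveI : IsClosedImmersion i.left := inferInstanceAs (IsClosedImmersion J.subschemeι)
  haveI : Mono i := Over.mono_of_mono_left _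
  have hi : Set.range i.left = C := J.range_subschemeι
  haveI : IsProper M.hom := inferInstanceAs (IsProper (J.subschemeι ≫ A.hom))
  haveI : IsReduced M.left := ‹IsReduced J.subscheme›
  haveI : GeometricallyReduced M.hom := H52.FBase.GeomRedSch.geometricallyReduced_of_perfectField _
  haveI : IsReduced (M ⊗ M).left := by
    haveI := H52.FBase.GeomRedSch.geometricallyReduced_prod M.hom M.hom
    let f := pullback.fst M.hom M.hom ≫ M.hom
    haveI : IsReduced (pullback f (𝟙 _)) :=
      GeometricallyReduced.geometrically_isReduced _ _ _ (.of_hasPullback _ _)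
    show IsReduced (pullback M.hom M.hom)
    exact isReduced_of_isOpenImmersion (inv (pullback.fst f (𝟙 _)))
  have hfac : ∀ {V : Over (Spec (CommRingCat.of k))} [IsReduced V.left] [LocallyOfFiniteType V.hom]
      (φ : V ⟶ A), (∀ s : I ⟶ V, cp (s ≫ φ) ∈ C) → ∃ φ' : V ⟶ M, φ' ≫ i = φ := by
    intro V _ _ φ h
    refine HomImage.exists_factor i φ ?_
    rw [hi]
    haveI : JacobsonSpace V.left := LocallyOfFiniteType.jacobsonSpace V.hom
    have hu : φ.left ⁻¹' C = Set.univ :=
      eq_univ_of_closedPoints (isClosed_closure.preimage φ.left.continuous) fun x hx => by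
        let s : I ⟶ V := Over.homMk (pointOfClosedPoint V.hom x hx) (pointOfClosedPoint_comp V.hom x hx)
        have hs := h s
        rw [← show s.left (closedPoint k) = x from pointOfClosedPoint_apply V.hom x hx _]
        exact hs
    rintro _ ⟨x, rfl⟩
    exact hu.ge (Set.mem_univ x)
  have hmem : ∀ {V : Over (Spec (CommRingCat.of k))} (s : I ⟶ V) (f : V ⟶ M), cp (s ≫ f ≫ i) ∈ C := by
    intro V s f
    rw [← hi, ← Category.assoc]
    exact ⟨(s ≫ f).left (closedPoint k), rfl⟩
  haveI : LocallyOfFiniteType (M ⊗ M).hom :=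
    inferInstanceAs (LocallyOfFiniteType (pullback.fst M.hom M.hom ≫ M.hom))
  haveI : LocallyOfFiniteType I.hom := inferInstanceAs (LocallyOfFiniteType (𝟙 (Spec (CommRingCat.of k))))
  obtain ⟨_, hiHom⟩ := HomImage.exists_grpObj i
    (hfac η[A] fun s => by
      rw [show s ≫ η[A] = 1 by rw [Hom.one_def, toUnit_unique s (toUnit I)]]
      exact subset_closure hone)
    (hfac _ fun s => by
      rw [MonObj.comp_mul]
      exact hmulC _ _ (hmem s _) (hmem s _))
    (hfac _ fun s => by
      rw [GrpObj.comp_inv]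
      exact hinvC _ (by simpa using hmem s (𝟙 M)))
  haveI := hiHom
  haveI : IsCommMonObj M := isCommMonObj_of_mono i
  -- its identity component
  haveI := H63.SubAV.isReduced_comp M
  obtain ⟨_, hj⟩ := H63.SubAV.exists_grpObj_comp M
  haveI : IsClosedImmersion (compHom M).left := isClosedImmersion_compIncl M
  haveI : GeometricallyReduced (compObj M).hom :=
    H52.FBase.GeomRedSch.geometricallyReduced_of_perfectField _
  haveI : IsProper (compObj M).hom := by rw [← Over.w (compHom M)]; infer_instance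
  haveI : IrreducibleSpace (compObj M).left := by
    have h : IsIrreducible (comp0 M) := isIrreducible_irreducibleComponent
    have e := (compIncl M).isClosedEmbedding.isInducing
    have hr := range_compIncl M
    haveI : Nonempty (compObj M).left := by
      obtain ⟨x, hx⟩ := h.1
      rw [← hr] at hx
      exact ⟨hx.choose⟩
    haveI : PreirreducibleSpace (compObj M).left := ⟨fun u v hu hv ⟨x, _, hx⟩ ⟨y, _, hy⟩ => by
      obtain ⟨U, hU, rfl⟩ := e.isOpen_iff.1 hu
      obtain ⟨V, hV, rfl⟩ := e.isOpen_iff.1 hv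
      obtain ⟨z, hz, hzU, hzV⟩ := h.2 U V hU hV ⟨_, hr ▸ Set.mem_range_self x, hx⟩ ⟨_, hr ▸ Set.mem_range_self y, hy⟩
      rw [← hr] at hz
      obtain ⟨w, rfl⟩ := hz
      exact ⟨w, trivial, hzU, hzV⟩⟩
    exact { toNonempty := inferInstance }
  haveI : GeometricallyIntegral (compObj M).hom := HomImage.geometricallyIntegral_of_connected (compObj M)
  haveI := isCommMonObj_of_isProper_of_geometricallyIntegral (compObj M)
  haveI : IsIntegral (compObj M).left := GeometricallyIntegral.isIntegral_of_subsingleton (compObj M).hom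
  haveI : IsIntegral A.left := GeometricallyIntegral.isIntegral_of_subsingleton A.hom
  obtain ⟨c, hc, hpow⟩ := H63.SubAV.exists_pow_mem M
  let j : compObj M ⟶ A := compHom M ≫ i
  haveI : IsClosedImmersion j.left := by rw [Over.comp_left]; infer_instance
  haveI : Mono j := Over.mono_of_mono_left _
  obtain ⟨g, hg⟩ : ∃ g : ℕ, topologicalKrullDim A.left = g :=
    ⟨_, VarDim.Basic.topologicalKrullDim_irreducibleSpace A.hom⟩
  obtain ⟨h, hh⟩ : ∃ h : ℕ, topologicalKrullDim (compObj M).left = h :=
    ⟨_, VarDim.Basic.topologicalKrullDim_irreducibleSpace (compObj M).hom⟩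
  -- counting
  have hcount : ∀ m : ℕ, p ^ (m * (2 * g)) ≤ Nat.card (AbDual.torsPts A c I) * p ^ (m * (2 * h)) := by
    intro m
    have hpm : ((p ^ m : ℕ) : k) ≠ 0 := by rw [Nat.cast_pow]; exact pow_ne_zero _ hpk
    have hlift : ∀ a : AbDual.torsPts A (p ^ m) I, ∃ b : AbDual.torsPts (compObj M) (p ^ m) I,
        (b.1 : I ⟶ compObj M) ≫ j = a.1 ^ c := by
      intro a
      haveI : LocallyOfFiniteType I.hom := inferInstanceAs (LocallyOfFiniteType (𝟙 (Spec (CommRingCat.of k))))
      obtain ⟨a', ha'⟩ := hfac a.1 fun s => by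
        rw [toUnit_unique s (𝟙 I), Category.id_comp]
        exact subset_closure ⟨m, a.1, a.2, rfl⟩
      obtain ⟨b, hb⟩ := H63.SubAV.exists_lift M (a' ^ c) fun t => by
        rw [show t = closedPoint k from Subsingleton.elim (α := PrimeSpectrum k) _ _]
        exact hpow a'
      have hbj : b ≫ j = a.1 ^ c := by
        rw [show b ≫ j = (b ≫ compHom M) ≫ i from (Category.assoc _ _ _).symm, hb, MonObj.pow_comp, ha']
      refine ⟨⟨b, ?_⟩, hbj⟩
      show b ^ (p ^ m) = 1
      rw [← cancel_mono j, MonObj.pow_comp, hbj, ← pow_mul, mul_comm, pow_mul,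
        show (a.1 : I ⟶ A) ^ (p ^ m) = 1 from a.2, one_pow, MonObj.one_comp]
    choose F hF using hlift
    let R : AbDual.torsPts (compObj M) (p ^ m) I → (I ⟶ A) := fun b =>
      if hb : ∃ a, F a = b then hb.choose.1 else 1
    let Φ : AbDual.torsPts A (p ^ m) I → AbDual.torsPts (compObj M) (p ^ m) I × AbDual.torsPts A c I :=
      fun a => (F a, ⟨a.1 / R (F a), by
        show (a.1 / R (F a)) ^ c = 1
        have hex : ∃ a', F a' = F a := ⟨a, rfl⟩
        simp only [R, dif_pos hex]
        rw [div_pow, ← hF, ← hF, hex.choose_spec, div_self']⟩)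
    have hΦ : Function.Injective Φ := by
      intro a a' haa
      have h1 : F a = F a' := congrArg Prod.fst haa
      have h2 : a.1 / R (F a) = a'.1 / R (F a') := congrArg (fun q => (q.2).1) haa
      rw [h1] at h2
      exact Subtype.ext (div_left_inj.1 h2)
    haveI : Finite (AbDual.torsPts (compObj M) (p ^ m) I) :=
      H63.AVTorsPoints.finite_torsPts (compObj M) (pow_pos hp.out.pos m)
    haveI : Finite (AbDual.torsPts A c I) := H63.AVTorsPoints.finite_torsPts A hc
    have h1 := Nat.card_le_card_of_injective Φ hΦ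
    rw [Nat.card_prod] at h1
    have e1 : Nat.card (AbDual.torsPts A (p ^ m) I) = (p ^ m) ^ (2 * g) :=
      H63.AVTorsPoints.natCard_torsPts A hg hpm
    have e2 : Nat.card (AbDual.torsPts (compObj M) (p ^ m) I) = (p ^ m) ^ (2 * h) :=
      H63.AVTorsPoints.natCard_torsPts (compObj M) hh hpm
    rw [e1, e2, ← pow_mul, ← pow_mul, mul_comm (p ^ (m * (2 * h)))] at h1
    exact h1
  have hgh : g ≤ h := by
    by_contra hlt
    push Not at hlt
    let N := Nat.card (AbDual.torsPts A c I)
    have h1 := hcount N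
    have h2 : p ^ (N * (2 * h)) * p ^ N ≤ p ^ (N * (2 * g)) := by
      rw [← pow_add]
      exact Nat.pow_le_pow_right hp.out.pos (by nlinarith)
    have h3 : p ^ N ≤ N := Nat.le_of_mul_le_mul_left (h2.trans (h1.trans (mul_comm _ _).le))
      (pow_pos hp.out.pos _)
    exact absurd h3 (not_le.2 (Nat.lt_pow_self hp.out.one_lt))
  haveI : Surjective j.left := IsogenyDim.surjective_of_finite j (by rw [hg, hh]; exact_mod_cast hgh)
  refine Set.eq_univ_of_univ_subset fun x _ => ?_
  obtain ⟨y, rfl⟩ := j.left.surjective x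
  rw [← hi]
  exact ⟨(compHom M).left y, (Scheme.Hom.comp_apply _ _ _).symm⟩

end

end Groth.Agent.H4.TorsionDense
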