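import Groth.Agent.H4.InfTorsion
import Groth.Agent.H4.TorsionDense

/-! A closed subscheme of an abelian variety containing all torsion subschemes of order a power of a
given prime is everything. -/

set_option autoImplicit false
set_option linter.style.haveILetI false

universe u

open CategoryTheory CategoryTheory.Limits MonoidalCategory CartesianMonoidalCategory AlgebraicGeometry
open scoped MonObj GrpObj
open Groth.Agent.Lib
open IsLocalRing (closedPoint)

namespace Groth.Agent.H4.PrimePowDense

theorem isIso_of_factor {k : Type u} [Field k] (X : Over (Spec (CommRingCat.of k))) [GrpObj X]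
    [IsProper X.hom] [GeometricallyIntegral X.hom] (p : ℕ) (hp : p.Prime) {Z : Scheme.{u}}
    (c : Z ⟶ X.left) [IsClosedImmersion c]
    (hc : ∀ m : ℕ, 0 < m →
      ∃ t : pullback η[X].left ((𝟙 X ^ (p ^ m)).left) ⟶ Z,
        t ≫ c = pullback.snd η[X].left ((𝟙 X ^ (p ^ m)).left)) :
    IsIso c := by
  haveI := isCommMonObj_of_isProper_of_geometricallyIntegral X
  haveI : IsIntegral X.left := GeometricallyIntegral.isIntegral_of_subsingleton X.hom
  haveI : Fact p.Prime := ⟨hp⟩
  suffices Surjective c from isIso_of_isClosedImmersion_of_surjective c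
  by_cases hk : (p : k) = 0
  · haveI : CharP k p := (CharP.charP_iff_prime_eq_zero hp).2 hk
    exact InfTorsion.surjective_of_factor X p c hc
  let e := GrpSch.extBase k (AlgebraicClosure k)
  let Xb := Red.bc e X
  haveI : IsProper Xb.hom := GrpSch.bc_hom_of (P := @IsProper) e X inferInstance
  haveI : GeometricallyIntegral Xb.hom :=
    GrpSch.bc_hom_of (P := @GeometricallyIntegral) e X inferInstance
  haveI := isCommMonObj_of_isProper_of_geometricallyIntegral Xb
  let π : Xb.left ⟶ X.left := pullback.fst X.hom e
  haveI : Surjective e := ⟨fun _ => ⟨closedPoint (AlgebraicClosure k),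
    Subsingleton.elim (α := PrimeSpectrum k) _ _⟩⟩
  haveI : Surjective π := inferInstanceAs (Surjective (pullback.fst X.hom e))
  have hmap : ∀ n : ℕ, (Over.pullback e).map ((𝟙 X : X ⟶ X) ^ n) = (𝟙 Xb) ^ n := by
    intro n
    induction n with
    | zero => simp [Functor.map_one, Xb]
    | succ n ih => rw [pow_succ, Functor.map_mul, ih, CategoryTheory.Functor.map_id, pow_succ]
  have hall : π ⁻¹' Set.range c = Set.univ := by
    refine TorsionDense.dense Xb p ?_ (c.isClosedEmbedding.isClosed_range.preimage π.continuous)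
      fun m a ha => ?_
    · intro h0
      exact hk ((algebraMap k (AlgebraicClosure k)).injective (by rw [map_natCast, map_zero, h0]))
    obtain ⟨t, ht⟩ := hc (m + 1) m.succ_pos
    have ha' : a ^ (p ^ (m + 1)) = 1 := by rw [pow_succ, pow_mul, ha, one_pow]
    have h1 : (a ≫ (Over.pullback e).map ((𝟙 X : X ⟶ X) ^ (p ^ (m + 1)))).left ≫ π =
        (a ≫ (Over.pullback e).map (1 : X ⟶ X)).left ≫ π := by
      rw [hmap, MonObj.comp_pow, Category.comp_id, ha', Functor.map_one, MonObj.comp_one]
    have h2 : ∀ f : X ⟶ X, (a ≫ (Over.pullback e).map f).left ≫ π = (a.left ≫ π) ≫ f.left := by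
      intro f
      rw [Over.comp_left, Category.assoc, Category.assoc]
      congr 1
      exact pullback.lift_fst _ _ _
    rw [h2, h2, show (1 : X ⟶ X).left = X.hom ≫ η[X].left by
      rw [Hom.one_def, Over.comp_left, Over.toUnit_left]] at h1
    let l : (𝟙_ (Over (Spec (CommRingCat.of (AlgebraicClosure k))))).left ⟶
        pullback η[X].left ((𝟙 X ^ (p ^ (m + 1))).left) :=
      pullback.lift ((a.left ≫ π) ≫ X.hom) (a.left ≫ π) (by rw [h1, Category.assoc])
    have hl : (l ≫ t) ≫ c = a.left ≫ π := by rw [Category.assoc, ht, pullback.lift_snd]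
    refine ⟨(l ≫ t) (closedPoint (AlgebraicClosure k)), ?_⟩
    exact congrArg (fun f : (𝟙_ (Over (Spec (CommRingCat.of (AlgebraicClosure k))))).left ⟶ X.left =>
      f (closedPoint (AlgebraicClosure k))) hl
  refine ⟨fun x => ?_⟩
  obtain ⟨y, rfl⟩ := π.surjective x
  exact hall.ge (Set.mem_univ y)

end Groth.Agent.H4.PrimePowDense
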