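import Mathlib.FieldTheory.IntermediateField.Adjoin.Basic
import Mathlib.FieldTheory.KummerPolynomial
import Mathlib.RingTheory.DualNumber
import Mathlib.Algebra.CharP.Lemmas
import Mathlib.Order.Zorn
import Mathlib.Algebra.CharP.Algebra

/-! An element of a field of characteristic `p` which is not a `p`-th power moves under some
dual-number point lifting the identity. -/

set_option autoImplicit false
set_option linter.style.haveILetI false

universe u
open scoped DualNumber
namespace Groth.Agent.H4.PthDual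
open IntermediateField Polynomial

theorem exists_dual {K : Type u} [Field K] (p : ℕ) [hp : Fact p.Prime] [CharP K p] {x : K}
    (hx : ∀ y : K, y ^ p ≠ x) :
    ∃ τ : K →+* K[ε], (∀ y, (τ y).fst = y) ∧ (τ x).snd = 1 := by
  classical
  let S : Set (Subfield K) := {M | (∀ y : K, y ^ p ∈ M) ∧ x ∉ M}
  haveI : ExpChar K p := ExpChar.prime hp.out
  have h0 : (frobenius K p).fieldRange ∈ S := by
    refine ⟨fun y => ⟨y, rfl⟩, ?_⟩
    rintro ⟨y, hy⟩
    exact hx y hy
  obtain ⟨M, -, ⟨hMp, hMx⟩, hmax⟩ := zorn_le_nonempty₀ S (fun c hc hchain z hz => by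
    refine ⟨sSup c, ⟨fun y => ?_, ?_⟩, fun s hs => le_sSup hs⟩
    · exact (le_sSup hz : z ≤ sSup c) ((hc hz).1 y)
    · intro hmem
      obtain ⟨s, hs, hxs⟩ := (Subfield.mem_sSup_of_directedOn ⟨z, hz⟩ hchain.directedOn).1 hmem
      exact (hc hs).2 hxs) _ h0
  have hirr : ∀ b : K, b ∉ M → Irreducible (X ^ p - C (⟨b ^ p, hMp b⟩ : M)) := by
    intro b hb
    refine X_pow_sub_C_irreducible_of_prime hp.out fun c hc => hb ?_
    have : ((c : K)) ^ p = b ^ p := congrArg Subtype.val hc
    rw [show b = (c : K) from frobenius_inj K p (by simpa [frobenius_def] using this.symm)]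
    exact c.2
  have hmin : ∀ b : K, b ∉ M → minpoly M b = X ^ p - C (⟨b ^ p, hMp b⟩ : M) := by
    intro b hb
    refine (minpoly.eq_of_irreducible_of_monic (hirr b hb) ?_ (monic_X_pow_sub_C _ hp.out.ne_zero)).symm
    rw [map_sub, aeval_X_pow, aeval_C, sub_eq_zero]; rfl
  have hint : IsIntegral M x := ⟨X ^ p - C (⟨x ^ p, hMp x⟩ : M), monic_X_pow_sub_C _ hp.out.ne_zero, by
    rw [eval₂_sub, eval₂_X_pow, eval₂_C, sub_eq_zero]; rfl⟩
  have htop : M⟮x⟯ = ⊤ := by
    refine eq_top_iff.2 fun b _ => ?_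
    by_cases hb : b ∈ M
    · exact M⟮x⟯.algebraMap_mem ⟨b, hb⟩
    · have hbi : IsIntegral M b := ⟨X ^ p - C (⟨b ^ p, hMp b⟩ : M), monic_X_pow_sub_C _ hp.out.ne_zero, by
        rw [eval₂_sub, eval₂_X_pow, eval₂_C, sub_eq_zero]; rfl⟩
      haveI := adjoin.finiteDimensional hbi
      have hxb : x ∈ M⟮b⟯ := by
        by_contra hxb
        have hle : M ≤ M⟮b⟯.toSubfield := fun a ha => M⟮b⟯.algebraMap_mem ⟨a, ha⟩
        have hmem : M⟮b⟯.toSubfield ∈ S := ⟨fun y => hle (hMp y), hxb⟩
        exact hb (hmax hmem hle (mem_adjoin_simple_self M b))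
      have e : M⟮x⟯ = M⟮b⟯ := by
        refine IntermediateField.eq_of_le_of_finrank_eq (adjoin_simple_le_iff.2 hxb) ?_
        rw [adjoin.finrank hint, adjoin.finrank hbi, hmin x hMx, hmin b hb, natDegree_X_pow_sub_C,
          natDegree_X_pow_sub_C]
      rw [e]
      exact mem_adjoin_simple_self M b
  let pb := adjoin.powerBasis hint
  let y0 : K[ε] := TrivSqZeroExt.inl x + DualNumber.eps
  have hy0 : aeval y0 (minpoly M pb.gen) = 0 := by
    rw [show minpoly M pb.gen = minpoly M x by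
      rw [adjoin.powerBasis_gen]; exact minpoly_gen M x, hmin x hMx]
    haveI : CharP K[ε] p := charP_of_injective_ringHom (f := algebraMap K K[ε]) (RingHom.injective _) p
    simp only [map_sub, map_pow, aeval_X, aeval_C, sub_eq_zero, y0]
    rw [add_pow_char, show (DualNumber.eps : K[ε]) ^ p = 0 from ?_, add_zero]
    · exact ((TrivSqZeroExt.inlHom K K).map_pow x p).symm
    · obtain ⟨j, hj⟩ : ∃ j, p = 2 + j := ⟨p - 2, by have := hp.out.two_le; omega⟩
      rw [hj, pow_add, pow_two, DualNumber.eps_mul_eps, zero_mul]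
  let e : K →ₐ[M] M⟮x⟯ := (((IntermediateField.equivOfEq htop).trans topEquiv).symm : K ≃ₐ[M] M⟮x⟯)
  let τ : K →ₐ[M] K[ε] := (pb.lift y0 hy0).comp e
  have hex : e x = pb.gen := by
    apply Subtype.ext
    rw [adjoin.powerBasis_gen]
    rfl
  have hτx : τ x = y0 := by simp [τ, hex]
  refine ⟨τ.toRingHom, fun y => ?_, by simp [hτx, y0]⟩
  have hfst : (TrivSqZeroExt.fstHom M K K).comp (pb.lift y0 hy0) = M⟮x⟯.val := by
    refine pb.algHom_ext ?_
    simp [y0]
    exact (congrArg Subtype.val (adjoin.powerBasis_gen hint)).symm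
  exact (DFunLike.congr_fun hfst (e y)).trans rfl

end Groth.Agent.H4.PthDual
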