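import Mathlib.RingTheory.HopfAlgebra.Basic
import Mathlib.RingTheory.TensorProduct.Finite
import Mathlib.LinearAlgebra.FiniteDimensional.Lemmas

/-! The shear automorphism `c ⊗ a ↦ (c ⊗ 1) * Δ a` of a finite Hopf algebra over a field. -/

set_option autoImplicit false

universe u

open TensorProduct Coalgebra

namespace Groth.Agent.H4.Shear

theorem exists_shear (k : Type u) [Field k] (A : Type u) [CommRing A] [HopfAlgebra k A] [Module.Finite k A] :
    ∃ ψ : A ⊗[k] A →ₐ[A] A ⊗[k] A,
      (∀ c b : A, ψ (c ⊗ₜ[k] b) = (c ⊗ₜ[k] (1 : A)) * comul b) ∧ Function.Bijective ψ := by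
  classical
  let ψ : A ⊗[k] A →ₐ[A] A ⊗[k] A :=
    Algebra.TensorProduct.lift (Algebra.ofId A (A ⊗[k] A)) (Bialgebra.comulAlgHom k A)
      fun a b => Commute.all _ _
  have hψ : ∀ c a : A, ψ (c ⊗ₜ[k] a) = (c ⊗ₜ[k] (1 : A)) * comul a := fun c a => by
    simp [ψ, Algebra.ofId_apply, Algebra.TensorProduct.algebraMap_apply]
  have hsurj : Function.Surjective ψ := by
    let g : A ⊗[k] A →ₗ[k] A ⊗[k] A :=
      ((LinearMap.mul' k A) ∘ₗ (HopfAlgebra.antipode k).rTensor A).rTensor A ∘ₗ
        (TensorProduct.assoc k A A A).symm.toLinearMap ∘ₗ comul.lTensor A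
    have hg : ∀ c a : A, g (c ⊗ₜ[k] a) = ψ (HopfAlgebra.antipode k c ⊗ₜ[k] a) := by
      intro c a
      rw [hψ]
      simp only [g, LinearMap.comp_apply, LinearMap.lTensor_tmul, LinearEquiv.coe_coe]
      generalize comul (R := k) a = w
      induction w with
      | zero => simp
      | add u v hu hv => rw [tmul_add, map_add, map_add, hu, hv, mul_add]
      | tmul p q => simp [Algebra.TensorProduct.tmul_mul_tmul]
    have hone : ∀ a : A, ∃ z, ψ z = (1 : A) ⊗ₜ[k] a := by
      intro a
      refine ⟨(HopfAlgebra.antipode k).rTensor A (comul a), ?_⟩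
      have h1 : ∀ w : A ⊗[k] A, ψ ((HopfAlgebra.antipode k).rTensor A w) = g w := fun w => by
        induction w with
        | zero => simp
        | add u v hu hv => rw [map_add, map_add, map_add, hu, hv]
        | tmul p q => rw [LinearMap.rTensor_tmul, hg]
      rw [h1]
      simp only [g, LinearMap.comp_apply, LinearEquiv.coe_coe, coassoc_symm_apply]
      rw [← LinearMap.comp_apply, ← LinearMap.rTensor_comp, LinearMap.comp_assoc,
        HopfAlgebra.mul_antipode_rTensor_comul, LinearMap.rTensor_comp, LinearMap.comp_apply,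
        rTensor_counit_comul]
      simp
    intro w
    induction w with
    | zero => exact ⟨0, map_zero _⟩
    | add u v hu hv =>
      obtain ⟨p, rfl⟩ := hu
      obtain ⟨q, rfl⟩ := hv
      exact ⟨p + q, map_add _ _ _⟩
    | tmul c a =>
      obtain ⟨z, hz⟩ := hone a
      refine ⟨c • z, ?_⟩
      rw [map_smul, hz, TensorProduct.smul_tmul', smul_eq_mul, _root_.mul_one]
  have hbij : Function.Bijective ψ :=
    ⟨(LinearMap.injective_iff_surjective (f := ψ.toLinearMap.restrictScalars k)).2 hsurj, hsurj⟩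
  exact ⟨ψ, hψ, hbij⟩

end Groth.Agent.H4.Shear
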