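import Groth.Agent.Lib.LieS.Points
import Mathlib.AlgebraicGeometry.Morphisms.FormallyUnramified
import Mathlib.AlgebraicGeometry.Morphisms.FiniteType
import Mathlib.RingTheory.Kaehler.Basic
import Mathlib.RingTheory.LocalRing.Module

/-! A morphism locally of finite type which is injective on dual-number points with a given
restriction to the zero section is formally unramified. -/

set_option autoImplicit false

universe u

open CategoryTheory AlgebraicGeometry TensorProduct

namespace Groth.Agent.H4.TangentUnram

/-- A finitely generated nontrivial module has a nonzero fibre at some prime. -/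
theorem exists_ne_zero_to_residueField {B : Type u} [CommRing B] (M : Type u) [AddCommGroup M]
    [Module B M] [Module.Finite B M] [Nontrivial M] :
    ∃ (L : Type u) (_ : Field L) (_ : Algebra B L) (g : M →ₗ[B] L), g ≠ 0 := by
  obtain ⟨q, hq⟩ := (Module.nonempty_support_iff (R := B) (M := M)).2 inferInstance
  rw [Module.mem_support_iff_nontrivial_residueField_tensorProduct] at hq
  let L := q.asIdeal.ResidueField
  obtain ⟨z, hz⟩ := exists_ne (0 : L ⊗[B] M)
  obtain ⟨g, hg⟩ : ∃ g : L ⊗[B] M →ₗ[L] L, g z ≠ 0 := by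
    by_contra h
    push_neg at h
    exact hz ((Module.forall_dual_apply_eq_zero_iff L z).1 h)
  refine ⟨L, inferInstance, inferInstance,
    (g.restrictScalars B).comp (TensorProduct.mk B L M 1), fun h0 => hg ?_⟩
  have h1 : ∀ m, g ((1 : L) ⊗ₜ[B] m) = 0 := fun m => LinearMap.congr_fun h0 m
  clear hz hg
  induction z with
  | zero => exact map_zero g
  | add x y hx hy => rw [map_add, hx, hy, add_zero]
  | tmul c m =>
    rw [show c = c • (1 : L) by rw [smul_eq_mul, mul_one], ← TensorProduct.smul_tmul', map_smul, h1,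
      smul_zero]

variable {S : Scheme.{u}} {X Y : Over S}

/-- Injectivity on tangent vectors. -/
def TangentInjective (f : X ⟶ Y) : Prop :=
  ∀ (L : Type u) [Field L] (b : Spec (CommRingCat.of L) ⟶ S) (v w : _root_.LieS.dpt L b ⟶ X),
    _root_.LieS.zeroSec L b ≫ v = _root_.LieS.zeroSec L b ≫ w → v ≫ f = w ≫ f → v = w

theorem formallyUnramified_of_tangentInjective (f : X ⟶ Y) [LocallyOfFiniteType f.left]
    (h : TangentInjective f) : FormallyUnramified f.left := by
  refine ⟨fun {U} hU {V} hV e => ?_⟩
  have hft := f.left.finiteType_appLE hU hV e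
  let φ := f.left.appLE U V e
  algebraize [φ.hom]
  show Algebra.FormallyUnramified Γ(Y.left, U) Γ(X.left, V)
  haveI : Algebra.FiniteType Γ(Y.left, U) Γ(X.left, V) := hft
  refine (Algebra.formallyUnramified_iff _ _).2 ?_
  by_contra hne
  rw [not_subsingleton_iff_nontrivial] at hne
  obtain ⟨L, _, _, g, hg⟩ := exists_ne_zero_to_residueField (B := Γ(X.left, V))
    (Ω[Γ(X.left, V)⁄Γ(Y.left, U)])
  let A := Γ(Y.left, U)
  let B := Γ(X.left, V)
  let d : B → L := fun b => g (KaehlerDifferential.D A B b)
  have hd_mul : ∀ b c : B, d (b * c) = algebraMap B L b * d c + algebraMap B L c * d b := by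
    intro b c
    simp only [d, Derivation.leibniz, map_add, map_smul, Algebra.smul_def]
  -- the two dual-number points
  let π₀ : B →+* DualNumber L := (algebraMap L (DualNumber L)).comp (algebraMap B L)
  let π₁ : B →+* DualNumber L :=
    { toFun := fun b => TrivSqZeroExt.inl (algebraMap B L b) + TrivSqZeroExt.inr (d b)
      map_one' := by ext <;> simp [d]
      map_mul' := fun b c => by
        ext
        · simp
        · simp [hd_mul, TrivSqZeroExt.snd_mul]; ring
      map_zero' := by ext <;> simp [d]
      map_add' := fun b c => by ext <;> simp [d] }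
  let base : Spec (CommRingCat.of L) ⟶ S :=
    Spec.map (CommRingCat.ofHom (algebraMap B L)) ≫ hV.fromSpec ≫ X.hom
  have hA : Spec.map φ ≫ hU.fromSpec = hV.fromSpec ≫ f.left := hU.SpecMap_appLE_fromSpec f.left hV e
  have hover : ∀ π : B →+* DualNumber L, π.comp φ.hom = π₀.comp φ.hom →
      (Spec.map (CommRingCat.ofHom π) ≫ hV.fromSpec) ≫ f.left =
        (Spec.map (CommRingCat.ofHom π₀) ≫ hV.fromSpec) ≫ f.left := by
    intro π hπ
    simp only [Category.assoc, ← hA, ← Spec.map_comp_assoc]
    congr 2
    ext1
    exact hπ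
  have hw : ∀ π : B →+* DualNumber L, π.comp φ.hom = π₀.comp φ.hom →
      (Spec.map (CommRingCat.ofHom π) ≫ hV.fromSpec) ≫ X.hom = (_root_.LieS.dpt L base).hom := by
    intro π hπ
    show _ = Spec.map _ ≫ base
    rw [← Over.w f, ← Category.assoc _ f.left Y.hom, hover π hπ, Category.assoc _ f.left Y.hom, Over.w f]
    simp only [base, π₀, Category.assoc, CommRingCat.ofHom_comp, Spec.map_comp]
  have hπ₁ : π₁.comp φ.hom = π₀.comp φ.hom := by
    refine RingHom.ext fun a => ?_
    have h0 : d (φ.hom a) = 0 := by
      show g (KaehlerDifferential.D A B (algebraMap A B a)) = 0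
      rw [Derivation.map_algebraMap, map_zero]
    ext <;> simp [π₁, π₀, h0, TrivSqZeroExt.algebraMap_eq_inl']
  have key := h L base (Over.homMk _ (hw π₁ hπ₁)) (Over.homMk _ (hw π₀ rfl)) ?_ ?_
  · have h2 := congrArg Over.Hom.left key
    replace h2 := Spec.map_injective ((cancel_mono hV.fromSpec).1 h2)
    refine hg (LinearMap.ext_on (KaehlerDifferential.span_range_derivation A B) ?_)
    rintro _ ⟨b, rfl⟩
    have h3 := congrArg (fun q : CommRingCat.of B ⟶ CommRingCat.of (DualNumber L) =>
      TrivSqZeroExt.snd (q.hom b)) h2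
    simpa [π₁, π₀, TrivSqZeroExt.algebraMap_eq_inl', d] using h3
  · ext1
    show Spec.map _ ≫ Spec.map _ ≫ _ = Spec.map _ ≫ Spec.map _ ≫ _
    rw [← Spec.map_comp_assoc, ← Spec.map_comp_assoc]
    congr 2
    ext b
    simp [π₁, π₀, TrivSqZeroExt.algebraMap_eq_inl']
  · ext1
    exact hover π₁ hπ₁

end Groth.Agent.H4.TangentUnram
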