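import Groth.Prelude.Def_AbDual
import Mathlib.RingTheory.Finiteness.Basic
import Mathlib.NumberTheory.Padics.RingHoms
import Mathlib.RingTheory.AdicCompletion.Basic

/-! Elementary structure of the Tate module. -/

set_option autoImplicit false

universe u

open CategoryTheory MonoidalCategory CartesianMonoidalCategory MonObj AlgebraicGeometry

namespace Groth.Agent.H4.TateBasic

variable {S : Scheme.{u}} {A : Over S} [GrpObj A] [IsCommMonObj A] {T : Over S} {l : ℕ} [hl : Fact l.Prime]

local notation "cmp" => fun (v : AbDual.TateMod A l T) (n : ℕ) => (v : ℕ → Additive (T ⟶ A)) n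

theorem natCast_smul_apply (m : ℕ) (v : AbDual.TateMod A l T) (j : ℕ) :
    cmp ((m : ℤ_[l]) • v) j = m • cmp v j := by
  rw [Nat.cast_smul_eq_nsmul]
  rfl

theorem pow_smul_apply (m : ℕ) (v : AbDual.TateMod A l T) (j : ℕ) :
    cmp (((l : ℤ_[l]) ^ m) • v) j = (l ^ m) • cmp v j := by
  rw [← Nat.cast_pow]
  exact natCast_smul_apply _ v j

theorem pow_smul_shift (v : AbDual.TateMod A l T) (m j : ℕ) : (l ^ m) • cmp v (j + m) = cmp v j := by
  induction m with
  | zero => simp
  | succ m ih =>
    rw [pow_succ, mul_smul, ← ih, ← add_assoc]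
    congr 1
    exact AbDual.TateMod.compat v (j + m)

theorem pow_smul_eq_zero (v : AbDual.TateMod A l T) (m : ℕ) (h : ((l : ℤ_[l]) ^ m) • v = 0) : v = 0 := by
  refine AbDual.TateMod.ext fun j => ?_
  have := pow_smul_apply m v (j + m)
  rw [h] at this
  exact ((pow_smul_shift v m j).symm.trans this.symm)

theorem smul_eq_zero_iff' (a : ℤ_[l]) (v : AbDual.TateMod A l T) (h : a • v = 0) : a = 0 ∨ v = 0 := by
  by_cases ha : a = 0
  · exact Or.inl ha
  right
  rw [PadicInt.unitCoeff_spec ha, mul_smul] at h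
  exact pow_smul_eq_zero v _ ((smul_eq_zero_iff_eq (PadicInt.unitCoeff ha)).1 h)

/-- A point killed by `l ^ n` with compatible `l`-power roots is a component of a Tate vector. -/
theorem exists_component (hdiv : ∀ y : T ⟶ A, ∃ x : T ⟶ A, x ^ l = y) (n : ℕ) (x : T ⟶ A)
    (hx : x ^ (l ^ n) = 1) : ∃ v : AbDual.TateMod A l T, cmp v n = Additive.ofMul x := by
  choose ρ hρ using hdiv
  let r : ℕ → (T ⟶ A) := fun i => Nat.rec x (fun _ y => ρ y) i
  have hr : ∀ i, r (i + 1) ^ l = r i := fun i => hρ _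
  have hr0 : ∀ i, r i ^ (l ^ i) = x := by
    intro i
    induction i with
    | zero => exact pow_one _
    | succ i ih => rw [pow_succ', pow_mul, hr, ih]
  refine ⟨⟨fun m => Additive.ofMul (r m ^ (l ^ n)), fun m => ?_, fun m => ?_⟩, ?_⟩
  · apply Additive.toMul.injective
    show (r m ^ l ^ n) ^ l ^ m = 1
    rw [← pow_mul, Nat.mul_comm, pow_mul, hr0, hx]
  · apply Additive.toMul.injective
    show (r (m + 1) ^ l ^ n) ^ l = r m ^ l ^ n
    rw [← pow_mul, Nat.mul_comm, pow_mul, hr]
  · exact congrArg Additive.ofMul (hr0 n)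

theorem exists_div (v : AbDual.TateMod A l T) (h : cmp v 1 = 0) :
    ∃ w : AbDual.TateMod A l T, (l : ℤ_[l]) • w = v := by
  refine ⟨⟨fun m => cmp v (m + 1), fun m => ?_, fun m => AbDual.TateMod.compat v (m + 1)⟩, ?_⟩
  · show (l ^ m) • cmp v (m + 1) = 0
    rw [Nat.add_comm, pow_smul_shift]
    exact h
  · refine AbDual.TateMod.ext fun j => ?_
    refine (natCast_smul_apply l _ j).trans ?_
    exact AbDual.TateMod.compat v j

/-- The Tate module is finitely generated once the `l`-torsion is finite. -/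
theorem moduleFinite [Finite (AbDual.torsPts A l T)] : Module.Finite ℤ_[l] (AbDual.TateMod A l T) := by
  classical
  let V := AbDual.TateMod A l T
  let p1 : V → AbDual.torsPts A l T := fun v => ⟨(cmp v 1).toMul, by
    have := AbDual.TateMod.component_mem v 1
    rwa [pow_one] at this⟩
  haveI : Fintype (Set.range p1) := Fintype.ofFinite _
  choose e he using fun q : Set.range p1 => q.2
  let L : (Set.range p1 → ℤ_[l]) →ₗ[ℤ_[l]] V :=
    ∑ q, (LinearMap.proj q).smulRight (e q)
  refine Module.Finite.of_surjective L fun x => ?_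
  have step : ∀ y : V, ∃ (d : Set.range p1 → ℤ_[l]) (y' : V), y = L d + (l : ℤ_[l]) • y' := by
    intro y
    let q : Set.range p1 := ⟨p1 y, y, rfl⟩
    refine ⟨Pi.single q 1, ?_⟩
    have hL : L (Pi.single q 1) = e q := by
      simp [L, Pi.single_apply, ite_smul, Finset.sum_ite_eq']
    have h1 : cmp (y - L (Pi.single q 1)) 1 = 0 := by
      rw [hL]
      show cmp y 1 - cmp (e q) 1 = 0
      rw [sub_eq_zero]
      exact congrArg (fun z : AbDual.torsPts A l T => Additive.ofMul (z : T ⟶ A)) (he q).symm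
    obtain ⟨w, hw⟩ := exists_div _ h1
    exact ⟨w, by rw [hw, add_sub_cancel]⟩
  choose d y' hy using step
  let y : ℕ → V := fun m => Nat.rec x (fun _ z => y' z) m
  let c : ℕ → (Set.range p1 → ℤ_[l]) := fun m =>
    Nat.rec 0 (fun i z => z + ((l : ℤ_[l]) ^ i) • d (y i)) m
  have hc : ∀ m, x = L (c m) + ((l : ℤ_[l]) ^ m) • y m := by
    intro m
    induction m with
    | zero => simp [c, y]
    | succ m ih =>
      show x = L (c m + ((l : ℤ_[l]) ^ m) • d (y m)) + ((l : ℤ_[l]) ^ (m + 1)) • y' (y m)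
      rw [map_add, map_smul, pow_succ, mul_smul, add_assoc, ← smul_add, ← hy, ← ih]
  have hcauchy : ∀ (q : Set.range p1) {m n : ℕ}, m ≤ n →
      c m q ≡ c n q [SMOD IsLocalRing.maximalIdeal ℤ_[l] ^ m • (⊤ : Submodule ℤ_[l] ℤ_[l])] := by
    intro q m n hmn
    rw [SModEq.sub_mem, smul_eq_mul, Ideal.mul_top, PadicInt.maximalIdeal_eq_span_p,
      Ideal.span_singleton_pow, Ideal.mem_span_singleton]
    induction n, hmn using Nat.le_induction with
    | base => simp
    | succ n hn ih =>
      show (l : ℤ_[l]) ^ m ∣ c m q - (c n q + ((l : ℤ_[l]) ^ n) * d (y n) q)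
      rw [← sub_sub]
      exact dvd_sub ih ((pow_dvd_pow _ hn).mul_right _)
  choose lim hlim using fun q => IsPrecomplete.prec' (fun m => c m q) (hcauchy q)
  refine ⟨lim, sub_eq_zero.1 (AbDual.TateMod.ext fun m => ?_)⟩
  have hdiv : ∀ q, (l : ℤ_[l]) ^ m ∣ lim q - c m q := fun q => by
    have := (hlim q m).symm
    rwa [SModEq.sub_mem, smul_eq_mul, Ideal.mul_top, PadicInt.maximalIdeal_eq_span_p,
      Ideal.span_singleton_pow, Ideal.mem_span_singleton] at this
  choose g hg using hdiv
  have hlg : lim = c m + ((l : ℤ_[l]) ^ m) • g := funext fun q => by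
    simp [Pi.smul_apply, ← hg q]
  rw [hlg, hc m, map_add, map_smul, add_sub_add_left_eq_sub, ← smul_sub]
  refine (pow_smul_apply m _ m).trans ?_
  exact AbDual.TateMod.torsion _ m

end Groth.Agent.H4.TateBasic
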