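import Groth.Agent.H4.TateBasic
import Groth.Prelude.Def_AlgGrp
import Mathlib.GroupTheory.Torsion
import Mathlib.GroupTheory.Sylow

/-! The cokernel of the Tate map of a homomorphism with finite kernel on points and surjective on
points is the `l`-primary part of the kernel. -/

set_option autoImplicit false

universe u

open CategoryTheory MonoidalCategory CartesianMonoidalCategory MonObj AlgebraicGeometry

namespace Groth.Agent.H4.TateCoker

variable {S : Scheme.{u}} {X Y N : Over S} [GrpObj X] [IsCommMonObj X] [GrpObj Y] [IsCommMonObj Y]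
  [GrpObj N] [IsCommMonObj N] (T : Over S) (l : ℕ) [hl : Fact l.Prime]

theorem exists_coker (f : X ⟶ Y) [IsMonHom f] (i : N ⟶ X) [IsMonHom i] [Mono i]
    (hif : ∀ x : T ⟶ X, x ≫ f = 1 ↔ ∃ w, w ≫ i = x)
    [hfin : Finite (T ⟶ N)] (hsurj : ∀ y : T ⟶ Y, ∃ x, x ≫ f = y)
    (hdiv : ∀ y : T ⟶ X, ∃ x : T ⟶ X, x ^ l = y) :
    Function.Injective (AbDual.tateMapₗ (l := l) (T := T) f) ∧
      Nonempty ((AbDual.TateMod Y l T ⧸ LinearMap.range (AbDual.tateMapₗ (l := l) (T := T) f)) ≃+
        Additive ↥(CommGroup.primaryComponent (T ⟶ N) l)) := by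
  classical
  obtain ⟨e, u, hu, hcard⟩ := Nat.exists_eq_pow_mul_and_not_dvd (Nat.card_pos (α := (T ⟶ N))).ne' l hl.out.ne_one
  have hK : ∀ w : T ⟶ N, w ^ (l ^ e * u) = 1 := fun w => by rw [← hcard]; exact pow_card_eq_one'
  have hprim : ∀ w : T ⟶ N, ∀ j, w ^ (l ^ j) = 1 → w ^ (l ^ e) = 1 := by
    intro w j hw
    obtain ⟨i', hi', he⟩ := (Nat.dvd_prime_pow hl.out).1 (orderOf_dvd_of_pow_eq_one hw)
    refine orderOf_dvd_iff_pow_eq_one.1 ?_
    have h2 : orderOf w ∣ l ^ e * u := orderOf_dvd_of_pow_eq_one (hK w)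
    refine (Nat.Coprime.dvd_mul_right ?_).1 h2
    rw [he]
    exact ((hl.out.coprime_iff_not_dvd).2 hu).pow_left i'
  constructor
  · rw [injective_iff_map_eq_zero]
    intro v hv
    refine TateBasic.pow_smul_eq_zero v e (AbDual.TateMod.ext fun m => ?_)
    refine (TateBasic.pow_smul_apply e v m).trans ?_
    obtain ⟨w, hw⟩ := (hif ((v : ℕ → Additive (T ⟶ X)) m).toMul).1
      (congrArg (fun z : AbDual.TateMod Y l T => Additive.toMul ((z : ℕ → Additive (T ⟶ Y)) m)) hv)
    have hwm : (w ^ l ^ m) ≫ i = 1 ≫ i := by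
      rw [MonObj.pow_comp, hw, MonObj.one_comp]
      exact congrArg Additive.toMul (AbDual.TateMod.torsion v m)
    apply Additive.toMul.injective
    show ((v : ℕ → Additive (T ⟶ X)) m).toMul ^ l ^ e = 1
    rw [← hw, ← MonObj.pow_comp, hprim w m ((cancel_mono i).1 hwm), MonObj.one_comp]
  -- lifts of `l`-power torsion
  · have hlift : ∀ (m : ℕ) (y : T ⟶ Y), y ^ (l ^ m) = 1 →
        ∃ L : T ⟶ X, L ≫ f = y ∧ ∃ j, L ^ (l ^ j) = 1 := by
      intro m y hy
      obtain ⟨x, hx⟩ := hsurj y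
      obtain ⟨w, hw⟩ := (hif (x ^ l ^ m)).1 (by rw [MonObj.pow_comp, hx, hy])
      have hcop : Nat.Coprime u (l ^ m) :=
        ((hl.out.coprime_iff_not_dvd).2 hu).symm.pow_right m
      obtain ⟨v, hv⟩ := exists_pow_eq_self_of_coprime (x := y) (n := u)
        (Nat.Coprime.coprime_dvd_right (orderOf_dvd_of_pow_eq_one hy) hcop)
      refine ⟨(x ^ u) ^ v, by rw [MonObj.pow_comp, MonObj.pow_comp, hx, hv], m + e, ?_⟩
      have h1 : (x ^ u) ^ l ^ (m + e) = 1 := by
        rw [← pow_mul, pow_add, show u * (l ^ m * l ^ e) = l ^ m * (l ^ e * u) by ring, pow_mul, ← hw,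
          ← MonObj.pow_comp, hK, MonObj.one_comp]
      rw [← pow_mul, Nat.mul_comm, pow_mul, h1, one_pow]
    have huniq : ∀ L L' : T ⟶ X, L ≫ f = L' ≫ f → (∃ j, L ^ (l ^ j) = 1) → (∃ j, L' ^ (l ^ j) = 1) →
        L ^ (l ^ e) = L' ^ (l ^ e) := by
      rintro L L' h ⟨j, hj⟩ ⟨j', hj'⟩
      obtain ⟨w, hw⟩ := (hif (L / L')).1 (by rw [GrpObj.div_comp, h, div_self'])
      have hwj : (w ^ l ^ (j + j')) ≫ i = 1 ≫ i := by
        rw [MonObj.pow_comp, hw, div_pow, MonObj.one_comp, pow_add, pow_mul, hj, one_pow,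
          Nat.mul_comm, pow_mul, hj', one_pow, div_one]
      rw [← div_eq_one, ← div_pow, ← hw, ← MonObj.pow_comp, hprim w _ ((cancel_mono i).1 hwj),
        MonObj.one_comp]
    have htor : ∀ (v : AbDual.TateMod Y l T) (m : ℕ), ((v : ℕ → Additive (T ⟶ Y)) m).toMul ^ l ^ m = 1 :=
      fun v m => congrArg Additive.toMul (AbDual.TateMod.torsion v m)
    have hcompat : ∀ (v : AbDual.TateMod Y l T) (m : ℕ),
        ((v : ℕ → Additive (T ⟶ Y)) (m + 1)).toMul ^ l = ((v : ℕ → Additive (T ⟶ Y)) m).toMul :=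
      fun v m => congrArg Additive.toMul (AbDual.TateMod.compat v m)
    choose L hL hLt using fun (v : AbDual.TateMod Y l T) (m : ℕ) => hlift m _ (htor v m)
    have hD : ∀ v : AbDual.TateMod Y l T, ∃ w : CommGroup.primaryComponent (T ⟶ N) l,
        (w : T ⟶ N) ≫ i = L v e ^ l ^ e := by
      intro v
      obtain ⟨w, hw⟩ := (hif (L v e ^ l ^ e)).1 (by rw [MonObj.pow_comp, hL, htor])
      obtain ⟨j, hj⟩ := hLt v e
      have hwj : (w ^ l ^ j) ≫ i = 1 ≫ i := by
        rw [MonObj.pow_comp, hw, MonObj.one_comp, ← pow_mul, Nat.mul_comm, pow_mul, hj, one_pow]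
      have hw1 := hprim w j ((cancel_mono i).1 hwj)
      exact ⟨⟨w, ⟨e, hw1⟩⟩, hw⟩
    choose D hDi using hD
    have hDadd : ∀ v v', D (v + v') = D v * D v' := by
      intro v v'
      apply Subtype.ext
      rw [← cancel_mono i, hDi, Subgroup.coe_mul, MonObj.mul_comp, hDi, hDi, ← mul_pow]
      obtain ⟨j, hj⟩ := hLt v e
      obtain ⟨j', hj'⟩ := hLt v' e
      refine huniq _ _ (by rw [hL, MonObj.mul_comp, hL, hL]; rfl) (hLt _ _) ⟨j + j', ?_⟩
      rw [mul_pow, pow_add, pow_mul, hj, one_pow, _root_.one_mul, Nat.mul_comm, pow_mul, hj', one_pow]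
    let Δ : AbDual.TateMod Y l T →+ Additive ↥(CommGroup.primaryComponent (T ⟶ N) l) :=
      AddMonoidHom.mk' (fun v => Additive.ofMul (D v)) fun v v' => congrArg Additive.ofMul (hDadd v v')
    have hΔ : Function.Surjective Δ := by
      intro w
      obtain ⟨j, hj⟩ := w.toMul.2
      have hwe : (w.toMul : T ⟶ N) ^ l ^ e = 1 := hprim _ j hj
      choose ρ hρ using hdiv
      let r : ℕ → (T ⟶ X) := fun m => Nat.rec ((w.toMul : T ⟶ N) ≫ i) (fun _ y => ρ y) m
      have hr : ∀ m, r m ^ l ^ m = (w.toMul : T ⟶ N) ≫ i := by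
        intro m
        induction m with
        | zero => exact pow_one _
        | succ m ih => rw [pow_succ', pow_mul, show r (m + 1) ^ l = r m from hρ _, ih]
      have hwf : ((w.toMul : T ⟶ N) ≫ i) ≫ f = 1 := (hif _).2 ⟨_, rfl⟩
      let v : AbDual.TateMod Y l T := ⟨fun m => Additive.ofMul (r m ≫ f), fun m => by
          apply Additive.toMul.injective
          show (r m ≫ f) ^ l ^ m = 1
          rw [← MonObj.pow_comp, hr, hwf], fun m => by
          apply Additive.toMul.injective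
          show (r (m + 1) ≫ f) ^ l = r m ≫ f
          rw [← MonObj.pow_comp, show r (m + 1) ^ l = r m from hρ _]⟩
      refine ⟨v, ?_⟩
      show Additive.ofMul (D v) = w
      apply Additive.toMul.injective
      apply Subtype.ext
      rw [← cancel_mono i]
      refine (hDi v).trans ((huniq _ (r e) (hL v e) (hLt v e) ⟨e + e, ?_⟩).trans (hr e))
      rw [pow_add, pow_mul, hr, ← MonObj.pow_comp, hwe, MonObj.one_comp]
    have hker : (LinearMap.range (AbDual.tateMapₗ (l := l) (T := T) f)).toAddSubgroup = Δ.ker := by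
      ext v
      show v ∈ LinearMap.range _ ↔ Additive.ofMul (D v) = Additive.ofMul 1
      rw [Additive.ofMul.apply_eq_iff_eq, ← Subtype.coe_inj, ← cancel_mono i, hDi]
      show _ ↔ L v e ^ l ^ e = (1 : T ⟶ N) ≫ i
      rw [MonObj.one_comp]
      constructor
      · rintro ⟨x, rfl⟩
        have ht : ((x : ℕ → Additive (T ⟶ X)) e).toMul ^ l ^ e = 1 :=
          congrArg Additive.toMul (AbDual.TateMod.torsion x e)
        exact (huniq _ _ (hL _ e) (hLt _ e) ⟨e, ht⟩).trans ht
      · intro h0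
        have hz : ∀ m, (L v (m + 1 + e) ^ l ^ e) ^ l = L v (m + e) ^ l ^ e := by
          intro m
          rw [← pow_mul, Nat.mul_comm, pow_mul]
          obtain ⟨j, hj⟩ := hLt v (m + 1 + e)
          refine huniq _ _ ?_ ⟨j, ?_⟩ (hLt v _)
          · rw [MonObj.pow_comp, hL, hL, show m + 1 + e = m + e + 1 by omega, hcompat]
          · rw [← pow_mul, Nat.mul_comm, pow_mul, hj, one_pow]
        have ht : ∀ m, (L v (m + e) ^ l ^ e) ^ l ^ m = 1 := by
          intro m
          induction m with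
          | zero => rw [pow_zero, pow_one, Nat.zero_add]; exact h0
          | succ m ih => rw [pow_succ', pow_mul, hz, ih]
        refine ⟨⟨fun m => Additive.ofMul (L v (m + e) ^ l ^ e),
          fun m => Additive.toMul.injective (ht m), fun m => Additive.toMul.injective (hz m)⟩, ?_⟩
        refine AbDual.TateMod.ext fun m => Additive.toMul.injective ?_
        show (L v (m + e) ^ l ^ e) ≫ f = ((v : ℕ → Additive (T ⟶ Y)) m).toMul
        rw [MonObj.pow_comp, hL]
        exact congrArg Additive.toMul (TateBasic.pow_smul_shift v e m)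
    exact ⟨(QuotientAddGroup.quotientAddEquivOfEq hker).trans
      (QuotientAddGroup.quotientKerEquivOfSurjective Δ hΔ)⟩

end Groth.Agent.H4.TateCoker
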