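import Groth.Agent.H4.AVPoints
import Groth.Agent.H4.TateBasic
import Groth.Agent.H4.Factor

/-! A homomorphism divisible on the Tate module is divisible. -/

set_option autoImplicit false

universe u

open CategoryTheory MonoidalCategory CartesianMonoidalCategory MonObj AlgebraicGeometry

namespace Groth.Agent.H4.TateDiv

theorem exists_div {k K : Type u} [Field k] [Field K] [IsAlgClosed K]
    (b : Spec (CommRingCat.of K) ⟶ Spec (CommRingCat.of k)) {l : ℕ} [Fact l.Prime] (hl : (l : k) ≠ 0)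
    {A B : Over (Spec (CommRingCat.of k))}
    [GrpObj A] [IsCommMonObj A] [IsProper A.hom] [GeometricallyIntegral A.hom]
    [GrpObj B] [IsCommMonObj B] [IsProper B.hom]
    (φ : A ⟶ B) [IsMonHom φ] (n : ℕ)
    (u : AbDual.TateMod A l (Over.mk b) →ₗ[ℤ_[l]] AbDual.TateMod B l (Over.mk b))
    (hu : AbDual.tateMapₗ (l := l) (T := Over.mk b) φ = ((l : ℤ_[l]) ^ n) • u) :
    ∃ φ' : A ⟶ B, IsMonHom φ' ∧ φ = (𝟙 A ^ (l ^ n)) ≫ φ' := by
  have hn : ((l ^ n : ℕ) : k) ≠ 0 := by
    rw [Nat.cast_pow]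
    exact pow_ne_zero _ hl
  haveI := NPowEtale.isMonHom_pow_id A (l ^ n)
  haveI := NPowEtale.isFinite_pow (G := A) hn
  haveI := NPowEtale.surjective_pow (G := A) hn
  haveI := NPowEtale.etale_pow (G := A) hn
  obtain ⟨φ', h1, h2⟩ := Factor.exists_factor b ((𝟙 A : A ⟶ A) ^ (l ^ n)) φ fun P hP => by
    rw [MonObj.comp_pow, Category.comp_id] at hP
    obtain ⟨v, hv⟩ := TateBasic.exists_component
      (fun y => AVPoints.exists_root b hl y) n P hP
    have h3 := congrArg (fun g => ((g v : AbDual.TateMod B l (Over.mk b)) : ℕ → Additive (Over.mk b ⟶ B)) n) hu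
    have h4 := h3.trans ((TateBasic.pow_smul_apply n (u v) n).trans (AbDual.TateMod.torsion (u v) n))
    have h5 : Additive.ofMul
        (((v : ℕ → Additive (Over.mk b ⟶ A)) n).toMul ≫ φ) = 0 := h4
    simp only [hv, toMul_ofMul] at h5
    exact congrArg Additive.toMul h5
  exact ⟨φ', h1, h2.symm⟩

end Groth.Agent.H4.TateDiv
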